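import Groth.Agent.Lib.Gerbe.Diag

/-!
A morphism is a gerbe if it and its diagonal are fppf surjections.
-/

set_option autoImplicit false
set_option backward.isDefEq.respectTransparency false
set_option backward.isDefEq.respectTransparency.types false

universe u

open CategoryTheory CategoryTheory.Limits AlgebraicGeometry Opposite

namespace Groth.Agent.Lib.Gerbe.Criterion

open Groth.Agent.Lib.AlgStack
open Groth.Agent.Lib.AlgSpace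
open FibCat (IsFibGrpd fp fpFst fpSnd fpLift fpIso diag overCat)
open AlgSt (RepByAlgSp1 RepByAlgSpWith IsAlgStack)
open AlgSp (Sp yon IsAlgSpace LocP RepWith)
open BasedBasic
open H14.Sep.Lft (vOf)

variable {S : Scheme.{u}} {𝒳 𝒴 𝒵 : AlgSt.Cat S}

/-- Objects lift fppf locally along fppf surjections representable by algebraic spaces. -/
theorem exists_obj_lift {w : 𝒵 ⥤ᵇ 𝒴} (h𝒴 : IsFibGrpd 𝒴.p) (hw₁ : RepByAlgSpWith (LocP @Flat) w)
    (hw₂ : RepByAlgSpWith (LocP @LocallyOfFinitePresentation) w)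
    (hw₃ : RepByAlgSpWith AlgSp.IsSurjectiveMor w) (y : 𝒴.obj) :
    ∃ (T' : Over S) (s : T' ⟶ 𝒴.p.obj y), fppfCover s.left ∧
      ∃ (o : 𝒵.obj) (m : w.obj o ⟶ y), 𝒴.p.IsHomLift s m := by
  obtain ⟨T', s, hs, u, ⟨α⟩⟩ := H14.Sep.Cover.exists_lift hw₁ hw₂ hw₃ (Yoneda.fromObj h𝒴 (z := y) rfl)
  obtain ⟨ε, hε⟩ := Yoneda.exists_fromObj_iso h𝒴 (z := y) rfl
  let o' : (overCat T').obj := Over.mk (𝟙 T')
  let v : Over (𝒴.p.obj y) := (vOf s).obj o'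
  let z := Yoneda.fromObj h𝒴 (z := y) rfl
  have h1 : 𝒴.p.IsHomLift v.hom (z.map (Yoneda.toId v)) := Yoneda.map_toId_isHomLift z v
  have h1' : 𝒴.p.IsHomLift s (z.map (Yoneda.toId v)) := by
    have hv : v.hom = s := Category.id_comp s
    exact hv ▸ h1
  have hi' : 𝒴.p.IsHomLift (𝟙 T') (appIso α o').hom := appIso_isHomLift α o'
  have hi : 𝒴.p.IsHomLift (𝟙 T') (appIso α o').inv := IsHomLift.lift_id_inv 𝒴.p T' (appIso α o')
  have h2 : 𝒴.p.IsHomLift (𝟙 T' ≫ s ≫ 𝟙 (𝒴.p.obj y)) ((appIso α o').inv ≫ z.map (Yoneda.toId v) ≫ ε.hom) :=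
    inferInstance
  rw [Category.comp_id, Category.id_comp] at h2
  exact ⟨T', s, hs.fppfCover, u.obj o', _, h2⟩

/-- Local lifting of objects along an fppf surjection representable by algebraic spaces. -/
theorem locSurjObj_of_rep (h𝒵 : IsFibGrpd 𝒵.p) (h𝒴 : IsFibGrpd 𝒴.p) {w : 𝒵 ⥤ᵇ 𝒴}
    (hw₁ : RepByAlgSpWith (LocP @Flat) w)
    (hw₂ : RepByAlgSpWith (LocP @LocallyOfFinitePresentation) w)
    (hw₃ : RepByAlgSpWith AlgSp.IsSurjectiveMor w) :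
    Gerb.LocSurjObj (QuotSh.J Scheme.fppfPrecoverage S) w := by
  refine Formal.locSurjObj_of_mem _ h𝒵 fun y => ?_
  obtain ⟨T', s, hs, o, m, hm⟩ := exists_obj_lift h𝒴 hw₁ hw₂ hw₃ y
  refine GrothendieckTopology.superset_covering _ ?_ (singleton_mem_J s hs)
  rw [Sieve.generate_le_iff]
  rintro _ _ ⟨⟨⟩⟩
  exact ⟨o, m, hm⟩

/-- Local lifting of morphisms when the diagonal is an fppf surjection. -/
theorem locSurjHom_of_diag (h𝒳 : IsFibGrpd 𝒳.p) (h𝒴 : IsFibGrpd 𝒴.p) {f : 𝒳 ⥤ᵇ 𝒴}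
    (hd₁ : RepByAlgSpWith (LocP @Flat) (diag f))
    (hd₂ : RepByAlgSpWith (LocP @LocallyOfFinitePresentation) (diag f))
    (hd₃ : RepByAlgSpWith AlgSp.IsSurjectiveMor (diag f)) :
    Gerb.LocSurjHom (QuotSh.J Scheme.fppfPrecoverage S) f := by
  refine Formal.locSurjHom_of_mem _ h𝒳 fun x x' b hb => ?_
  have := BasedBasic.isIso_of_isHomLift_id h𝒴 (R := 𝒳.p.obj x) b
  let η : (fp f f).obj := FibProd.objMk x x' (asIso b) hb
  obtain ⟨T', s, hs, o, m, hm⟩ := exists_obj_lift (FibProd.isFibGrpd_fp h𝒳 h𝒳 h𝒴) hd₁ hd₂ hd₃ η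
  refine GrothendieckTopology.superset_covering _ ?_ (singleton_mem_J s hs)
  rw [Sieve.generate_le_iff]
  rintro _ _ ⟨⟨⟩⟩
  have h1 : 𝒳.p.IsHomLift s m.hom.fst := BasedFunctor.preserves_isHomLift (fpFst f f) s m
  have h2 : 𝒳.p.IsHomLift s m.hom.snd := BasedFunctor.preserves_isHomLift (fpSnd f f) s m
  have w : f.map m.hom.fst ≫ b = 𝟙 _ ≫ f.map m.hom.snd := m.hom.w
  exact ⟨o, m.hom.fst, m.hom.snd, h1, h2, w.trans (Category.id_comp _)⟩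

/-- Local lifting of objects along a flat, locally finitely presented surjection. -/
theorem locSurjObj_of_locQ (h𝒳 : IsAlgStack Scheme.fppfPrecoverage 𝒳) (h𝒴 : IsAlgStack Scheme.fppfPrecoverage 𝒴)
    {f : 𝒳 ⥤ᵇ 𝒴} (h₁ : AlgSt.LocQ (LocP @Flat) f) (h₂ : AlgSt.LocQ (LocP @LocallyOfFinitePresentation) f)
    (h₃ : AlgSt.IsSurjective f) : Gerb.LocSurjObj (QuotSh.J Scheme.fppfPrecoverage S) f := by
  obtain ⟨W, a, ha, ha'⟩ := h𝒳.atlas
  refine Formal.locSurjObj_of_comp _ (F := a) (locSurjObj_of_rep (Yoneda.isFibGrpd_overCat W) h𝒴.isStack.1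
    (H14.Chart.LocQ.rep_chart_comp_locP SourceDescent.Scheme.flat H14.Chart.SmLocal.isSmoothLocalST_flat
      (fun _ _ g (hg : Smooth g) => by infer_instance) h𝒳 h𝒴 h₁ ha)
    (H14.Chart.LocQ.rep_chart_comp_locP SourceDescent.Scheme.locallyOfFinitePresentation
      H14.Chart.SmLocal.isSmoothLocalST_lfp (fun _ _ g (hg : Smooth g) => by infer_instance) h𝒳 h𝒴 h₂ ha)
    (H14.Chart.Points.rep_of_isSurjective h𝒴.isStack.1 (Yoneda.isFibGrpd_overCat W)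
      (H14.Chart.LocQ.repByAlgSp1_chart h𝒴 _)
      (H14.Chart.LocQ.surjective_comp (H14.Chart.Points.isSurjective_of_rep h𝒳.isStack.1 ha') h₃)))

/-- A gerbe, from the properties of the morphism and its diagonal. -/
theorem isGerbeOver (h𝒳 : IsAlgStack Scheme.fppfPrecoverage 𝒳) (h𝒴 : IsAlgStack Scheme.fppfPrecoverage 𝒴)
    {f : 𝒳 ⥤ᵇ 𝒴} (h₁ : AlgSt.LocQ (LocP @Flat) f) (h₂ : AlgSt.LocQ (LocP @LocallyOfFinitePresentation) f)
    (h₃ : AlgSt.IsSurjective f) (hd₁ : AlgSt.LocQ (LocP @Flat) (diag f))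
    (hd₂ : AlgSt.LocQ (LocP @LocallyOfFinitePresentation) (diag f)) (hd₃ : AlgSt.IsSurjective (diag f)) :
    Gerb.IsGerbeOver (QuotSh.J Scheme.fppfPrecoverage S) f :=
  have hr := H14.Sep.Main2.rep1_diag' h𝒳 h𝒴 f
  have hff := H14.Chart.Basic.isAlgStack_fp h𝒴 h𝒳 h𝒳 f f
  ⟨locSurjObj_of_locQ h𝒳 h𝒴 h₁ h₂ h₃, locSurjHom_of_diag h𝒳.isStack.1 h𝒴.isStack.1
    (H14.Chart.LocQ.repByAlgSpWith_of_locQ H14.Chart.SmLocal.isSmoothLocalST_flat
      (H14.Sep.SpProps.stableBC_locP SourceDescent.Scheme.flat) h𝒳 hff hr hd₁)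
    (H14.Chart.LocQ.repByAlgSpWith_of_locQ H14.Chart.SmLocal.isSmoothLocalST_lfp
      (H14.Sep.SpProps.stableBC_locP SourceDescent.Scheme.locallyOfFinitePresentation) h𝒳 hff hr hd₂)
    (H14.Chart.Points.rep_of_isSurjective hff.isStack.1 h𝒳.isStack.1 hr hd₃)⟩

/-- Being a gerbe descends along flat, locally finitely presented surjections. -/
theorem isGerbeOver_descend (h𝒳 : IsAlgStack Scheme.fppfPrecoverage 𝒳) (h𝒴 : IsAlgStack Scheme.fppfPrecoverage 𝒴)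
    (h𝒵 : IsAlgStack Scheme.fppfPrecoverage 𝒵) (f : 𝒳 ⥤ᵇ 𝒴) (g : 𝒵 ⥤ᵇ 𝒴)
    (hg₁ : AlgSt.LocQ (LocP @Flat) g) (hg₂ : AlgSt.LocQ (LocP @LocallyOfFinitePresentation) g)
    (hg₃ : AlgSt.IsSurjective g)
    (h : Gerb.IsGerbeOver (QuotSh.J Scheme.fppfPrecoverage S) (fpFst g f)) :
    Gerb.IsGerbeOver (QuotSh.J Scheme.fppfPrecoverage S) f := by
  have hQ := H14.Chart.Basic.isAlgStack_fp h𝒴 h𝒵 h𝒳 g f
  exact Formal.isGerbeOver_of_locSurjObj _ h𝒳.isStack.1 h𝒴.isStack.1 h𝒵.isStack.1 hQ.isStack.1 (fpIso g f)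
    (isEquivOver_id (𝒳 := fp g f)) (locSurjObj_of_locQ h𝒵 h𝒴 hg₁ hg₂ hg₃) h

end Groth.Agent.Lib.Gerbe.Criterion
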