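import Groth.Agent.Lib.Gerbe.Surj
import Groth.Agent.H14.Chart.UnivInj
import Groth.Agent.H14.Chart.OpenSmooth
import Groth.Agent.H14.Chart.LocQ4

/-!
The diagonal of a gerbe is surjective, flat and locally of finite presentation.
-/

set_option autoImplicit false
set_option backward.isDefEq.respectTransparency false
set_option backward.isDefEq.respectTransparency.types false

universe u

open CategoryTheory CategoryTheory.Limits AlgebraicGeometry Opposite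

namespace Groth.Agent.Lib.Gerbe.Diag

open Groth.Agent.Lib.AlgStack
open Groth.Agent.Lib.AlgSpace
open FibCat (IsEquivOver IsFibGrpd fp fpFst fpSnd fpLift fpIso diag overCat toSelf inertia inertiaToBase InertiaObj)
open AlgSt (ofSp ofSpMap overMap RepByAlgSp1 RepByAlgSpWith IsAlgStack)
open AlgSp (Sp yon IsAlgSpace LocP RepWith)
open BasedBasic
open H14.Sep.Lft (vOf)
open H14.Sep.SpProps (StableBC FromSchemes)
open H14.Sep.Cover (Fppf Descends)

variable {S : Scheme.{u}} {𝒳 𝒴 : AlgSt.Cat S} {U V W : Over S}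

/-- Morphisms of a slice lying over the same morphism agree. -/
theorem overCat_ext {T T' : Over S} {f : T ⟶ T'} {a b : (overCat V).obj} {φ ψ : a ⟶ b}
    [(overCat V).p.IsHomLift f φ] [(overCat V).p.IsHomLift f ψ] : φ = ψ :=
  Over.OverMorphism.ext ((IsHomLift.fac' (overCat V).p f φ).trans (IsHomLift.fac' (overCat V).p f ψ).symm)

/-- The inertia of a stack over a scheme. -/
def toRelInertia (π : 𝒳 ⥤ᵇ overCat V) : inertia (toSelf 𝒳) ⥤ᵇ inertia π where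
  toFunctor :=
    { obj := fun z => ⟨z.pt, z.aut, Over.OverMorphism.ext (by
        have h := Functor.congr_hom π.w z.aut.hom
        have hz : 𝒳.p.map z.aut.hom = 𝟙 _ := z.map_aut
        rw [hz] at h
        simp at h
        exact h)⟩
      map := fun m => ⟨m.hom, m.comm⟩ }
  w := rfl

theorem isEquivOver_toRelInertia (π : 𝒳 ⥤ᵇ overCat V) : IsEquivOver (toRelInertia π) := by
  have : (toRelInertia π).toFunctor.Faithful :=
    ⟨fun {a b φ ψ} h => InertiaObj.hom_ext (congrArg (fun m => m.hom) h)⟩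
  have : (toRelInertia π).toFunctor.Full := ⟨fun {a b} m => ⟨⟨m.hom, m.comm⟩, rfl⟩⟩
  refine BasedBasic.isEquivOver_of _ fun z => ?_
  let y : (inertia (toSelf 𝒳)).obj := ⟨z.pt, z.aut, by
    change 𝒳.p.map z.aut.hom = 𝟙 _
    have h := Functor.congr_hom π.w.symm z.aut.hom
    rw [Functor.comp_map, z.map_aut] at h
    simp at h
    exact h⟩
  exact ⟨y, Iso.refl _, IsHomLift.id rfl⟩

variable {P : MorphismProperty (Sp S)}

/-- The diagonal of a gerbe over a scheme with a section. -/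
theorem diag_of_section (hP : StableBC P) (hPs : FromSchemes P) (hd : Descends P)
    (h𝒳 : IsAlgStack Scheme.fppfPrecoverage 𝒳) (π : 𝒳 ⥤ᵇ overCat V)
    (hπ : Gerb.LocSurjHom (QuotSh.J Scheme.fppfPrecoverage S) π) (x : overCat V ⥤ᵇ 𝒳)
    (e : BasedFunctor.comp x π ≅ BasedFunctor.id (overCat V))
    (hJ : ∀ (A : AlgSp.Space S) (E : ofSp A.obj ⥤ᵇ fp x (inertiaToBase (toSelf 𝒳))),
      IsEquivOver E → P (AutSpace.gam E)) :
    RepByAlgSpWith P (diag π) := by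
  obtain ⟨hx₁, hx₂, hx₃⟩ := SectionSpace.section_props h𝒳 π hπ x e
  refine H14.Sep.Cover.rep_descend hP hPs hd
    (H14.Sep.Main2.rep1_diag' h𝒳 (H14.Chart.Basic.isAlgStack_overCat V) π) fun T z => ?_
  obtain ⟨T₁, s₁, hs₁, u₁, ⟨α₁⟩⟩ := H14.Sep.Cover.exists_lift hx₁ hx₂ hx₃ (BasedFunctor.comp z (fpFst π π))
  obtain ⟨T₂, s₂, hs₂, u₂, ⟨α₂⟩⟩ := H14.Sep.Cover.exists_lift hx₁ hx₂ hx₃
    (BasedFunctor.comp (vOf s₁) (BasedFunctor.comp z (fpSnd π π)))
  let s := s₂ ≫ s₁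
  have hs : Fppf s := by
    have := hs₁.1; have := hs₁.2.1; have := hs₁.2.2
    have := hs₂.1; have := hs₂.2.1; have := hs₂.2.2
    refine ⟨?_, ?_, ?_⟩ <;> (rw [Over.comp_left]; infer_instance)
  refine ⟨T₂, s, hs, ?_⟩
  let z' := BasedFunctor.comp (vOf s) z
  let φ := BasedFunctor.comp (vOf s₂) u₁
  let e₁ : BasedFunctor.comp z' (fpFst π π) ≅ BasedFunctor.comp φ x :=
    (isoWhiskerRight (eqToIso (H14.Sep.Lft.vOf_comp s₂ s₁)) (BasedFunctor.comp z (fpFst π π))).symm ≪≫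
      isoWhiskerLeft (vOf s₂) α₁
  let e₂' : BasedFunctor.comp z' (fpSnd π π) ≅ BasedFunctor.comp u₂ x :=
    (isoWhiskerRight (eqToIso (H14.Sep.Lft.vOf_comp s₂ s₁)) (BasedFunctor.comp z (fpSnd π π))).symm ≪≫ α₂
  let δ : φ ≅ u₂ :=
    (isoWhiskerLeft φ e).symm ≪≫ (isoWhiskerRight e₁ π).symm ≪≫ isoWhiskerLeft z' (fpIso π π) ≪≫
      isoWhiskerRight e₂' π ≪≫ isoWhiskerLeft u₂ e
  let e₂ : BasedFunctor.comp z' (fpSnd π π) ≅ BasedFunctor.comp φ x :=
    e₂' ≪≫ isoWhiskerRight δ.symm x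
  let ε : BasedFunctor.comp (BasedFunctor.comp φ x) (diag π) ≅ z' :=
    (Lib.Fibred.Slice.fpIsoMk (K := z') (L := BasedFunctor.comp (BasedFunctor.comp φ x) (diag π)) e₁ e₂ fun w => by
      have h1 := Lib.Fibred.EquivOver.appIso_isHomLift e₁ w (rfl : (overCat T₂).p.obj w = _)
      have h2 := Lib.Fibred.EquivOver.appIso_isHomLift e₂ w (rfl : (overCat T₂).p.obj w = _)
      have h3 : (overCat V).p.IsHomLift (𝟙 ((overCat T₂).p.obj w)) (z'.obj w).obj.iso.hom := by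
        rw [← z'.w_obj w]; exact (z'.obj w).property
      have h4 : (overCat V).p.IsHomLift (𝟙 ((overCat T₂).p.obj w))
          ((BasedFunctor.comp (BasedFunctor.comp φ x) (diag π)).obj w).obj.iso.hom :=
        IsHomLift.id ((π.w_obj _).trans ((BasedFunctor.comp φ x).w_obj w))
      have h1' := BasedFunctor.preserves_isHomLift π (𝟙 ((overCat T₂).p.obj w)) (Lib.Fibred.EquivOver.appIso e₁ w).hom
      have h2' := BasedFunctor.preserves_isHomLift π (𝟙 ((overCat T₂).p.obj w)) (Lib.Fibred.EquivOver.appIso e₂ w).hom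
      exact overCat_ext (f := 𝟙 ((overCat T₂).p.obj w))).symm
  -- the inertia
  let J := inertiaToBase (toSelf 𝒳)
  obtain ⟨A, E, hE, -⟩ := H14.Sep.Inertia.inertiaToBase_of_diag (Rep.repByAlgSpWith_top_iff.2 h𝒳.diag) V x
  have hI : RepByAlgSpWith P (fpFst x J) := SectionSpace.rep_fpFst hP E hE (hJ A E hE)
  let d := fpFst (diag π) (diag π)
  let Ψ := BasedFunctor.comp (toRelInertia π) (H14.Sep.Inertia.toDiagSq π)
  have hΨ : IsEquivOver Ψ :=
    IsEquivOver.comp (isEquivOver_toRelInertia π) (H14.Sep.Inertia.isEquivOver_toDiagSq π)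
  have hid : IsEquivOver (BasedFunctor.id 𝒳) := isEquivOver_id
  have := IsEquivOver.full hid
  have := IsEquivOver.faithful hid
  have hI' : RepByAlgSpWith P (fpFst x d) :=
    (Rep.repByAlgSpWith_iff_of_isEquivOver (f := fpFst x d) (f' := fpFst x J)
      (FibProd.isEquivOver_fpMap (BasedFunctor.id (overCat V)) Ψ (BasedFunctor.id 𝒳)
        (F := x) (G := d) (F' := x) (G' := J) (Iso.refl _) (Iso.refl _) isEquivOver_id hΨ)
      isEquivOver_id (Iso.refl _)).2 hI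
  have h1 : RepByAlgSpWith P (fpFst (BasedFunctor.comp x (diag π)) (diag π)) :=
    (Rep.repByAlgSpWith_iff_of_isEquivOver (f := fpFst (BasedFunctor.comp x (diag π)) (diag π))
      (f' := fpFst x d) (Rep.isEquivOver_pasteBase x (diag π) (diag π)) isEquivOver_id
      (eqToIso (Rep.pasteBase_fst x (diag π) (diag π)).symm)).2 hI'
  have h2 : RepByAlgSpWith P (fpFst (BasedFunctor.comp (BasedFunctor.comp φ x) (diag π)) (diag π)) :=
    (Rep.repByAlgSpWith_iff_of_isEquivOver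
      (f := fpFst (BasedFunctor.comp (BasedFunctor.comp φ x) (diag π)) (diag π))
      (f' := fpFst φ (fpFst (BasedFunctor.comp x (diag π)) (diag π)))
      (Rep.isEquivOver_pasteBase φ (BasedFunctor.comp x (diag π)) (diag π)) isEquivOver_id
      (eqToIso (Rep.pasteBase_fst φ (BasedFunctor.comp x (diag π)) (diag π)).symm)).2
        (Rep.repByAlgSpWith_fpFst φ h1)
  exact (Rep.repByAlgSpWith_iff_of_isEquivOver (f := fpFst z' (diag π))
    (f' := fpFst (BasedFunctor.comp (BasedFunctor.comp φ x) (diag π)) (diag π))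
    (FibProd.isEquivOver_congrLeft ε (diag π)) isEquivOver_id
    (eqToIso (FibProd.congrLeft_fst ε (diag π)).symm)).2 h2

/-- The diagonal of a gerbe, from the automorphisms of sections. -/
theorem diag_of_gerbe (hP : StableBC P) (hPs : FromSchemes P) (hd : Descends P)
    (hJ : ∀ {𝒵 : AlgSt.Cat S} {V : Over S}, IsAlgStack Scheme.fppfPrecoverage 𝒵 → ∀ (π : 𝒵 ⥤ᵇ overCat V),
      Gerb.LocSurjHom (QuotSh.J Scheme.fppfPrecoverage S) π → ∀ (x : overCat V ⥤ᵇ 𝒵),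
      (BasedFunctor.comp x π ≅ BasedFunctor.id (overCat V)) →
      ∀ (A : AlgSp.Space S) (E : ofSp A.obj ⥤ᵇ fp x (inertiaToBase (toSelf 𝒵))),
        IsEquivOver E → P (AutSpace.gam E))
    (h𝒳 : IsAlgStack Scheme.fppfPrecoverage 𝒳) (h𝒴 : IsAlgStack Scheme.fppfPrecoverage 𝒴)
    (f : 𝒳 ⥤ᵇ 𝒴) (hf : Gerb.IsGerbeOver (QuotSh.J Scheme.fppfPrecoverage S) f) :
    RepByAlgSpWith P (diag f) := by
  obtain ⟨W, a, ha, ha'⟩ := h𝒳.atlas
  let w := BasedFunctor.comp a f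
  have hw : RepByAlgSpWith (LocP @Smooth) w :=
    H14.Chart.LocQ.rep_chart_comp_locP H14.Chart.LocQ.smoothST H14.Chart.OpenSmooth.isSmoothLocalST_smooth le_rfl h𝒳 h𝒴
      (Surj.locQ_smooth h𝒳 h𝒴 f hf) ha
  have hws : RepByAlgSpWith AlgSp.IsSurjectiveMor w :=
    H14.Chart.Points.rep_of_isSurjective h𝒴.isStack.1 (Yoneda.isFibGrpd_overCat W)
      (H14.Chart.LocQ.repByAlgSp1_chart h𝒴 _)
      (H14.Chart.LocQ.surjective_comp (H14.Chart.Points.isSurjective_of_rep h𝒳.isStack.1 ha')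
        (Surj.surjective h𝒳.isStack.1 h𝒴.isStack.1 f hf.1))
  refine H14.Sep.Cover.diag_descend hP hPs hd (H14.Sep.Main2.rep1_diag' h𝒳 h𝒴 f)
    (SliceEtale.flat_of_smooth hw) (SliceEtale.lfp_of_smooth hw) hws ?_
  let x : overCat W ⥤ᵇ fp w f := fpLift (BasedFunctor.id _) a (Iso.refl w)
  have hfp := H14.Chart.Basic.isAlgStack_fp h𝒴 (H14.Chart.Basic.isAlgStack_overCat W) h𝒳 w f
  have hg : Gerb.IsGerbeOver (QuotSh.J Scheme.fppfPrecoverage S) (fpFst w f) :=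
    Formal.isGerbeOver_fpFst _ w h𝒳.isStack.1 h𝒴.isStack.1 (Yoneda.isFibGrpd_overCat W) hf
  exact diag_of_section hP hPs hd hfp (fpFst w f) hg.2 x (Iso.refl _) (hJ hfp _ hg.2 x (Iso.refl _))

end Groth.Agent.Lib.Gerbe.Diag

namespace Groth.Agent.Lib.Gerbe.Diag

open Groth.Agent.Lib.AlgStack
open Groth.Agent.Lib.AlgSpace
open FibCat (diag fp fpFst fpSnd fpLift inertiaToBase)
open AlgSt (RepByAlgSp1 RepByAlgSpWith IsAlgStack)
open AlgSp (Sp yon IsAlgSpace LocP RepWith)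

variable {S : Scheme.{u}} {𝒳 𝒴 : AlgSt.Cat S}

/-- The diagonal of a gerbe is flat, locally of finite presentation and surjective. -/
theorem diag_props (h𝒳 : IsAlgStack Scheme.fppfPrecoverage 𝒳) (h𝒴 : IsAlgStack Scheme.fppfPrecoverage 𝒴)
    (f : 𝒳 ⥤ᵇ 𝒴) (hf : Gerb.IsGerbeOver (QuotSh.J Scheme.fppfPrecoverage S) f) :
    RepByAlgSpWith (LocP @Flat) (diag f) ∧ RepByAlgSpWith (LocP @LocallyOfFinitePresentation) (diag f) ∧
      RepByAlgSpWith AlgSp.IsSurjectiveMor (diag f) := by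
  have eF := SourceDescent.Scheme.flat.{u}
  have eP := SourceDescent.Scheme.locallyOfFinitePresentation.{u}
  have : MorphismProperty.DescendsAlong @Flat.{u}
      (@Surjective ⊓ @Flat ⊓ @LocallyOfFinitePresentation) :=
    AlgSpMor.RepBySp.descendsAlong_fppf _ inferInstance inferInstance
  refine ⟨?_, ?_, ?_⟩
  · refine diag_of_gerbe (H14.Sep.SpProps.stableBC_locP eF) (H14.Sep.SpProps.fromSchemes_locP eF)
      (fun G T' T γ s hG hs h => H14.Sep.Cover.locP_descend eF hG hs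
        (fun _ _ _ _ _ _ _ g sq f1 f2 f3 h' => MorphismProperty.of_isPullback_of_descendsAlong (P := @Flat)
          (Q := (@Surjective ⊓ @Flat ⊓ @LocallyOfFinitePresentation : MorphismProperty Scheme.{u}))
          sq.flip ⟨⟨f3, f1⟩, f2⟩ h') h) ?_ h𝒳 h𝒴 f hf
    exact fun h π hπ x e A E hE => (SectionSpace.gam_props h π hπ x e A E hE).1
  · refine diag_of_gerbe (H14.Sep.SpProps.stableBC_locP eP) (H14.Sep.SpProps.fromSchemes_locP eP)
      H14.IsoNat.Main.descends_lfp ?_ h𝒳 h𝒴 f hf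
    exact fun h π hπ x e A E hE => (SectionSpace.gam_props h π hπ x e A E hE).2.1
  · refine diag_of_gerbe SliceEtale.stableBC_surjective IsAlgFp.detected_surjective
      SliceEtale.descends_surjective ?_ h𝒳 h𝒴 f hf
    exact fun h π hπ x e A E hE => (SectionSpace.gam_props h π hπ x e A E hE).2.2

theorem surjective_diag (h𝒳 : IsAlgStack Scheme.fppfPrecoverage 𝒳) (h𝒴 : IsAlgStack Scheme.fppfPrecoverage 𝒴)
    (f : 𝒳 ⥤ᵇ 𝒴) (hf : Gerb.IsGerbeOver (QuotSh.J Scheme.fppfPrecoverage S) f) :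
    AlgSt.IsSurjective (diag f) :=
  H14.Chart.Points.isSurjective_of_rep (FibProd.isFibGrpd_fp h𝒳.isStack.1 h𝒳.isStack.1 h𝒴.isStack.1)
    (diag_props h𝒳 h𝒴 f hf).2.2

end Groth.Agent.Lib.Gerbe.Diag

namespace Groth.Agent.Lib.Gerbe.Diag

open Groth.Agent.Lib.AlgStack
open FibCat (diag fp fpFst fpSnd fpLift)
open AlgSt (RepByAlgSp1 RepByAlgSpWith IsAlgStack)
open AlgSp (Sp yon IsAlgSpace LocP RepWith)

variable {S : Scheme.{u}} {𝒳 𝒴 : AlgSt.Cat S}

theorem locQ_mono {P Q : MorphismProperty Scheme.{u}} (hPQ : P ≤ Q) {f : 𝒳 ⥤ᵇ 𝒴}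
    (h : AlgSt.LocQ (LocP P) f) : AlgSt.LocQ (LocP Q) f := by
  obtain ⟨U, V, x, y, k, ι, h1, h2, h3, h4⟩ := h
  exact ⟨U, V, x, y, k, ι, h1, h2, h3, H14.Chart.SmLocal.locP_mono hPQ h4⟩

theorem locQ_flat_lfp (h𝒳 : IsAlgStack Scheme.fppfPrecoverage 𝒳) (h𝒴 : IsAlgStack Scheme.fppfPrecoverage 𝒴)
    (f : 𝒳 ⥤ᵇ 𝒴) (hf : Gerb.IsGerbeOver (QuotSh.J Scheme.fppfPrecoverage S) f) :
    AlgSt.LocQ (LocP @Flat) f ∧ AlgSt.LocQ (LocP @LocallyOfFinitePresentation) f :=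
  have h := Surj.locQ_smooth h𝒳 h𝒴 f hf
  ⟨locQ_mono (fun _ _ g (hg : AlgebraicGeometry.Smooth g) => by infer_instance) h,
    locQ_mono (fun _ _ g (hg : AlgebraicGeometry.Smooth g) => by infer_instance) h⟩

/-- A gerbe is a universal homeomorphism. -/
theorem isUnivHomeo (h𝒳 : IsAlgStack Scheme.fppfPrecoverage 𝒳) (h𝒴 : IsAlgStack Scheme.fppfPrecoverage 𝒴)
    (f : 𝒳 ⥤ᵇ 𝒴) (hf : Gerb.IsGerbeOver (QuotSh.J Scheme.fppfPrecoverage S) f) :
    AlgSt.IsUnivHomeo Scheme.fppfPrecoverage f := fun 𝒵 h𝒵 g => by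
  have hQ := H14.Chart.Basic.isAlgStack_fp h𝒴 h𝒵 h𝒳 g f
  have hg := Formal.isGerbeOver_fpFst _ g h𝒳.isStack.1 h𝒴.isStack.1 h𝒵.isStack.1 hf
  obtain ⟨h1, h2⟩ := locQ_flat_lfp hQ h𝒵 _ hg
  exact ⟨H14.Chart.Basic.continuous_map h𝒵 _, H14.Chart.LocQ.isOpenMor_of_flat_lfp hQ h𝒵 h1 h2,
    (H14.Chart.UnivInj.surjective_diag_iff h𝒳 h𝒴 f).2 (surjective_diag h𝒳 h𝒴 f hf) 𝒵 h𝒵 g,
    Surj.surjective hQ.isStack.1 h𝒵.isStack.1 _ hg.1⟩

end Groth.Agent.Lib.Gerbe.Diag
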