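import Groth.Prelude.Def_StGerb
import Groth.Agent.Lib.Fibred.StackLocal
import Groth.Agent.Lib.AlgStack.BasedBasic

/-!
Formal properties of relative gerbes: composition, base change, descent.
-/

set_option autoImplicit false
set_option backward.isDefEq.respectTransparency false
set_option backward.isDefEq.respectTransparency.types false

universe v₂ u₂ v₃ u₃ v₄ u₄ v₅ u₅ v u

open CategoryTheory CategoryTheory.Functor Groth.Agent.Lib.Fibred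
  Groth.Agent.Lib.Fibred.Basic Groth.Agent.Lib.Fibred.Descent
  Groth.Agent.Lib.Fibred.StackLemmas

namespace Groth.Agent.Lib.Gerbe.Formal

variable {C : Type u} [Category.{v} C] (J : GrothendieckTopology C)
  {𝒳 : BasedCategory.{v₂, u₂} C} {𝒴 : BasedCategory.{v₃, u₃} C} {𝒵 : BasedCategory.{v₄, u₄} C}
  {𝒲 : BasedCategory.{v₅, u₅} C}

/-- The sieve of arrows over which an object comes from the source. -/
def objSieve (F : 𝒳 ⥤ᵇ 𝒴) (h : FibCat.IsFibGrpd 𝒳.p) (y : 𝒴.obj) (U : C) : Sieve U where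
  arrows V f := ∃ (x : 𝒳.obj) (g : F.obj x ⟶ y), 𝒴.p.IsHomLift f g
  downward_closed := by
    rintro V V' f ⟨x, g, hg⟩ k
    have hx : 𝒳.p.obj x = V := (F.w_obj x).symm.trans (IsHomLift.domain_eq 𝒴.p f g)
    obtain ⟨x', ψ, hψ⟩ := exists_lift h hx k
    exact ⟨x', F.map ψ ≫ g, inferInstance⟩

theorem objSieve_mem {F : 𝒳 ⥤ᵇ 𝒴} (hF : Gerb.LocSurjObj J F) (h : FibCat.IsFibGrpd 𝒳.p)
    {y : 𝒴.obj} {U : C} (hy : 𝒴.p.obj y = U) : objSieve F h y U ∈ J U := by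
  subst hy
  obtain ⟨R, hR, hl⟩ := hF y
  exact J.superset_covering (fun V f hf => hl f hf) hR

theorem locSurjObj_of_mem {F : 𝒳 ⥤ᵇ 𝒴} (h : FibCat.IsFibGrpd 𝒳.p)
    (H : ∀ y : 𝒴.obj, objSieve F h y (𝒴.p.obj y) ∈ J (𝒴.p.obj y)) : Gerb.LocSurjObj J F :=
  fun y => ⟨_, H y, fun _ _ hf => hf⟩

/-- The sieve of arrows over which a morphism between images lifts. -/
def homSieve (F : 𝒳 ⥤ᵇ 𝒴) (h : FibCat.IsFibGrpd 𝒳.p) {x x' : 𝒳.obj} (b : F.obj x ⟶ F.obj x')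
    (U : C) : Sieve U where
  arrows V f := ∃ (x₀ : 𝒳.obj) (φ : x₀ ⟶ x) (ψ : x₀ ⟶ x'),
    𝒳.p.IsHomLift f φ ∧ 𝒳.p.IsHomLift f ψ ∧ F.map φ ≫ b = F.map ψ
  downward_closed := by
    rintro V V' f ⟨x₀, φ, ψ, hφ, hψ, e⟩ k
    obtain ⟨x₁, θ, hθ⟩ := exists_lift h (IsHomLift.domain_eq 𝒳.p f φ) k
    exact ⟨x₁, θ ≫ φ, θ ≫ ψ, inferInstance, inferInstance, by
      rw [F.toFunctor.map_comp, Category.assoc, e, ← F.toFunctor.map_comp]⟩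

theorem homSieve_mem {F : 𝒳 ⥤ᵇ 𝒴} (hF : Gerb.LocSurjHom J F) (h : FibCat.IsFibGrpd 𝒳.p)
    {x x' : 𝒳.obj} (b : F.obj x ⟶ F.obj x') {U : C} (hx : 𝒳.p.obj x = U)
    (hb : 𝒴.p.IsHomLift (𝟙 U) b) : homSieve F h b U ∈ J U := by
  subst hx
  obtain ⟨R, hR, hl⟩ := hF x x' b hb
  exact J.superset_covering (fun V f hf => hl f hf) hR

theorem locSurjHom_of_mem {F : 𝒳 ⥤ᵇ 𝒴} (h : FibCat.IsFibGrpd 𝒳.p)
    (H : ∀ (x x' : 𝒳.obj) (b : F.obj x ⟶ F.obj x'), 𝒴.p.IsHomLift (𝟙 (𝒳.p.obj x)) b →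
      homSieve F h b (𝒳.p.obj x) ∈ J (𝒳.p.obj x)) : Gerb.LocSurjHom J F :=
  fun x x' b hb => ⟨_, H x x' b hb, fun _ _ hf => hf⟩

theorem locSurjObj_comp {F : 𝒳 ⥤ᵇ 𝒴} {G : 𝒴 ⥤ᵇ 𝒵} (h𝒳 : FibCat.IsFibGrpd 𝒳.p)
    (h𝒴 : FibCat.IsFibGrpd 𝒴.p) (hF : Gerb.LocSurjObj J F) (hG : Gerb.LocSurjObj J G) :
    Gerb.LocSurjObj J (BasedFunctor.comp F G) := by
  refine locSurjObj_of_mem J h𝒳 fun z => J.transitive (objSieve_mem J hG h𝒴 rfl) _ ?_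
  rintro V f ⟨y, g, hg⟩
  have hy : 𝒴.p.obj y = V := (G.w_obj y).symm.trans (IsHomLift.domain_eq 𝒵.p f g)
  refine J.superset_covering ?_ (objSieve_mem J hF h𝒳 hy)
  rintro V' k ⟨x, a, ha⟩
  have : 𝒵.p.IsHomLift k (G.map a) := BasedFunctor.preserves_isHomLift G k a
  exact ⟨x, G.map a ≫ g, (inferInstance : 𝒵.p.IsHomLift (k ≫ f) (G.map a ≫ g))⟩

theorem isGerbeOver_comp {F : 𝒳 ⥤ᵇ 𝒴} {G : 𝒴 ⥤ᵇ 𝒵} (h𝒳 : FibCat.IsFibGrpd 𝒳.p)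
    (h𝒴 : FibCat.IsFibGrpd 𝒴.p) (hF : Gerb.IsGerbeOver J F) (hG : Gerb.IsGerbeOver J G) :
    Gerb.IsGerbeOver J (BasedFunctor.comp F G) := by
  refine ⟨locSurjObj_comp J h𝒳 h𝒴 hF.1 hG.1, locSurjHom_of_mem J h𝒳 fun x x' b hb => ?_⟩
  refine J.transitive (homSieve_mem J hG.2 h𝒴 (x := F.obj x) (x' := F.obj x') b (F.w_obj x) hb) _ ?_
  rintro V f ⟨y₀, φ, ψ, hφ, hψ, e⟩
  have hx' : 𝒳.p.obj x' = 𝒳.p.obj x := by
    rw [← F.w_obj x', ← G.w_obj (F.obj x')]; exact IsHomLift.codomain_eq 𝒵.p (𝟙 (𝒳.p.obj x)) b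
  obtain ⟨xa, a, ha⟩ := exists_lift h𝒳 (rfl : 𝒳.p.obj x = _) f
  obtain ⟨xa', a', ha'⟩ := exists_lift h𝒳 hx' f
  obtain ⟨u, hu, hue⟩ := exists_factor h𝒴 (F.map a) inferInstance φ hφ
  obtain ⟨u', hu', hue'⟩ := exists_factor h𝒴 (F.map a') inferInstance ψ hψ
  have := isIso_of_vertical h𝒴 u hu
  let b' : F.obj xa ⟶ F.obj xa' := inv u ≫ u'
  have hb' : 𝒴.p.IsHomLift (𝟙 V) b' := by
    have : 𝒴.p.IsHomLift (𝟙 V) (inv u) := IsHomLift.lift_id_inv_isIso 𝒴.p V u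
    infer_instance
  refine J.superset_covering ?_ (homSieve_mem J hF.2 h𝒳 b' (IsHomLift.domain_eq 𝒳.p f a) hb')
  rintro V' k ⟨x₀, p, q, hp, hq, epq⟩
  refine ⟨x₀, p ≫ a, q ≫ a', inferInstance, inferInstance, ?_⟩
  change G.map (F.map (p ≫ a)) ≫ b = G.map (F.map (q ≫ a'))
  rw [F.toFunctor.map_comp, F.toFunctor.map_comp, ← epq]
  have hFa : F.map a = inv u ≫ φ := by rw [← hue, IsIso.inv_hom_id_assoc]
  rw [hFa, G.toFunctor.map_comp, G.toFunctor.map_comp, Category.assoc, Category.assoc, e]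
  simp only [b', ← G.toFunctor.map_comp, Category.assoc]
  rw [hue']

/-- Equivalences are gerbes. -/
theorem isGerbeOver_of_isEquivOver {F : 𝒳 ⥤ᵇ 𝒴} (h𝒳 : FibCat.IsFibGrpd 𝒳.p)
    (hF : FibCat.IsEquivOver F) : Gerb.IsGerbeOver J F := by
  refine ⟨fun y => StackLocal.locally_of_isEquivOver F J h𝒳 hF y, locSurjHom_of_mem J h𝒳 fun x x' b hb => ?_⟩
  have := AlgStack.BasedBasic.IsEquivOver.full hF
  obtain ⟨m, rfl⟩ := F.toFunctor.map_surjective b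
  have hm : 𝒳.p.IsHomLift (𝟙 (𝒳.p.obj x)) m := (F.isHomLift_iff _ _).1 hb
  refine J.superset_covering (fun V f _ => ?_) (J.top_mem _)
  obtain ⟨x₀, φ, hφ⟩ := exists_lift h𝒳 (rfl : 𝒳.p.obj x = _) f
  have h2 : 𝒳.p.IsHomLift (f ≫ 𝟙 (𝒳.p.obj x)) (φ ≫ m) := inferInstance
  rw [Category.comp_id] at h2
  exact ⟨x₀, φ, φ ≫ m, hφ, h2, (F.toFunctor.map_comp φ m).symm⟩

/-- Base change of a gerbe. -/
theorem isGerbeOver_fpFst {F : 𝒳 ⥤ᵇ 𝒴} (G : 𝒵 ⥤ᵇ 𝒴) (h𝒳 : FibCat.IsFibGrpd 𝒳.p)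
    (h𝒴 : FibCat.IsFibGrpd 𝒴.p) (h𝒵 : FibCat.IsFibGrpd 𝒵.p) (hF : Gerb.IsGerbeOver J F) :
    Gerb.IsGerbeOver J (FibCat.fpFst G F) := by
  have hP := Fp.isFibGrpd (F := G) (G := F) h𝒵 h𝒳 h𝒴
  refine ⟨locSurjObj_of_mem J hP fun y => ?_, locSurjHom_of_mem J hP fun z z' b hb => ?_⟩
  · refine J.superset_covering ?_ (objSieve_mem J hF.1 h𝒳 (G.w_obj y))
    rintro V f ⟨x, g, hg⟩
    obtain ⟨ya, a, ha⟩ := exists_lift h𝒵 (rfl : 𝒵.p.obj y = _) f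
    obtain ⟨i, hi, -⟩ := exists_factor h𝒴 g hg (G.map a) inferInstance
    have := isIso_of_vertical h𝒴 i hi
    have hya : 𝒵.p.obj ya = V := IsHomLift.domain_eq 𝒵.p f a
    exact ⟨Fp.mkObj (F := G) (G := F) ya x (asIso i) (hya.symm ▸ hi), a, ha⟩
  · have hz : 𝒵.p.obj z.obj.fst = (FibCat.fp G F).p.obj z := rfl
    let U := 𝒵.p.obj z.obj.fst
    change homSieve (FibCat.fpFst G F) hP b U ∈ J U
    replace hb : 𝒵.p.IsHomLift (𝟙 U) b := hb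
    have hz' : 𝒵.p.obj z'.obj.fst = U := IsHomLift.codomain_eq 𝒵.p (𝟙 U) b
    have h1 := Fp.iso_isHomLift z (rfl : 𝒵.p.obj z.obj.fst = U)
    have h2 := Fp.iso_isHomLift z' hz'
    have h3 : 𝒴.p.IsHomLift (𝟙 U) z.obj.iso.inv := IsHomLift.lift_id_inv 𝒴.p U z.obj.iso
    have h4 : 𝒴.p.IsHomLift (𝟙 U) (G.map b) := BasedFunctor.preserves_isHomLift G (𝟙 U) b
    let c : F.obj z.obj.snd ⟶ F.obj z'.obj.snd := z.obj.iso.inv ≫ G.map b ≫ z'.obj.iso.hom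
    have hc : 𝒴.p.IsHomLift (𝟙 U) c := inferInstance
    refine J.superset_covering ?_ (homSieve_mem J hF.2 h𝒳 c (Fp.p_snd z) hc)
    rintro V f ⟨x₀, p, q, hp, hq, e⟩
    obtain ⟨y₀, a, ha⟩ := exists_lift h𝒵 (rfl : 𝒵.p.obj z.obj.fst = U) f
    have h5 : 𝒴.p.IsHomLift (f ≫ 𝟙 U) (G.map a ≫ z.obj.iso.hom) := inferInstance
    rw [Category.comp_id] at h5
    obtain ⟨i, hi, hie⟩ := exists_factor h𝒴 (F.map p) inferInstance (G.map a ≫ z.obj.iso.hom) h5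
    have := isIso_of_vertical h𝒴 i hi
    let z₀ : (FibCat.fp G F).obj :=
      Fp.mkObj (F := G) (G := F) y₀ x₀ (asIso i) ((IsHomLift.domain_eq 𝒵.p f a).symm ▸ hi)
    have h6 : 𝒵.p.IsHomLift (f ≫ 𝟙 U) (a ≫ b) := inferInstance
    rw [Category.comp_id] at h6
    refine ⟨z₀, Fp.mkHom (z := z₀) (w := z) a p hie.symm,
      Fp.mkHom (z := z₀) (w := z') (a ≫ b) q ?_, (Fp.isHomLift_iff _ _).2 ha,
      (Fp.isHomLift_iff _ _).2 h6, rfl⟩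
    change G.map (a ≫ b) ≫ z'.obj.iso.hom = i ≫ F.map q
    rw [← e, ← Category.assoc i, hie, G.toFunctor.map_comp]
    simp [c]

theorem locSurjObj_of_iso {F F' : 𝒳 ⥤ᵇ 𝒴} (e : F ≅ F') (_h : FibCat.IsFibGrpd 𝒳.p)
    (hF : Gerb.LocSurjObj J F) : Gerb.LocSurjObj J F' := fun y => by
  obtain ⟨R, hR, hl⟩ := hF y
  refine ⟨R, hR, fun V f hf => ?_⟩
  obtain ⟨x, g, hg⟩ := hl f hf
  have hx : 𝒳.p.obj x = V := (F.w_obj x).symm.trans (IsHomLift.domain_eq 𝒴.p f g)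
  let i := AlgStack.BasedBasic.appIso e x
  have hi : 𝒴.p.IsHomLift (𝟙 (𝒳.p.obj x)) i.hom := AlgStack.BasedBasic.appIso_isHomLift e x
  rw [hx] at hi
  have : 𝒴.p.IsHomLift (𝟙 V) i.inv := IsHomLift.lift_id_inv 𝒴.p V i
  have h2 : 𝒴.p.IsHomLift (𝟙 V ≫ f) (i.inv ≫ g) := inferInstance
  rw [Category.id_comp] at h2
  exact ⟨x, i.inv ≫ g, h2⟩

theorem locSurjObj_of_comp {F : 𝒳 ⥤ᵇ 𝒴} {G : 𝒴 ⥤ᵇ 𝒵}
    (h : Gerb.LocSurjObj J (BasedFunctor.comp F G)) : Gerb.LocSurjObj J G := fun y => by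
  obtain ⟨R, hR, hl⟩ := h y
  exact ⟨R, hR, fun V f hf => by
    obtain ⟨x, g, hg⟩ := hl f hf
    exact ⟨F.obj x, g, hg⟩⟩

/-- A gerbe in a cartesian square. -/
theorem isGerbeOver_of_cart {F : 𝒳 ⥤ᵇ 𝒴} {G : 𝒵 ⥤ᵇ 𝒴} {F' : 𝒲 ⥤ᵇ 𝒵} {G' : 𝒲 ⥤ᵇ 𝒳}
    (h𝒳 : FibCat.IsFibGrpd 𝒳.p) (h𝒴 : FibCat.IsFibGrpd 𝒴.p) (h𝒵 : FibCat.IsFibGrpd 𝒵.p)
    (h𝒲 : FibCat.IsFibGrpd 𝒲.p) (e : BasedFunctor.comp F' G ≅ BasedFunctor.comp G' F)
    (hc : FibCat.IsTwoCartOver F' G' e) (hF : Gerb.IsGerbeOver J F) : Gerb.IsGerbeOver J F' := by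
  have h : Gerb.IsGerbeOver J (BasedFunctor.comp (FibCat.fpLift F' G' e) (FibCat.fpFst G F)) :=
    isGerbeOver_comp J h𝒲 (Fp.isFibGrpd (F := G) (G := F) h𝒵 h𝒳 h𝒴)
      (isGerbeOver_of_isEquivOver J h𝒲 hc) (isGerbeOver_fpFst J G h𝒳 h𝒴 h𝒵 hF)
  exact h

/-- Descent of gerbes along locally surjective base change. -/
theorem isGerbeOver_of_locSurjObj {F : 𝒳 ⥤ᵇ 𝒴} {G : 𝒵 ⥤ᵇ 𝒴} {F' : 𝒲 ⥤ᵇ 𝒵} {G' : 𝒲 ⥤ᵇ 𝒳}
    (h𝒳 : FibCat.IsFibGrpd 𝒳.p) (h𝒴 : FibCat.IsFibGrpd 𝒴.p) (h𝒵 : FibCat.IsFibGrpd 𝒵.p)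
    (h𝒲 : FibCat.IsFibGrpd 𝒲.p) (e : BasedFunctor.comp F' G ≅ BasedFunctor.comp G' F)
    (hc : FibCat.IsTwoCartOver F' G' e) (hG : Gerb.LocSurjObj J G) (hF' : Gerb.IsGerbeOver J F') :
    Gerb.IsGerbeOver J F := by
  refine ⟨locSurjObj_of_comp J (F := G')
    (locSurjObj_of_iso J e h𝒲 (locSurjObj_comp J h𝒲 h𝒵 hF'.1 hG)),
    locSurjHom_of_mem J h𝒳 fun x x' b hb => ?_⟩
  let U := 𝒳.p.obj x
  replace hb : 𝒴.p.IsHomLift (𝟙 U) b := hb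
  change homSieve F h𝒳 b U ∈ J U
  have hx' : 𝒳.p.obj x' = U := (F.w_obj x').symm.trans (IsHomLift.codomain_eq 𝒴.p (𝟙 U) b)
  refine J.transitive (objSieve_mem J hG h𝒵 (F.w_obj x)) _ ?_
  rintro V f ⟨y, g₀, hg₀⟩
  have hy : 𝒵.p.obj y = V := (G.w_obj y).symm.trans (IsHomLift.domain_eq 𝒴.p f g₀)
  obtain ⟨xa, a, ha⟩ := exists_lift h𝒳 (rfl : 𝒳.p.obj x = U) f
  obtain ⟨xa', a', ha'⟩ := exists_lift h𝒳 hx' f
  have h1 : 𝒴.p.IsHomLift (f ≫ 𝟙 U) (F.map a ≫ b) := inferInstance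
  rw [Category.comp_id] at h1
  obtain ⟨ba, hba, hbae⟩ := exists_factor h𝒴 (F.map a') inferInstance (F.map a ≫ b) h1
  obtain ⟨g, hg, -⟩ := exists_factor h𝒴 (F.map a) inferInstance g₀ hg₀
  have := isIso_of_vertical h𝒴 g hg
  have := isIso_of_vertical h𝒴 ba hba
  have h2 : 𝒴.p.IsHomLift (𝟙 V) (g ≫ ba) := inferInstance
  let z : (FibCat.fp G F).obj := Fp.mkObj (F := G) (G := F) y xa (asIso g) (hy.symm ▸ hg)
  let z' : (FibCat.fp G F).obj :=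
    Fp.mkObj (F := G) (G := F) y xa' (asIso (g ≫ ba)) (hy.symm ▸ h2)
  let L := FibCat.fpLift F' G' e
  obtain ⟨w, j, hj⟩ := AlgStack.BasedBasic.IsEquivOver.exists_iso hc z
  obtain ⟨w', j', hj'⟩ := AlgStack.BasedBasic.IsEquivOver.exists_iso hc z'
  rw [show (FibCat.fp G F).p.obj z = V from hy] at hj
  rw [show (FibCat.fp G F).p.obj z' = V from hy] at hj'
  have hj₁ : 𝒵.p.IsHomLift (𝟙 V) j.hom.hom.fst := (Fp.isHomLift_iff _ _).1 hj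
  have hj₂ : 𝒵.p.IsHomLift (𝟙 V) j'.hom.hom.fst := (Fp.isHomLift_iff _ _).1 hj'
  have hj₃ : 𝒵.p.IsHomLift (𝟙 V) j'.inv.hom.fst :=
    (Fp.isHomLift_iff _ _).1 (IsHomLift.lift_id_inv (FibCat.fp G F).p V j')
  have hw : 𝒲.p.obj w = V := (F'.w_obj w).symm.trans (IsHomLift.domain_eq 𝒵.p (𝟙 V) j.hom.hom.fst)
  let b' : F'.obj w ⟶ F'.obj w' := j.hom.hom.fst ≫ j'.inv.hom.fst
  have hb' : 𝒵.p.IsHomLift (𝟙 V) b' := inferInstance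
  refine J.superset_covering ?_ (homSieve_mem J hF'.2 h𝒲 b' hw hb')
  rintro V' k ⟨w₀, p, q, hp, hq, epq⟩
  let m : L.obj w₀ ⟶ z := L.map p ≫ j.hom
  let n : L.obj w₀ ⟶ z' := L.map q ≫ j'.hom
  have hinv : j'.inv.hom.fst ≫ j'.hom.hom.fst = 𝟙 z'.obj.fst := by
    exact (congrArg (fun t => t.hom.fst) j'.inv_hom_id).trans rfl
  have hmn : m.hom.fst = n.hom.fst := by
    change F'.map p ≫ j.hom.hom.fst = F'.map q ≫ j'.hom.hom.fst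
    rw [← epq]
    simp only [b', Category.assoc]
    exact congrArg (fun t => F'.map p ≫ t) ((Category.comp_id _).symm.trans (congrArg (fun t => j.hom.hom.fst ≫ t) hinv.symm))
  have hm : (FibCat.fp G F).p.IsHomLift k m := by
    have : (FibCat.fp G F).p.IsHomLift k (L.map p) := BasedFunctor.preserves_isHomLift L k p
    have : (FibCat.fp G F).p.IsHomLift (k ≫ 𝟙 V) (L.map p ≫ j.hom) := by
      infer_instance
    rwa [Category.comp_id] at this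
  have hn : (FibCat.fp G F).p.IsHomLift k n := by
    have : (FibCat.fp G F).p.IsHomLift k (L.map q) := BasedFunctor.preserves_isHomLift L k q
    have : (FibCat.fp G F).p.IsHomLift (k ≫ 𝟙 V) (L.map q ≫ j'.hom) := by
      infer_instance
    rwa [Category.comp_id] at this
  have := Fp.isHomLift_snd m k
  have := Fp.isHomLift_snd n k
  refine ⟨(L.obj w₀).obj.snd, m.hom.snd ≫ a, n.hom.snd ≫ a', inferInstance, inferInstance, ?_⟩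
  have e1 : F.map m.hom.snd ≫ ba = F.map n.hom.snd := by
    have hw1 : G.map m.hom.fst ≫ g = (L.obj w₀).obj.iso.hom ≫ F.map m.hom.snd := Fp.w m
    have hw2 : G.map n.hom.fst ≫ g ≫ ba = (L.obj w₀).obj.iso.hom ≫ F.map n.hom.snd := Fp.w n
    apply (cancel_epi (L.obj w₀).obj.iso.hom).1
    rw [← Category.assoc, ← hw1, ← hw2, hmn, Category.assoc]
  rw [F.toFunctor.map_comp, F.toFunctor.map_comp, Category.assoc, ← hbae, ← Category.assoc, e1]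

end Groth.Agent.Lib.Gerbe.Formal
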