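import Groth.Agent.Lib.Gerbe.SectionSpace
import Groth.Agent.Lib.Gerbe.Formal
import Groth.Agent.H14.Chart.Basic
import Groth.Agent.Lib.AlgStack.IsAlg
import Groth.Agent.S12788

/-!
Sections of gerbes over algebraic spaces are flat, locally of finite presentation and surjective.
-/

set_option autoImplicit false
set_option backward.isDefEq.respectTransparency false
set_option backward.isDefEq.respectTransparency.types false

universe u

open CategoryTheory CategoryTheory.Limits AlgebraicGeometry Opposite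

namespace Groth.Agent.Lib.Gerbe.SectionOverSpace

open Groth.Agent.Lib.AlgStack
open FibCat (IsEquivOver IsFibGrpd fp fpFst fpSnd fpLift overCat toSelf)
open AlgSt (ofSp ofSpMap ofOverCat RepByAlgSpWith IsAlgStack)
open AlgSp (Sp yon IsAlgSpace LocP RepWith)
open BasedBasic

/-- An isomorphism of fibre products with given components. -/
theorem exists_iso {C : Type*} [Category C] {𝒳 𝒴 𝒵 : BasedCategory C} {F : 𝒳 ⥤ᵇ 𝒵} {G : 𝒴 ⥤ᵇ 𝒵}
    {a b : (fp F G).obj} (e₁ : a.obj.fst ≅ b.obj.fst) (e₂ : a.obj.snd ≅ b.obj.snd)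
    (h : F.map e₁.hom ≫ b.obj.iso.hom = a.obj.iso.hom ≫ G.map e₂.hom) :
    ∃ e : a ≅ b, e.hom.hom.fst = e₁.hom ∧ e.hom.hom.snd = e₂.hom := by
  refine ⟨⟨FibProd.homMk e₁.hom e₂.hom h, FibProd.homMk e₁.inv e₂.inv ?_, FibProd.hom_ext (by simp) (by simp),
    FibProd.hom_ext (by simp) (by simp)⟩, rfl, rfl⟩
  rw [← cancel_mono (G.map e₂.hom), Category.assoc, ← h]
  simp [← Functor.map_comp, ← Functor.map_comp_assoc]

variable {S : Scheme.{u}} {𝒳 : AlgSt.Cat S} {U : AlgSp.Space S} {U₀ : Over S}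
  (π : 𝒳 ⥤ᵇ ofSp U.obj) {x : ofSp U.obj ⥤ᵇ 𝒳}
  (e : BasedFunctor.comp x π ≅ BasedFunctor.id (ofSp U.obj)) (g : overCat U₀ ⥤ᵇ ofSp U.obj)

/-- The section of the base change. -/
noncomputable def sec₀ : overCat U₀ ⥤ᵇ fp g π :=
  fpLift (BasedFunctor.id (overCat U₀)) (BasedFunctor.comp g x) (isoWhiskerLeft g e.symm)

/-- The section of the base change maps to the fibre product with the section. -/
noncomputable def toFp : overCat U₀ ⥤ᵇ fp (fpSnd g π) x :=
  fpLift (sec₀ π e g) g (Iso.refl _)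

theorem isEquivOver_toFp : IsEquivOver (toFp π e g) := by
  have : (toFp π e g).toFunctor.Faithful :=
    ⟨fun {_ _ _ _} h => congrArg (fun t => t.hom.fst.hom.fst) h⟩
  have : (toFp π e g).toFunctor.Full := ⟨fun {a b} m => by
    let k : a ⟶ b := m.hom.fst.hom.fst
    have w0 : (fpSnd g π).map m.hom.fst ≫ 𝟙 _ = 𝟙 _ ≫ x.map m.hom.snd := m.hom.w
    have w : m.hom.fst.hom.snd = x.map m.hom.snd :=
      (Category.comp_id _).symm.trans (w0.trans (Category.id_comp _))
    have hb : (g.map k).hom = m.hom.snd.hom := by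
      have h1 : (g.map k).hom = eqToHom (g.w_obj a) ≫ k.left ≫ eqToHom (g.w_obj b).symm :=
        CategoryTheory.Functor.congr_hom g.w k
      have h2 : 𝒳.p.map (x.map m.hom.snd) =
          eqToHom (x.w_obj _) ≫ m.hom.snd.hom ≫ eqToHom (x.w_obj _).symm :=
        CategoryTheory.Functor.congr_hom x.w m.hom.snd
      have h3 : 𝒳.p.map m.hom.fst.hom.snd =
          eqToHom ((fpSnd g π).w_obj ((toFp π e g).obj a).obj.fst) ≫ k.left ≫
            eqToHom ((fpSnd g π).w_obj ((toFp π e g).obj b).obj.fst).symm :=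
        CategoryTheory.Functor.congr_hom (fpSnd g π).w m.hom.fst
      rw [w, h2] at h3
      rw [h1]
      have h4 := congrArg (fun t => eqToHom (x.w_obj ((toFp π e g).obj a).obj.snd).symm ≫ t ≫
        eqToHom (x.w_obj ((toFp π e g).obj b).obj.snd)) h3
      simp at h4
      rw [h4]
    have hk : g.map k = m.hom.snd := Stk.EltObj.hom_ext hb
    refine ⟨k, FibProd.hom_ext (FibProd.hom_ext rfl ?_) hk⟩
    change x.map (g.map k) = m.hom.fst.hom.snd
    rw [hk, w]⟩
  refine BasedBasic.isEquivOver_of _ fun η => ?_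
  let u := η.obj.fst.obj.fst
  let y := η.obj.fst.obj.snd
  let v := η.obj.snd
  let ι : g.obj u ≅ π.obj y := η.obj.fst.obj.iso
  let j : y ≅ x.obj v := η.obj.iso
  let T := (overCat U₀).p.obj u
  have hι : (ofSp U.obj).p.IsHomLift (𝟙 T) ι.hom := η.obj.fst.property
  have hj : 𝒳.p.IsHomLift (𝟙 T) j.hom := η.property
  have hv : (ofSp U.obj).p.obj v = T := (x.w_obj v).symm.trans (IsHomLift.codomain_eq 𝒳.p (𝟙 T) j.hom)
  let θ : g.obj u ≅ v := ι ≪≫ π.toFunctor.mapIso j ≪≫ appIso e v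
  have hθ : (ofSp U.obj).p.IsHomLift (𝟙 T) θ.hom := by
    have h1 : (ofSp U.obj).p.IsHomLift (𝟙 T) (π.map j.hom) := BasedFunctor.preserves_isHomLift π (𝟙 T) j.hom
    have h2 : (ofSp U.obj).p.IsHomLift (𝟙 T) (appIso e v).hom := hv ▸ appIso_isHomLift e v
    change (ofSp U.obj).p.IsHomLift (𝟙 T) (ι.hom ≫ π.map j.hom ≫ (appIso e v).hom)
    infer_instance
  have hxθ : 𝒳.p.IsHomLift (𝟙 T) (x.map θ.hom) := inferInstance
  have hji : 𝒳.p.IsHomLift (𝟙 T) j.inv := IsHomLift.lift_id_inv _ _ _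
  have hc : 𝒳.p.IsHomLift (𝟙 T) (x.toFunctor.mapIso θ ≪≫ j.symm).hom := by
    change 𝒳.p.IsHomLift (𝟙 T) (x.map θ.hom ≫ j.inv); infer_instance
  obtain ⟨f, hf₁, hf₂⟩ := exists_iso (a := (sec₀ π e g).obj u) (b := η.obj.fst) (Iso.refl u)
    (x.toFunctor.mapIso θ ≪≫ j.symm) (by
      change g.map (𝟙 u) ≫ ι.hom = (appIso e (g.obj u)).inv ≫ π.map (x.map θ.hom ≫ j.inv)
      rw [g.toFunctor.map_id, Category.id_comp, π.toFunctor.map_comp]
      have n : π.map (x.map θ.hom) ≫ (appIso e v).hom = (appIso e (g.obj u)).hom ≫ θ.hom :=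
        e.hom.toNatTrans.naturality θ.hom
      rw [← Iso.eq_comp_inv] at n
      rw [n]
      have hθ' : θ.hom = ι.hom ≫ π.map j.hom ≫ (appIso e v).hom := rfl
      rw [hθ']
      simp only [Category.assoc, Iso.hom_inv_id_assoc, Iso.inv_hom_id_assoc]
      rw [← π.toFunctor.map_comp, Iso.hom_inv_id, π.toFunctor.map_id]
      exact (Category.comp_id _).symm)
  obtain ⟨E, hE₁, -⟩ := exists_iso (a := (toFp π e g).obj u) (b := η) f θ (by
    change f.hom.hom.snd ≫ j.hom = 𝟙 _ ≫ x.map θ.hom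
    rw [hf₂, Category.id_comp]
    change (x.map θ.hom ≫ j.inv) ≫ j.hom = _
    rw [Category.assoc, Iso.inv_hom_id, Category.comp_id])
  refine ⟨u, E, ?_⟩
  refine IsHomLift.of_fac' _ _ _ rfl rfl ?_
  change E.hom.hom.fst.hom.fst.left = _
  rw [hE₁, hf₁]
  simp; rfl

/-- A section of a gerbe over an algebraic space is flat, locally of finite presentation and surjective. -/
theorem result (h𝒳 : IsAlgStack Scheme.fppfPrecoverage 𝒳)
    (hπ : Gerb.IsGerbeOver (QuotSh.J Scheme.fppfPrecoverage S) π) (x : ofSp U.obj ⥤ᵇ 𝒳)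
    (e : BasedFunctor.comp x π ≅ BasedFunctor.id (ofSp U.obj)) :
    RepByAlgSpWith (LocP @Flat) x ∧ RepByAlgSpWith (LocP @LocallyOfFinitePresentation) x ∧
      RepByAlgSpWith AlgSp.IsSurjectiveMor x := by
  obtain ⟨U₀, p, hpe, hps⟩ := U.property.atlas
  let g : overCat U₀ ⥤ᵇ ofSp U.obj := BasedFunctor.comp (ofOverCat U₀) (ofSpMap p)
  have hU := IsAlg.isAlgStack_ofSp U
  have hfib : IsFibGrpd 𝒳.p := h𝒳.isStack.1
  have h₀ : IsAlgStack Scheme.fppfPrecoverage (fp g π) :=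
    H14.Chart.Basic.isAlgStack_fp hU (H14.Chart.Basic.isAlgStack_overCat U₀) h𝒳 g π
  have hg₀ := Formal.isGerbeOver_fpFst (QuotSh.J Scheme.fppfPrecoverage S) g hfib hU.isStack.1
    (Yoneda.isFibGrpd_overCat U₀) hπ
  obtain ⟨hx1, hx2, hx3⟩ := SectionSpace.section_props h₀ (fpFst g π) hg₀.2 (sec₀ π e g) (Iso.refl _)
  have hx : AlgSt.RepByAlgSp1 x := (Groth.Agent.S12788.result hfib).1 (Diag.repByAlgSp1_diag_iff.1 h𝒳.diag)
    (ofSp U.obj) hU.isStack.1 ⟨U, BasedFunctor.id _, BasedBasic.isEquivOver_id⟩ x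
  have eF := SourceDescent.Scheme.flat.{u}
  have eP := SourceDescent.Scheme.locallyOfFinitePresentation.{u}
  have hloc : ∀ {W : MorphismProperty Scheme.{u}} (hW : SourceDescent.Scheme.EtaleLocalST W),
      RepByAlgSpWith (LocP W) g := fun hW =>
    IsAlg.repByAlgSpWith_atlas hpe hps fun _ _ q hq _ =>
      Comp.locP_of_repWith_etale (fun _ _ g hg => hW.etale g hg) hq
  have hgs : RepByAlgSpWith AlgSp.IsSurjectiveMor g :=
    IsAlg.repByAlgSpWith_atlas hpe hps fun _ _ q _ hq => AlgSpace.surjective_map hq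
  have main : ∀ {P : MorphismProperty (Sp S)}, H14.Sep.SpProps.StableBC P → H14.Sep.SpProps.FromSchemes P →
      H14.Sep.Cover.Descends P → RepByAlgSpWith P (sec₀ π e g) → RepByAlgSpWith P x := by
    intro P hP hPs hd hs0
    have h1 : RepByAlgSpWith P (fpFst (fpSnd g π) x) :=
      (Rep.repByAlgSpWith_iff_of_isEquivOver (f := fpFst (fpSnd g π) x) (f' := sec₀ π e g)
        (isEquivOver_toFp π e g) BasedBasic.isEquivOver_id (Iso.refl _)).2 hs0
    refine H14.Sep.Cover.rep_descend hP hPs hd hx fun T z => ?_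
    obtain ⟨T', s, hs, u, ⟨α⟩⟩ := H14.Sep.Cover.exists_lift (H14.Sep.Rep.fpSnd_of π (hloc eF))
      (H14.Sep.Rep.fpSnd_of π (hloc eP)) (H14.Sep.Rep.fpSnd_of π hgs) z
    refine ⟨T', s, hs, ?_⟩
    have hA : RepByAlgSpWith P (fpFst (BasedFunctor.comp u (fpSnd g π)) x) :=
      (Rep.repByAlgSpWith_iff_of_isEquivOver (f := fpFst (BasedFunctor.comp u (fpSnd g π)) x)
        (f' := fpFst u (fpFst (fpSnd g π) x))
        (Rep.isEquivOver_pasteBase u (fpSnd g π) x) BasedBasic.isEquivOver_id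
        (eqToIso (Rep.pasteBase_fst u (fpSnd g π) x).symm)).2 (Rep.repByAlgSpWith_fpFst u h1)
    exact (Rep.repByAlgSpWith_iff_of_isEquivOver (f := fpFst (BasedFunctor.comp (H14.Sep.Lft.vOf s) z) x)
      (f' := fpFst (BasedFunctor.comp u (fpSnd g π)) x)
      (FibProd.isEquivOver_congrLeft α.symm x) BasedBasic.isEquivOver_id
      (eqToIso (FibProd.congrLeft_fst α.symm x).symm)).2 hA
  have : MorphismProperty.DescendsAlong @Flat.{u}
      (@Surjective ⊓ @Flat ⊓ @LocallyOfFinitePresentation) :=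
    AlgSpMor.RepBySp.descendsAlong_fppf _ inferInstance inferInstance
  exact ⟨main (H14.Sep.SpProps.stableBC_locP eF) (H14.Sep.SpProps.fromSchemes_locP eF)
      (fun G T' T γ s hG hs h => H14.Sep.Cover.locP_descend eF hG hs
        (fun _ _ _ _ _ _ _ g sq f1 f2 f3 h' => MorphismProperty.of_isPullback_of_descendsAlong (P := @Flat)
          (Q := (@Surjective ⊓ @Flat ⊓ @LocallyOfFinitePresentation : MorphismProperty Scheme.{u}))
          sq.flip ⟨⟨f3, f1⟩, f2⟩ h') h) hx1,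
    main (H14.Sep.SpProps.stableBC_locP eP) (H14.Sep.SpProps.fromSchemes_locP eP) H14.IsoNat.Main.descends_lfp hx2,
    main SliceEtale.stableBC_surjective IsAlgFp.detected_surjective SliceEtale.descends_surjective hx3⟩

end Groth.Agent.Lib.Gerbe.SectionOverSpace
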