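import Groth.Agent.H14.Chart.LocQ4
import Groth.Agent.H14.Chart.UnivInj
import Groth.Agent.H14.Chart.Top
import Groth.Agent.H14.Chart.SmLocal
import Groth.Agent.Lib.AlgStack.ChartLift
import Groth.Agent.Lib.AlgStack.RepOver
import Mathlib.FieldTheory.RatFunc.Basic
import Mathlib.FieldTheory.IsAlgClosed.Basic
import Mathlib.RingTheory.Spectrum.Prime.Chevalley
import Mathlib.RingTheory.Flat.TorsionFree

/-!
Over an algebraically closed field, a nonempty stack with surjective diagonal has a rational point.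
-/

set_option autoImplicit false
set_option backward.isDefEq.respectTransparency false
set_option backward.isDefEq.respectTransparency.types false

universe u

open CategoryTheory CategoryTheory.Limits AlgebraicGeometry Polynomial TensorProduct

namespace Groth.Agent.Lib.Gerbe.AlgClosedLift

open Groth.Agent.Lib.AlgStack
open FibCat (IsEquivOver fp fpFst fpSnd fpLift fpIso overCat IsFibGrpd diag)
open AlgSt (overMap RepByAlgSpWith IsAlgStack IsSurjective)
open AlgSp (Sp yon LocP)

theorem exists_not_isUnit_sub {k K B : Type*} [Field k] [IsAlgClosed k] [Field K] [Algebra k K]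
    [CommRing B] [Algebra K B] [Algebra.FiniteType K B] (b : B) (q : Ideal B) [q.IsPrime]
    (hb : ∀ p : K[X], aeval b p ∈ q → p = 0) :
    ∃ c : k, ¬ IsUnit (b - algebraMap K B (algebraMap k K c)) := by
  let φ : K[X] →ₐ[K] B ⧸ q := (Ideal.Quotient.mkₐ K q).comp (aeval b)
  algebraize [φ.toRingHom]
  have hinj : Function.Injective (algebraMap K[X] (B ⧸ q)) := by
    rw [injective_iff_map_eq_zero]
    intro p hp
    exact hb p (Ideal.Quotient.eq_zero_iff_mem.1 hp)
  have : IsScalarTower K K[X] (B ⧸ q) := IsScalarTower.of_algebraMap_eq fun x => (φ.commutes x).symm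
  have : FaithfulSMul K[X] (B ⧸ q) := (faithfulSMul_iff_algebraMap_injective _ _).2 hinj
  have : Algebra.FiniteType K[X] (B ⧸ q) := Algebra.FiniteType.of_restrictScalars_finiteType K K[X] (B ⧸ q)
  have : Algebra.FinitePresentation K[X] (B ⧸ q) := Algebra.FinitePresentation.of_finiteType.mp ‹_›
  have : Module.Flat K[X] (B ⧸ q) := inferInstance
  have hop := (PrimeSpectrum.isOpenMap_comap_of_hasGoingDown_of_finitePresentation
    (R := K[X]) (S := B ⧸ q)).isOpen_range
  have h0 : (⊥ : PrimeSpectrum K[X]) ∈ Set.range (PrimeSpectrum.comap (algebraMap K[X] (B ⧸ q))) :=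
    ⟨⊥, PrimeSpectrum.ext (Ideal.comap_bot_of_injective _ hinj)⟩
  obtain ⟨_, ⟨_, ⟨f, rfl⟩, rfl⟩, hf0, hfU⟩ :=
    PrimeSpectrum.isBasis_basic_opens.exists_subset_of_mem_open h0 hop
  have hf : f ≠ 0 := fun h => hf0 (by simp [h])
  obtain ⟨c, hc⟩ : ∃ c : k, f.eval (algebraMap k K c) ≠ 0 := by
    by_contra! h
    exact hf (eq_zero_of_infinite_isRoot f ((Set.infinite_range_of_injective
      (algebraMap k K).injective).mono (by rintro _ ⟨c, rfl⟩; exact h c)))
  refine ⟨c, fun hu => ?_⟩
  let x : PrimeSpectrum K[X] := ⟨Ideal.span {X - C (algebraMap k K c)},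
    (Ideal.span_singleton_prime (X_sub_C_ne_zero _)).2 (prime_X_sub_C _)⟩
  have hx : x ∈ PrimeSpectrum.basicOpen f := fun h => hc (by
    obtain ⟨g, rfl⟩ := Ideal.mem_span_singleton'.1 h
    simp)
  obtain ⟨P, hP⟩ := hfU hx
  have hmem : algebraMap K[X] (B ⧸ q) (X - C (algebraMap k K c)) ∈ P.asIdeal := by
    have : X - C (algebraMap k K c) ∈ x.asIdeal := Ideal.mem_span_singleton_self _
    rw [← hP] at this
    exact this
  have : algebraMap K[X] (B ⧸ q) (X - C (algebraMap k K c)) =
      Ideal.Quotient.mk q (b - algebraMap K B (algebraMap k K c)) := by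
    change Ideal.Quotient.mk q (aeval b (X - C (algebraMap k K c))) = _
    simp
  rw [this] at hmem
  exact P.2.ne_top (Ideal.eq_top_of_isUnit_mem _ hmem (hu.map _))

/-- A transcendental element gives two embeddings that are independent on it. -/
theorem exists_two_embeddings {k K : Type u} [Field k] [Field K] [Algebra k K] (t : K)
    (ht : Transcendental k t) :
    ∃ (Ω : Type u) (_ : Field Ω) (e₁ e₂ : K →+* Ω),
      e₁.comp (algebraMap k K) = e₂.comp (algebraMap k K) ∧
      ∀ p : K[X], (p.map e₁).eval (e₂ t) = 0 → p = 0 := by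
  let j : K[X] →+* RatFunc K := algebraMap K[X] (RatFunc K)
  have hj : Function.Injective j := IsFractionRing.injective _ _
  let j₁ : k[X] →+* RatFunc K := j.comp (mapRingHom (algebraMap k K))
  have hj₁ : Function.Injective j₁ := hj.comp (map_injective _ (algebraMap k K).injective)
  let j₂ : k[X] →+* K := (aeval t).toRingHom
  have hj₂ : Function.Injective j₂ := transcendental_iff_injective.1 ht
  let F := FractionRing k[X]
  let : Algebra F (RatFunc K) := (IsFractionRing.lift hj₁).toAlgebra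
  let : Algebra F K := (IsFractionRing.lift hj₂).toAlgebra
  have : Nontrivial (RatFunc K ⊗[F] K) := inferInstance
  obtain ⟨M, hM⟩ := Ideal.exists_maximal (RatFunc K ⊗[F] K)
  let Ω := RatFunc K ⊗[F] K ⧸ M
  let : Field Ω := Ideal.Quotient.field M
  let iL : RatFunc K →+* Ω := (Ideal.Quotient.mk M).comp Algebra.TensorProduct.includeLeftRingHom
  let e₂ : K →+* Ω := (Ideal.Quotient.mk M).comp
    (Algebra.TensorProduct.includeRight (R := F) (A := RatFunc K) (B := K)).toRingHom
  let e₁ : K →+* Ω := iL.comp (j.comp C)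
  have key : ∀ q : k[X], iL (j₁ q) = e₂ (j₂ q) := fun q => by
    have h1 : j₁ q = algebraMap F (RatFunc K) (algebraMap k[X] F q) :=
      (IsFractionRing.lift_algebraMap hj₁ q).symm
    have h2 : j₂ q = algebraMap F K (algebraMap k[X] F q) :=
      (IsFractionRing.lift_algebraMap hj₂ q).symm
    rw [h1, h2]
    change Ideal.Quotient.mk M (algebraMap F (RatFunc K) _ ⊗ₜ (1 : K)) =
      Ideal.Quotient.mk M ((1 : RatFunc K) ⊗ₜ algebraMap F K _)
    generalize algebraMap k[X] F q = x
    rw [Algebra.algebraMap_eq_smul_one, Algebra.algebraMap_eq_smul_one, TensorProduct.smul_tmul]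
  refine ⟨Ω, inferInstance, e₁, e₂, RingHom.ext fun c => ?_, fun p hp => ?_⟩
  · simpa [j₁, j₂, e₁] using key (C c)
  · have hX : iL (j X) = e₂ t := by simpa [j₁, j₂] using key X
    have h : (p.map e₁).eval (e₂ t) = iL (j p) := by
      rw [eval_map, ← hX]
      change eval₂ ((iL.comp j).comp C) ((iL.comp j) X) p = (iL.comp j) p
      rw [← hom_eval₂, eval₂_C_X]
    rw [h] at hp
    exact hj ((iL.injective) (hp.trans (map_zero _).symm) |>.trans (map_zero _).symm)

variable {S : Scheme.{u}} {𝒳 : AlgSt.Cat S}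

/-- The slice functor of the identity. -/
noncomputable def overMapId (U : Over S) : overMap (𝟙 U) ≅ BasedFunctor.id (overCat U) :=
  BasedNatIso.mkNatIso
    (NatIso.ofComponents
      (fun h : Over U => Over.isoMk (Iso.refl h.left)
        ((Category.id_comp _).trans (Category.comp_id h.hom).symm))
      (fun f => Over.OverMorphism.ext (by exact (Category.comp_id _).trans (Category.id_comp _).symm)))
    (fun h => IsHomLift.of_fac' _ _ _ rfl rfl (by simp; rfl))

/-- A section exists. -/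
theorem exists_section (h𝒳 : IsAlgStack Scheme.fppfPrecoverage 𝒳) {k : Type u} [Field k] [IsAlgClosed k]
    (s : Spec (CommRingCat.of k) ⟶ S) (π : 𝒳 ⥤ᵇ overCat (Over.mk s)) (hΔ : IsSurjective (diag π))
    (hne : Nonempty (AlgSt.Points 𝒳)) :
    ∃ g : overCat (Over.mk s) ⥤ᵇ 𝒳,
      Nonempty (BasedFunctor.comp g π ≅ BasedFunctor.id (overCat (Over.mk s))) := by
  let V : Over S := Over.mk s
  have hg := h𝒳.isStack.1
  have hV := H14.Chart.Basic.isAlgStack_overCat V
  have eT := Lib.SourceDescent.Scheme.locallyOfFiniteType.{u}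
  obtain ⟨p⟩ := hne
  obtain ⟨U, c, hU, hc, ⟨u₀, -⟩, -, -⟩ :=
    H14.Chart.Top.exists_affine_chart h𝒳 p isOpen_univ trivial
  obtain ⟨u, -, hu⟩ := (isClosed_univ (X := ↥U.left)).exists_closed_singleton ⟨u₀, trivial⟩
  have : IsClosedImmersion (U.left.fromSpecResidueField u) :=
    isClosed_singleton_iff_isClosedImmersion.1 hu
  let W : Over S := Over.mk (U.left.fromSpecResidueField u ≫ U.hom)
  let jK : W ⟶ U := Over.homMk (U.left.fromSpecResidueField u) rfl
  let a := BasedFunctor.comp (overMap jK) c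
  have hsmlft : ∀ {P Q : Sp S} (g : P ⟶ Q), LocP @Smooth g → LocP @LocallyOfFiniteType g := fun g h =>
    H14.Chart.SmLocal.locP_mono (fun _ _ g (hg : Smooth g) => inferInstanceAs (LocallyOfFiniteType g)) h
  have hc' : RepByAlgSpWith (LocP @LocallyOfFiniteType) c :=
    Rep.repByAlgSpWith_mono hc fun _ _ g _ _ h => hsmlft g h
  have ha : RepByAlgSpWith (LocP @LocallyOfFiniteType) a :=
    IsAlgFp.comp_locP eT (Yoneda.isFibGrpd_overCat W) (Yoneda.isFibGrpd_overCat U)
      (H14.Chart.Basic.rep_overMap_locP jK eT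
        (inferInstanceAs (LocallyOfFiniteType (U.left.fromSpecResidueField u)))) hc'
  let m : W ⟶ V := ChartLift.mapOf (BasedFunctor.comp a π)
  let em := ChartLift.isoMapOf (BasedFunctor.comp a π)
  let K := U.left.residueField u
  obtain ⟨ρ, hρ⟩ := Spec.map_surjective (m.left : Spec K ⟶ Spec (CommRingCat.of k))
  have hsurj : Function.Surjective ρ.hom := by
    intro t
    letI : Algebra k K := ρ.hom.toAlgebra
    by_contra hnr
    have ht : Transcendental k t := fun halg => hnr (by
      have hi : IsIntegral k t := halg.isIntegral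
      exact RingHom.mem_range.1 (minpoly.mem_range_of_degree_eq_one k t
        (IsAlgClosed.degree_eq_one_of_irreducible k (minpoly.irreducible hi))))
    obtain ⟨Ω, hΩ, e₁, e₂, he, hev⟩ := exists_two_embeddings t ht
    -- the pair of points
    let WΩ : Over S := Over.mk (Spec.map (ρ ≫ CommRingCat.ofHom e₁) ≫ s)
    have hm : Spec.map ρ ≫ s = W.hom := by rw [hρ]; exact Over.w m
    let P₁ : WΩ ⟶ W := Over.homMk (Spec.map (CommRingCat.ofHom e₁)) (by
      change _ ≫ W.hom = Spec.map (ρ ≫ CommRingCat.ofHom e₁) ≫ s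
      rw [Spec.map_comp, Category.assoc, hm])
    have he' : ρ ≫ CommRingCat.ofHom e₁ = ρ ≫ CommRingCat.ofHom e₂ := CommRingCat.hom_ext he
    let P₂ : WΩ ⟶ W := Over.homMk (Spec.map (CommRingCat.ofHom e₂)) (by
      change _ ≫ W.hom = Spec.map (ρ ≫ CommRingCat.ofHom e₁) ≫ s
      rw [he', Spec.map_comp, Category.assoc, hm])
    have hP : P₁ ≫ m = P₂ ≫ m := Over.OverMorphism.ext (by
      change Spec.map (CommRingCat.ofHom e₁) ≫ m.left = Spec.map (CommRingCat.ofHom e₂) ≫ m.left
      rw [← hρ, ← Spec.map_comp, ← Spec.map_comp, he'])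
    let red : ∀ {Y : Over S} (P : Y ⟶ W), BasedFunctor.comp (BasedFunctor.comp (overMap P) a) π ≅
        overMap (P ≫ m) := fun P => BasedBasic.isoWhiskerLeft (overMap P) em ≪≫ ChartLift.overMapComp P m
    let c12 : overCat WΩ ⥤ᵇ fp π π :=
      fpLift (BasedFunctor.comp (overMap P₁) a) (BasedFunctor.comp (overMap P₂) a)
        (red P₁ ≪≫ eqToIso (congrArg overMap hP) ≪≫ (red P₂).symm)
    let pt : ↥WΩ.left := IsLocalRing.closedPoint Ω
    obtain ⟨r, hr⟩ := hΔ (AlgSt.Points.ofChart c12 pt)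
    obtain ⟨W₀, x₀, w₀, rfl⟩ := H14.Chart.Points.exists_ofChart_eq hg r
    rw [H14.Chart.Points.map_ofChart] at hr
    have hVg : IsFibGrpd (overCat V).p := Yoneda.isFibGrpd_overCat V
    obtain ⟨W₁, a', b', w₁, -, -, ⟨θ⟩⟩ :=
      H14.Chart.Points.exists_of_ofChart_eq (FibProd.isFibGrpd_fp hg hg hVg) hr
    let θ₁ : BasedFunctor.comp (overMap a') x₀ ≅
        BasedFunctor.comp (overMap b') (BasedFunctor.comp (overMap P₁) a) :=
      BasedBasic.isoWhiskerRight θ (fpFst π π)
    let θ₂ : BasedFunctor.comp (overMap a') x₀ ≅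
        BasedFunctor.comp (overMap b') (BasedFunctor.comp (overMap P₂) a) :=
      BasedBasic.isoWhiskerRight θ (fpSnd π π)
    let q : overCat W₁ ⥤ᵇ fp a a := fpLift (overMap (b' ≫ P₁)) (overMap (b' ≫ P₂))
      (BasedBasic.isoWhiskerRight (ChartLift.overMapComp b' P₁).symm a ≪≫ θ₁.symm ≪≫ θ₂ ≪≫
        BasedBasic.isoWhiskerRight (ChartLift.overMapComp b' P₂) a)
    -- an affine chart of the relation
    have hW := H14.Chart.Basic.isAlgStack_overCat W
    have hR := H14.Chart.Basic.isAlgStack_fp h𝒳 hW hW a a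
    obtain ⟨R, cR, hRa, hcR, ⟨r₀, hr₀⟩, -, -⟩ :=
      H14.Chart.Top.exists_affine_chart hR (AlgSt.Points.ofChart q w₁) isOpen_univ trivial
    obtain ⟨W₂, α, β, w₂, -, -, ⟨θ'⟩⟩ := H14.Chart.Points.exists_of_ofChart_eq hR.isStack.1 hr₀
    let r₁ : R ⟶ W := ChartLift.mapOf (BasedFunctor.comp cR (fpFst a a))
    let r₂ : R ⟶ W := ChartLift.mapOf (BasedFunctor.comp cR (fpSnd a a))
    let i₁ := ChartLift.isoMapOf (BasedFunctor.comp cR (fpFst a a))
    let i₂ := ChartLift.isoMapOf (BasedFunctor.comp cR (fpSnd a a))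
    have hα₁ : α ≫ r₁ = β ≫ b' ≫ P₁ := ChartLift.eq_of_iso
      ((ChartLift.overMapComp α r₁).symm ≪≫ BasedBasic.isoWhiskerLeft (overMap α) i₁.symm ≪≫
        BasedBasic.isoWhiskerRight θ' (fpFst a a) ≪≫ ChartLift.overMapComp β (b' ≫ P₁))
    have hα₂ : α ≫ r₂ = β ≫ b' ≫ P₂ := ChartLift.eq_of_iso
      ((ChartLift.overMapComp α r₂).symm ≪≫ BasedBasic.isoWhiskerLeft (overMap α) i₂.symm ≪≫
        BasedBasic.isoWhiskerRight θ' (fpSnd a a) ≪≫ ChartLift.overMapComp β (b' ≫ P₂))
    have hrm : r₁ ≫ m = r₂ ≫ m := ChartLift.eq_of_iso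
      ((ChartLift.overMapComp r₁ m).symm ≪≫ BasedBasic.isoWhiskerRight i₁.symm (overMap m) ≪≫
        BasedBasic.isoWhiskerLeft (BasedFunctor.comp cR (fpFst a a)) em.symm ≪≫
        BasedBasic.isoWhiskerRight (BasedBasic.isoWhiskerLeft cR (fpIso a a)) π ≪≫
        BasedBasic.isoWhiskerLeft (BasedFunctor.comp cR (fpSnd a a)) em ≪≫
        BasedBasic.isoWhiskerRight i₂ (overMap m) ≪≫ ChartLift.overMapComp r₂ m)
    have hl : LocallyOfFiniteType r₁.left := AlgSp.locP_yon_map
      (ChartLift.prop_overMap (IsAlgFp.respectsIsoSp_locP eT) (IsAlgFp.detected_locP eT)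
        (Rep.repByAlgSpWith_of_iso i₁ (IsAlgFp.comp_locP eT (Yoneda.isFibGrpd_overCat R) hR.isStack.1
          (Rep.repByAlgSpWith_mono hcR fun _ _ g _ _ h => hsmlft g h)
          (Rep.repByAlgSpWith_fpFst a ha))))
    -- rings
    let B : CommRingCat.{u} := Γ(R.left, ⊤)
    obtain ⟨β₁, hβ₁⟩ := Spec.map_surjective (R.left.isoSpec.inv ≫ r₁.left : Spec B ⟶ Spec K)
    obtain ⟨β₂, hβ₂⟩ := Spec.map_surjective (R.left.isoSpec.inv ≫ r₂.left : Spec B ⟶ Spec K)
    have hft : β₁.hom.FiniteType := by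
      apply (HasRingHomProperty.Spec_iff (P := @LocallyOfFiniteType)).1
      rw [hβ₁]
      infer_instance
    have hρβ : ρ ≫ β₁ = ρ ≫ β₂ := Spec.map_injective (by
      rw [Spec.map_comp, Spec.map_comp, hρ, hβ₁, hβ₂, Category.assoc, Category.assoc]
      exact congrArg (R.left.isoSpec.inv ≫ ·) (congrArg CommaMorphism.left hrm))
    obtain ⟨χ, hχ⟩ := Spec.map_surjective
      (W₂.left.fromSpecResidueField w₂ ≫ α.left ≫ R.left.isoSpec.hom :
        Spec (W₂.left.residueField w₂) ⟶ Spec B)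
    obtain ⟨ι, hι⟩ := Spec.map_surjective
      (W₂.left.fromSpecResidueField w₂ ≫ (β ≫ b').left :
        Spec (W₂.left.residueField w₂) ⟶ Spec (CommRingCat.of Ω))
    have hχ₁ : β₁ ≫ χ = CommRingCat.ofHom e₁ ≫ ι := Spec.map_injective (by
      rw [Spec.map_comp, Spec.map_comp, hχ, hι, hβ₁]
      simp only [Category.assoc, Iso.hom_inv_id_assoc]
      have := congrArg CommaMorphism.left hα₁
      simp only [Over.comp_left, Category.assoc] at this ⊢
      exact congrArg (W₂.left.fromSpecResidueField w₂ ≫ ·) this)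
    have hχ₂ : β₂ ≫ χ = CommRingCat.ofHom e₂ ≫ ι := Spec.map_injective (by
      rw [Spec.map_comp, Spec.map_comp, hχ, hι, hβ₂]
      simp only [Category.assoc, Iso.hom_inv_id_assoc]
      have := congrArg CommaMorphism.left hα₂
      simp only [Over.comp_left, Category.assoc] at this ⊢
      exact congrArg (W₂.left.fromSpecResidueField w₂ ≫ ·) this)
    letI : Algebra K B := β₁.hom.toAlgebra
    have : Algebra.FiniteType K B := hft
    have hb : ∀ p : K[X], aeval (β₂.hom t) p ∈ RingHom.ker χ.hom → p = 0 := fun p hp => by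
      refine hev p (ι.hom.injective ?_)
      rw [RingHom.mem_ker, aeval_def, hom_eval₂, RingHom.algebraMap_toAlgebra] at hp
      rw [map_zero, eval_map, hom_eval₂]
      have h1 : χ.hom.comp β₁.hom = ι.hom.comp e₁ := congrArg CommRingCat.Hom.hom hχ₁
      have h2 : χ.hom (β₂.hom t) = ι.hom (e₂ t) := congrArg (fun φ => φ.hom t) hχ₂
      rwa [h1, h2] at hp
    have : (RingHom.ker χ.hom).IsPrime := RingHom.ker_isPrime _
    obtain ⟨c₀, hc₀⟩ := exists_not_isUnit_sub (k := k) (β₂.hom t) (RingHom.ker χ.hom) hb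
    apply hc₀
    have h3 : algebraMap K B (algebraMap k K c₀) = β₂.hom (ρ.hom c₀) :=
      congrArg (fun φ => φ.hom c₀) hρβ
    rw [h3, ← map_sub]
    exact ((sub_ne_zero.2 fun h => hnr ⟨c₀, h.symm⟩).isUnit).map _
  have : IsIso m.left := by
    have : IsIso ρ := (ConcreteCategory.isIso_iff_bijective ρ).2 ⟨ρ.hom.injective, hsurj⟩
    have h : IsIso (Spec.map ρ) := inferInstance
    rwa [hρ] at h
  have : IsIso ((Over.forget S).map m) := this
  have : IsIso m := isIso_of_reflects_iso m (Over.forget S)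
  refine ⟨BasedFunctor.comp (overMap (inv m)) a, ⟨?_⟩⟩
  exact BasedBasic.isoWhiskerLeft (overMap (inv m)) em ≪≫ ChartLift.overMapComp (inv m) m ≪≫
    eqToIso (congrArg overMap (IsIso.inv_hom_id m)) ≪≫ overMapId V

end Groth.Agent.Lib.Gerbe.AlgClosedLift
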