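import Groth.Agent.Lib.Gerbe.Criterion
import Groth.Agent.Lib.AlgStack.OfPsh
import Groth.Prelude.Def_StCoarse

/-!
Coarse moduli spaces of gerbes.
-/

set_option autoImplicit false
set_option backward.isDefEq.respectTransparency false
set_option backward.isDefEq.respectTransparency.types false

universe u

open CategoryTheory CategoryTheory.Limits AlgebraicGeometry Opposite

namespace Groth.Agent.Lib.Gerbe.Coarse

open Groth.Agent.Lib.AlgStack
open Groth.Agent.Lib.AlgSpace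
open FibCat (IsFibGrpd)
open AlgSt (ofSp ofSpMap fibSec GeomPtBij IsCoarseModuli)
open AlgSp (Sp)
open BasedBasic

variable {S : Scheme.{u}} {𝒳 𝒴 : AlgSt.Cat S} {M : Sp S}

/-- Sections of isomorphic objects agree. -/
theorem fibSec_eq {π π' : 𝒳 ⥤ᵇ ofSp M} {T : Over S} (x x' : 𝒳.p.Fiber T) (m : π.obj x.1 ⟶ π'.obj x'.1)
    (hm : (ofSp M).p.IsHomLift (𝟙 T) m) : fibSec π x = fibSec π' x' :=
  OfPsh.sec_eq_of_lift_id m hm ((π.w_obj x.1).trans x.2) ((π'.w_obj x'.1).trans x'.2)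

theorem fibSec_of_iso {π π' : 𝒳 ⥤ᵇ ofSp M} (e : π ≅ π') {T : Over S} (x : 𝒳.p.Fiber T) :
    fibSec π x = fibSec π' x := by
  have h := appIso_isHomLift e x.1
  rw [x.2] at h
  exact fibSec_eq x x _ h

theorem geomPtBij_of_iso {π π' : 𝒳 ⥤ᵇ ofSp M} (e : π ≅ π') (h : GeomPtBij π) : GeomPtBij π' :=
  fun Ω _ _ t => by
    obtain ⟨h1, h2⟩ := h Ω t
    refine ⟨fun m => ?_, fun x y hxy => h2 x y ?_⟩
    · obtain ⟨x, hx⟩ := h1 m
      exact ⟨x, (fibSec_of_iso e x).symm.trans hx⟩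
    · rw [fibSec_of_iso e, fibSec_of_iso e]; exact hxy

section Pt

variable {Ω : Type u} [Field Ω] [IsAlgClosed Ω] {t : Spec (CommRingCat.of Ω) ⟶ S}

/-- Coverings of a geometric point have sections. -/
theorem mem_id {R : Sieve (Over.mk t)} (hR : R ∈ QuotSh.J Scheme.fppfPrecoverage S (Over.mk t)) :
    R (𝟙 (Over.mk t)) := by
  obtain ⟨I, Zs, g, p, hpc, hpg, hσ⟩ := exists_fppfCover_of_mem hR
  let pt : ↥(Spec (CommRingCat.of Ω)) := Classical.choice inferInstance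
  obtain ⟨z, -⟩ := hpc.1.1.surj (pt : ↥(Over.mk t).left)
  obtain ⟨i, y, -⟩ := (sigmaOpenCover (fun i => (Zs i).left)).exists_eq z
  have : IsOpenImmersion (AlgSpace.sigmaOverι Zs i).left := inferInstanceAs (IsOpenImmersion (Sigma.ι _ _))
  have hp1 : LocallyOfFinitePresentation p.left := hpc.2
  let q : (Zs i).left ⟶ Spec (CommRingCat.of Ω) := (g i).left
  have : LocallyOfFinitePresentation q := by
    change LocallyOfFinitePresentation (g i).left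
    rw [← hpg i, Over.comp_left]; infer_instance
  have : Nonempty ↥(Zs i).left := ⟨y⟩
  obtain ⟨s, hs⟩ := H14.Chart.UnivInj.exists_section q
  let s' : Over.mk t ⟶ Zs i := Over.homMk s (by
    change s ≫ (Zs i).hom = t
    rw [← Over.w (g i)]
    exact (Category.assoc _ _ _).symm.trans ((congrArg (· ≫ t) hs).trans (Category.id_comp t)))
  have h : R (s' ≫ g i) := R.downward_closed (hσ i) s'
  have hid : s' ≫ g i = 𝟙 _ := Over.OverMorphism.ext hs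
  rwa [hid] at h

variable {F : 𝒳 ⥤ᵇ 𝒴}

/-- Geometric points lift along gerbes. -/
theorem exists_lift_obj (h𝒳 : IsFibGrpd 𝒳.p) (hF : Gerb.LocSurjObj (QuotSh.J Scheme.fppfPrecoverage S) F)
    (y : 𝒴.p.Fiber (Over.mk t)) :
    ∃ (x : 𝒳.p.Fiber (Over.mk t)) (m : F.obj x.1 ⟶ y.1), 𝒴.p.IsHomLift (𝟙 (Over.mk t)) m := by
  obtain ⟨x, g, hg⟩ := mem_id (Formal.objSieve_mem _ hF h𝒳 y.2)
  exact ⟨⟨x, (F.w_obj x).symm.trans (IsHomLift.domain_eq 𝒴.p (𝟙 (Over.mk t)) g)⟩, g, hg⟩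

/-- Isomorphisms of geometric points lift along gerbes. -/
theorem exists_lift_iso (h𝒳 : IsFibGrpd 𝒳.p) (hF : Gerb.LocSurjHom (QuotSh.J Scheme.fppfPrecoverage S) F)
    (x x' : 𝒳.p.Fiber (Over.mk t)) (b : F.obj x.1 ⟶ F.obj x'.1) (hb : 𝒴.p.IsHomLift (𝟙 (Over.mk t)) b) :
    Nonempty (x ≅ x') := by
  obtain ⟨x₀, φ, ψ, hφ, hψ, -⟩ := mem_id (Formal.homSieve_mem _ hF h𝒳 b x.2 hb)
  have := BasedBasic.isIso_of_isHomLift_id h𝒳 (R := Over.mk t) φ
  have := BasedBasic.isIso_of_isHomLift_id h𝒳 (R := Over.mk t) ψ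
  have h1 : 𝒳.p.IsHomLift (𝟙 (Over.mk t)) (inv φ) := IsHomLift.lift_id_inv_isIso 𝒳.p (Over.mk t) φ
  have h2 : 𝒳.p.IsHomLift (𝟙 (Over.mk t)) (inv ψ) := IsHomLift.lift_id_inv_isIso 𝒳.p (Over.mk t) ψ
  exact ⟨{ hom := ⟨inv φ ≫ ψ, inferInstance⟩
           inv := ⟨inv ψ ≫ φ, inferInstance⟩
           hom_inv_id := Subtype.ext (by change (_ ≫ _) ≫ _ ≫ _ = 𝟙 _; simp)
           inv_hom_id := Subtype.ext (by change (_ ≫ _) ≫ _ ≫ _ = 𝟙 _; simp) }⟩

end Pt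

/-- Geometric bijectivity through a gerbe. -/
theorem geomPtBij_comp_iff (h𝒳 : IsFibGrpd 𝒳.p) (h𝒴 : IsFibGrpd 𝒴.p) (F : 𝒳 ⥤ᵇ 𝒴)
    (hF : Gerb.IsGerbeOver (QuotSh.J Scheme.fppfPrecoverage S) F) (π : 𝒴 ⥤ᵇ ofSp M) :
    GeomPtBij (BasedFunctor.comp F π) ↔ GeomPtBij π := by
  have key : ∀ {T : Over S} (x : 𝒳.p.Fiber T),
      fibSec (BasedFunctor.comp F π) x = fibSec π ⟨F.obj x.1, (F.w_obj x.1).trans x.2⟩ := fun x => rfl
  constructor <;> intro h Ω _ _ t <;> obtain ⟨h1, h2⟩ := h Ω t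
  · refine ⟨fun m => ?_, fun y y' e => ?_⟩
    · obtain ⟨x, hx⟩ := h1 m
      exact ⟨_, (key x).symm.trans hx⟩
    · obtain ⟨x, g, hg⟩ := exists_lift_obj h𝒳 hF.1 y
      obtain ⟨x', g', hg'⟩ := exists_lift_obj h𝒳 hF.1 y'
      let Fx : 𝒴.p.Fiber (Over.mk t) := ⟨F.obj x.1, (F.w_obj x.1).trans x.2⟩
      let Fx' : 𝒴.p.Fiber (Over.mk t) := ⟨F.obj x'.1, (F.w_obj x'.1).trans x'.2⟩
      have e1 : fibSec π Fx = fibSec π y :=
        fibSec_eq Fx y (π.map g) (BasedFunctor.preserves_isHomLift π _ g)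
      have e2 : fibSec π Fx' = fibSec π y' :=
        fibSec_eq Fx' y' (π.map g') (BasedFunctor.preserves_isHomLift π _ g')
      obtain ⟨i⟩ := h2 x x' ((key x).trans (e1.trans (e.trans (e2.symm.trans (key x').symm))))
      have hi : 𝒳.p.IsHomLift (𝟙 (Over.mk t)) i.hom.1 := i.hom.2
      have hi' : 𝒳.p.IsHomLift (𝟙 (Over.mk t)) i.inv.1 := i.inv.2
      have := BasedBasic.isIso_of_isHomLift_id h𝒴 (R := Over.mk t) g
      have := BasedBasic.isIso_of_isHomLift_id h𝒴 (R := Over.mk t) g'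
      have a1 : 𝒴.p.IsHomLift (𝟙 (Over.mk t)) (inv g) := IsHomLift.lift_id_inv_isIso 𝒴.p (Over.mk t) g
      have a2 : 𝒴.p.IsHomLift (𝟙 (Over.mk t)) (inv g') := IsHomLift.lift_id_inv_isIso 𝒴.p (Over.mk t) g'
      have a3 := BasedFunctor.preserves_isHomLift F (𝟙 (Over.mk t)) i.hom.1
      have a4 := BasedFunctor.preserves_isHomLift F (𝟙 (Over.mk t)) i.inv.1
      have c1 : F.map i.hom.1 ≫ F.map i.inv.1 = 𝟙 _ :=
        (F.toFunctor.map_comp _ _).symm.trans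
          ((congrArg F.map (congrArg Subtype.val i.hom_inv_id)).trans (F.toFunctor.map_id _))
      have c2 : F.map i.inv.1 ≫ F.map i.hom.1 = 𝟙 _ :=
        (F.toFunctor.map_comp _ _).symm.trans
          ((congrArg F.map (congrArg Subtype.val i.inv_hom_id)).trans (F.toFunctor.map_id _))
      exact ⟨{ hom := ⟨inv g ≫ F.map i.hom.1 ≫ g', inferInstance⟩
               inv := ⟨inv g' ≫ F.map i.inv.1 ≫ g, inferInstance⟩
               hom_inv_id := Subtype.ext (by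
                 change (inv g ≫ F.map i.hom.1 ≫ g') ≫ inv g' ≫ F.map i.inv.1 ≫ g = 𝟙 _
                 simp [reassoc_of% c1])
               inv_hom_id := Subtype.ext (by
                 change (inv g' ≫ F.map i.inv.1 ≫ g) ≫ inv g ≫ F.map i.hom.1 ≫ g' = 𝟙 _
                 simp [reassoc_of% c2]) }⟩
  · refine ⟨fun m => ?_, fun x x' e => ?_⟩
    · obtain ⟨y, hy⟩ := h1 m
      obtain ⟨x, g, hg⟩ := exists_lift_obj h𝒳 hF.1 y
      exact ⟨x, (key x).trans ((fibSec_eq _ y (π.map g) (BasedFunctor.preserves_isHomLift π _ g)).trans hy)⟩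
    · obtain ⟨i⟩ := h2 _ _ ((key x).symm.trans (e.trans (key x')))
      exact exists_lift_iso h𝒳 hF.2 x x' i.hom.1 i.hom.2

end Groth.Agent.Lib.Gerbe.Coarse
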