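import Groth.Agent.Lib.Gerbe.Diag
import Groth.Agent.H14.Chart.QC2

/-!
Quasi-compactness of the diagonal descends along gerbes.
-/

set_option autoImplicit false
set_option backward.isDefEq.respectTransparency false
set_option backward.isDefEq.respectTransparency.types false

universe u

open CategoryTheory CategoryTheory.Limits AlgebraicGeometry Opposite

namespace Groth.Agent.Lib.Gerbe.DiagQC

open Groth.Agent.Lib.AlgStack
open Groth.Agent.Lib.AlgSpace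
open FibCat (IsEquivOver IsFibGrpd fp fpFst fpSnd fpLift fpIso diag overCat toSelf selfOver)
open AlgSt (RepByAlgSp1 RepByAlgSpWith IsAlgStack)
open AlgSp (Sp yon IsAlgSpace LocP RepWith)
open BasedBasic
open H14.Sep.Lft (vOf)
open H14.Sep.DiagCat (cmp cmpBase cmpToBase)
open H14.Chart
open Lib.AlgStack.Diag (isoToProd)

variable {S : Scheme.{u}} {𝒳 𝒴 : AlgSt.Cat S}

theorem isQuasiCompactMor_diag (h𝒳 : IsAlgStack Scheme.fppfPrecoverage 𝒳)
    (h𝒴 : IsAlgStack Scheme.fppfPrecoverage 𝒴) (f : 𝒳 ⥤ᵇ 𝒴)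
    (hf : Gerb.IsGerbeOver (QuotSh.J Scheme.fppfPrecoverage S) f)
    (hΔ : AlgSt.IsQuasiCompactMor Scheme.fppfPrecoverage (diag (toSelf 𝒳))) :
    AlgSt.IsQuasiCompactMor Scheme.fppfPrecoverage (diag (toSelf 𝒴)) := by
  let t := toSelf 𝒴
  let ff := cmpBase f f t
  have h0 := QC2.isAlgStack_selfOver (S := S)
  have hP := Basic.isAlgStack_fp h0 h𝒳 h𝒳 (BasedFunctor.comp f t) (BasedFunctor.comp f t)
  have hQ := Basic.isAlgStack_fp h0 h𝒴 h𝒴 t t
  have hR := Basic.isAlgStack_fp hQ hP h𝒴 ff (diag t)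
  have hF := Basic.isAlgStack_fp h𝒴 h𝒳 h𝒳 f f
  refine (QC.repByAlgSpWith_qc_iff h𝒴 hQ h𝒴.diag).1 ?_
  have hD : AlgSt.IsQuasiCompactMor Scheme.fppfPrecoverage (diag (BasedFunctor.comp f t)) := by
    rw [QC2.eq_toSelf (BasedFunctor.comp f t)]
    exact hΔ
  have hsurj : AlgSt.IsSurjective (BasedFunctor.comp (diag f) (cmpToBase f f t)) :=
    LocQ.surjective_comp (Diag.surjective_diag h𝒳 h𝒴 f hf)
      (Basic.surjective_map_of_isEquivOver (H14.Sep.DiagCat.isEquivOver_cmpToBase f f t))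
  let e : BasedFunctor.comp (BasedFunctor.comp (diag f) (cmpToBase f f t)) (fpFst ff (diag t)) ≅
      diag (BasedFunctor.comp f t) :=
    Lib.Fibred.Slice.fpIsoMk (Iso.refl _) (Iso.refl _) fun w => by
      change t.map (f.map (𝟙 _)) ≫ 𝟙 _ = t.map (𝟙 _) ≫ t.map (f.map (𝟙 _))
      simp
  have hq : RepByAlgSpWith AlgSp.IsQuasiCompactMor (fpFst ff (diag t)) :=
    (QC.repByAlgSpWith_qc_iff hR hP (Rep.repByAlgSp1_of_repByAlgSpWith
      (Rep.repByAlgSpWith_fpFst ff (Rep.repByAlgSpWith_top_iff.2 h𝒴.diag)))).2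
      (QC2.isQuasiCompactMor_of_surjective h𝒳 hR hP e hsurj hD)
  obtain ⟨W, a, ha, ha'⟩ := h𝒳.atlas
  let w := BasedFunctor.comp a f
  have hw : RepByAlgSpWith (LocP @Smooth) w :=
    LocQ.rep_chart_comp_locP LocQ.smoothST OpenSmooth.isSmoothLocalST_smooth le_rfl h𝒳 h𝒴
      (Surj.locQ_smooth h𝒳 h𝒴 f hf) ha
  have hws : RepByAlgSpWith AlgSp.IsSurjectiveMor w :=
    Points.rep_of_isSurjective h𝒴.isStack.1 (Yoneda.isFibGrpd_overCat W)
      (LocQ.repByAlgSp1_chart h𝒴 _)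
      (LocQ.surjective_comp (Points.isSurjective_of_rep h𝒳.isStack.1 ha')
        (Surj.surjective h𝒳.isStack.1 h𝒴.isStack.1 f hf.1))
  have hwf := SliceEtale.flat_of_smooth hw
  have hwp := SliceEtale.lfp_of_smooth hw
  refine H14.Sep.Cover.rep_descend H14.Sep.SpProps.stableBC_qc H14.Sep.Main.good_qc.fs
    (fun _ _ _ γ s hG hs h => H14.Sep.Cover.qc_descend hG hs h) h𝒴.diag fun T z => ?_
  obtain ⟨T₁, s₁, hs₁, u₁, ⟨α₁⟩⟩ :=
    H14.Sep.Cover.exists_lift hwf hwp hws (BasedFunctor.comp z (fpFst t t))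
  obtain ⟨T₂, s₂, hs₂, u₂, ⟨α₂⟩⟩ := H14.Sep.Cover.exists_lift hwf hwp hws
    (BasedFunctor.comp (vOf s₁) (BasedFunctor.comp z (fpSnd t t)))
  let s := s₂ ≫ s₁
  have hs : H14.Sep.Cover.Fppf s := by
    have := hs₁.1; have := hs₁.2.1; have := hs₁.2.2
    have := hs₂.1; have := hs₂.2.1; have := hs₂.2.2
    refine ⟨?_, ?_, ?_⟩ <;> (rw [Over.comp_left]; infer_instance)
  refine ⟨T₂, s, hs, ?_⟩
  let q : overCat T₂ ⥤ᵇ fp (BasedFunctor.comp f t) (BasedFunctor.comp f t) :=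
    fpLift (BasedFunctor.comp (BasedFunctor.comp (vOf s₂) u₁) a) (BasedFunctor.comp u₂ a)
      (eqToIso (Lib.AlgStack.Diag.toSelf_unique _ _))
  let α : BasedFunctor.comp q ff ≅ BasedFunctor.comp (vOf s) z :=
    isoToProd
      ((isoWhiskerLeft (vOf s₂) α₁).symm ≪≫
        isoWhiskerRight (eqToIso (H14.Sep.Lft.vOf_comp s₂ s₁)) (BasedFunctor.comp z (fpFst t t)))
      (α₂.symm ≪≫
        isoWhiskerRight (eqToIso (H14.Sep.Lft.vOf_comp s₂ s₁)) (BasedFunctor.comp z (fpSnd t t)))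
  have hB : RepByAlgSpWith AlgSp.IsQuasiCompactMor (fpFst (BasedFunctor.comp q ff) (diag t)) :=
    (Rep.repByAlgSpWith_iff_of_isEquivOver (f := fpFst (BasedFunctor.comp q ff) (diag t))
      (f' := fpFst q (fpFst ff (diag t)))
      (Rep.isEquivOver_pasteBase q ff (diag t)) isEquivOver_id
      (eqToIso (Rep.pasteBase_fst q ff (diag t)).symm)).2 (Rep.repByAlgSpWith_fpFst q hq)
  exact (Rep.repByAlgSpWith_iff_of_isEquivOver (f := fpFst (BasedFunctor.comp (vOf s) z) (diag t))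
    (f' := fpFst (BasedFunctor.comp q ff) (diag t))
    (FibProd.isEquivOver_congrLeft α (diag t)) isEquivOver_id
    (eqToIso (FibProd.congrLeft_fst α (diag t)).symm)).2 hB

end Groth.Agent.Lib.Gerbe.DiagQC
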