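import Groth.Agent.Lib.Gerbe.ImageStack

/-!
The fppf one-point substack of a one-point stack, and uniqueness of residual gerbes.
-/

set_option autoImplicit false
set_option backward.isDefEq.respectTransparency false
set_option backward.isDefEq.respectTransparency.types false

universe u

open CategoryTheory CategoryTheory.Limits AlgebraicGeometry

namespace Groth.Agent.Lib.Gerbe.FieldImage

open Groth.Agent.Lib.AlgStack
open FibCat (IsEquivOver fp fpFst fpSnd fpIso overCat IsFibGrpd)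
open AlgSt (ofSp ofSpMap toOverCat spMapOfOver RepByAlgSpWith IsAlgStack SmoothLocally fullSub subIncl)
open AlgSp (Sp yon IsAlgSpace LocP IsSurjectiveMor)

variable {S : Scheme.{u}} {𝒵 : AlgSt.Cat S} (h𝒵 : IsAlgStack Scheme.fppfPrecoverage 𝒵)

include h𝒵 in
theorem lfp_self {k : Type u} [Field k] {a : Spec (CommRingCat.of k) ⟶ S}
    {z : overCat (Over.mk a) ⥤ᵇ 𝒵} (hz : RepByAlgSpWith (LocP @LocallyOfFiniteType) z) :
    RepByAlgSpWith (LocP @LocallyOfFinitePresentation) (fpFst z z) := by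
  have eP := SourceDescent.Scheme.locallyOfFinitePresentation.{u}
  have eT := H14.Sep.SpProps.lft.{u}
  obtain ⟨G, e, he, hT⟩ := hz (Over.mk a) z
  obtain ⟨E, p, hp, hps⟩ := G.property.atlas
  obtain ⟨m, hm⟩ := (yon S).map_surjective (p ≫ spMapOfOver (BasedFunctor.comp e (fpFst z z)))
  have : LocallyOfFiniteType m.left :=
    hT p (𝟙 _) m hp (AlgSp.repWith_id _ _) (by rw [Category.comp_id, hm])
  have : IsLocallyNoetherian (Over.mk a).left :=
    inferInstanceAs (IsLocallyNoetherian (Spec (CommRingCat.of k)))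
  have hγ : LocP @LocallyOfFinitePresentation (spMapOfOver (BasedFunctor.comp e (fpFst z z))) :=
    AlgSpFpqc.LocP.locP_of_chart_to_yon eP G.property hp hps hm.symm inferInstance
  exact (Rep.repByAlgSpWith_iff_of_isEquivOver (f := fpFst z z)
    (f' := ofSpMap (spMapOfOver (BasedFunctor.comp e (fpFst z z)))) he
    (Rep.isEquivOver_toOverCat _) (Rep.isoSpMapOfOver (BasedFunctor.comp e (fpFst z z))).symm).2
    (Descend.repByAlgSpWith_ofSpMap (H14.Sep.SpProps.stableBC_locP eP) G.property (IsAlgSpace.yon_obj _) hγ)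

include h𝒵 in
theorem exists_fppf_substack {k : Type u} [Field k] {a : Spec (CommRingCat.of k) ⟶ S}
    {z : overCat (Over.mk a) ⥤ᵇ 𝒵} (hzs : RepByAlgSpWith IsSurjectiveMor z)
    (hzf : RepByAlgSpWith (LocP @Flat) z) :
    ∃ Q : 𝒵.obj → Prop, ObjectProperty.IsClosedUnderIsomorphisms Q ∧
      IsAlgStack Scheme.fppfPrecoverage (fullSub 𝒵 Q) ∧
      (∃ (k' : Type u) (_ : Field k') (a' : Spec (CommRingCat.of k') ⟶ S)
        (z' : overCat (Over.mk a') ⥤ᵇ fullSub 𝒵 Q),
        RepByAlgSpWith (LocP @LocallyOfFinitePresentation) z' ∧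
          RepByAlgSpWith IsSurjectiveMor z' ∧ RepByAlgSpWith (LocP @Flat) z') ∧
      AlgSt.IsMono (subIncl 𝒵 Q) := by
  obtain ⟨k', hk', a', w, hl, -, hf⟩ := PointStack.exists_lft_point h𝒵 hzs hzf
  obtain ⟨hiso, hA, hm, w', -, hp, hs, hfl⟩ :=
    ImageStack.main (w := w) h𝒵 (Rep.repByAlgSpWith_fpFst w hf) (lfp_self h𝒵 hl)
  exact ⟨_, hiso, hA, ⟨k', hk', a', w', hp, hs, hfl⟩, hm⟩

include h𝒵 in
/-- A full substack which is a one-point fppf image is contained in any full substack meeting it. -/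
theorem le_of_point {Q Q' : 𝒵.obj → Prop} (hiso : ObjectProperty.IsClosedUnderIsomorphisms Q)
    (hA : IsAlgStack Scheme.fppfPrecoverage (fullSub 𝒵 Q))
    (hA' : IsAlgStack Scheme.fppfPrecoverage (fullSub 𝒵 Q'))
    (hred : SmoothLocally (fun T => IsReduced T) (fullSub 𝒵 Q'))
    (hnoeth : SmoothLocally (fun T => IsLocallyNoetherian T) (fullSub 𝒵 Q'))
    (hsub : Subsingleton (AlgSt.Points (fullSub 𝒵 Q')))
    {p : AlgSt.Points (fullSub 𝒵 Q')} {q : AlgSt.Points (fullSub 𝒵 Q)}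
    (hpq : AlgSt.Points.map (subIncl 𝒵 Q') p = AlgSt.Points.map (subIncl 𝒵 Q) q)
    {ξ : 𝒵.obj} (hξ : Q' ξ) : Q ξ := by
  have hE := PointStack.isEquivOver_fpFst_of_mono hA h𝒵 hA' (subIncl 𝒵 Q')
    (PointStack.isMono_subIncl hA h𝒵) hpq hred hnoeth hsub
  obtain ⟨o, ε, -⟩ := BasedBasic.IsEquivOver.exists_iso hE ⟨ξ, hξ⟩
  exact hiso.of_iso (o.obj.iso.symm ≪≫ (subIncl 𝒵 Q').toFunctor.mapIso ε) o.obj.snd.property

end Groth.Agent.Lib.Gerbe.FieldImage
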