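import Groth.Agent.Lib.Gerbe.Rigid2
import Groth.Agent.Lib.ArtinAtlas.StackAtlas
import Groth.Agent.Lib.AlgStack.RepPsh1
import Groth.Agent.H14.IsoNat.Main
import Groth.Agent.S13007

/-!
The sheaf of isomorphism classes of a stack with flat inertia is an algebraic space.
-/

set_option autoImplicit false
set_option backward.isDefEq.respectTransparency false
set_option backward.isDefEq.respectTransparency.types false

universe u

open CategoryTheory CategoryTheory.Limits AlgebraicGeometry Opposite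

namespace Groth.Agent.Lib.Gerbe.Rigid

open Groth.Agent.Lib.AlgStack
open Groth.Agent.H14.Sep.Lft (vOf)
open Groth.Agent.Lib.SourceDescent.Scheme (EtaleLocalST)
open Groth.Agent.Lib.AlgSpace (fppfCover sigmaOver sigmaOverι)
open FibCat (IsEquivOver IsFibGrpd fp fpFst fpSnd fpLift fpIso overCat toSelf inertia inertiaToBase)
open AlgSt (ofSp ofSpMap toOverCat ofOverCat spMapOfOver overMap RepByAlgSp RepByAlgSp1 RepByAlgSpWith IsAlgStack)
open AlgSp (Sp yon IsAlgSpace LocP RepWith IsSurjectiveMor)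

variable {S : Scheme.{u}}

theorem descends_flat : H14.Sep.Cover.Descends (LocP @Flat (S := S)) := fun _ _ _ _ _ hG hs h =>
  H14.Sep.Cover.locP_descend SourceDescent.Scheme.flat hG hs (fun _ _ _ _ _ _ _ _ sq h1 h2 h3 h' =>
    MorphismProperty.of_isPullback_of_descendsAlong (P := @Flat)
      (Q := @Surjective ⊓ @Flat ⊓ @LocallyOfFinitePresentation) sq.flip ⟨⟨h3, h1⟩, h2⟩ h') h

theorem locQ_of_equiv {P : MorphismProperty Scheme.{u}} (hP : EtaleLocalST P)
    (hST : AlgSp.IsSmoothLocalST (LocP P : MorphismProperty (Sp S)))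
    (hiso : ∀ {A B : Scheme.{u}} (f : A ⟶ B) [IsIso f], P f) [P.IsStableUnderComposition]
    {𝒜 ℬ 𝒞 : AlgSt.Cat S} (h𝒜 : IsAlgStack Scheme.fppfPrecoverage 𝒜) (h𝒞 : IsAlgStack Scheme.fppfPrecoverage 𝒞)
    {E : 𝒜 ⥤ᵇ ℬ} (hE : IsEquivOver E) {f : ℬ ⥤ᵇ 𝒞} {g : 𝒜 ⥤ᵇ 𝒞} (e : BasedFunctor.comp E f ≅ g)
    (hg : AlgSt.LocQ (LocP P) g) : AlgSt.LocQ (LocP P) f := by
  obtain ⟨i, hi, -, ⟨ε⟩⟩ := BasedBasic.IsEquivOver.exists_inverse hE
  have hB := IsAlg.isAlgStack_of_isEquivOver hE h𝒜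
  have h1 : AlgSt.LocQ (LocP P) i :=
    H14.Chart.LocQ.locQ_of_repByAlgSpWith hST.precomp hB h𝒜 (rep_locP_of_iso hP hiso hi)
  exact PointStack.locQ_of_iso ((BasedBasic.isoWhiskerLeft i e).symm ≪≫ BasedBasic.isoWhiskerRight ε f)
    (Groth.Agent.S13038.result S _ hST (fun _ _ _ hA hB' hC _ _ ha hb => AlgSpMor.LocP.locP_comp hP hA hB' hC ha hb)
      _ _ _ hB h𝒜 h𝒞 i g h1 hg)

/-- Objects of a sheaf which agree on a covering family are equal. -/
theorem exists_iso_of_family (F : Sp S) {ι : Type u} {T : Over S} (Z : ι → Over S) (g : ∀ k, Z k ⟶ T)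
    (hcov : Sieve.ofArrows Z g ∈ AlgSp.J S T) (A B : (ofSp F).obj)
    (hA : (ofSp F).p.obj A = T) (hB : (ofSp F).p.obj B = T)
    (hl : ∀ k, ∃ (C : (ofSp F).obj) (α : C ⟶ A) (β : C ⟶ B),
      (ofSp F).p.IsHomLift (g k) α ∧ (ofSp F).p.IsHomLift (g k) β) :
    ∃ m : A ⟶ B, (ofSp F).p.IsHomLift (𝟙 T) m := by
  obtain ⟨T₁, s⟩ := A
  obtain ⟨T₂, t⟩ := B
  change T₁ = T at hA
  change T₂ = T at hB
  subst T₁ T₂
  have hst : s = t := by
    refine (((isSheaf_iff_isSheaf_of_type _ _).1 F.property).isSheafFor (Presieve.ofArrows Z g)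
      hcov).isSeparatedFor.ext ?_
    rintro V f ⟨k⟩
    obtain ⟨⟨V', r⟩, α, β, hα, hβ⟩ := hl k
    have hV : V' = Z k := IsHomLift.domain_eq (ofSp F).p (g k) α
    subst hV
    have h1 : α.hom = g k := by
      refine (IsHomLift.fac' (ofSp F).p (g k) α).trans ?_
      simp
    have h2 : β.hom = g k := by
      refine (IsHomLift.fac' (ofSp F).p (g k) β).trans ?_
      simp
    have e1 : F.obj.map α.hom.op s = r := α.map_sec
    have e2 : F.obj.map β.hom.op t = r := β.map_sec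
    rw [h1] at e1
    rw [h2] at e2
    exact e1.trans e2.symm
  subst hst
  exact ⟨𝟙 _, IsHomLift.id rfl⟩

variable {𝒳 : AlgSt.Cat S} (h𝒳 : IsAlgStack Scheme.fppfPrecoverage 𝒳)

include h𝒳 in
/-- Sections of the base lift to the chart locally. -/
theorem exists_chart_lift {U : Over S} {a : overCat U ⥤ᵇ 𝒳} (haf : RepByAlgSpWith (LocP @Flat) a)
    (hap : RepByAlgSpWith (LocP @LocallyOfFinitePresentation) a) (has : RepByAlgSpWith IsSurjectiveMor a)
    {T : Over S} (z : overCat T ⥤ᵇ ofSp (base h𝒳.isStack.1)) :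
    ∃ (T' : Over S) (s : T' ⟶ T) (_ : H14.Sep.Cover.Fppf s) (u : T' ⟶ U),
      Nonempty (BasedFunctor.comp (vOf s) z ≅
        BasedFunctor.comp (overMap u) (BasedFunctor.comp a (proj h𝒳.isStack.1))) := by
  have h := h𝒳.isStack.1
  let π := proj h
  let ψ := BasedFunctor.comp a π
  have hY : IsFibGrpd (ofSp (base h)).p := Stk.isFibGrpd_ofPsh (base h).obj
  let o := z.obj (Over.mk (𝟙 T))
  have ho : (ofSp (base h)).p.obj o = T := z.w_obj _
  have hlo := Criterion.locSurjObj_of_rep (Yoneda.isFibGrpd_overCat U) h haf hap has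
  have hl2 := Formal.locSurjObj_comp (AlgSp.J S) (Yoneda.isFibGrpd_overCat U) h hlo (locSurjObj_proj h)
  obtain ⟨κ, Z, g, p, hp, hpg, hmem⟩ := Lib.AlgSpace.exists_fppfCover_of_mem
    (Formal.objSieve_mem (AlgSp.J S) hl2 (Yoneda.isFibGrpd_overCat U) ho)
  choose x θ hθ using hmem
  have hx : ∀ k, ((x k).left : Over S) = Z k := fun k =>
    (ψ.w_obj (x k)).symm.trans (IsHomLift.domain_eq (ofSp (base h)).p (g k) (θ k))
  let v : ∀ k, Z k ⟶ U := fun k => eqToHom (hx k).symm ≫ (x k).hom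
  obtain ⟨b, hb, -⟩ := Lib.AlgSpace.existsUnique_sigmaOver_desc Z (F := (yon S).obj U) fun k => (yon S).map (v k)
  obtain ⟨u, rfl⟩ := (yon S).map_surjective b
  have hu : ∀ k, sigmaOverι Z k ≫ u = v k := fun k => (yon S).map_injective (by rw [Functor.map_comp, hb k])
  let Φ := BasedFunctor.comp (vOf p) z
  let Ψ := BasedFunctor.comp (overMap u) ψ
  let A := Φ.obj (Over.mk (𝟙 (sigmaOver Z)))
  let B := Ψ.obj (Over.mk (𝟙 (sigmaOver Z)))
  obtain ⟨m, hm⟩ := exists_iso_of_family (base h) Z _ (Lib.AlgSpace.sigmaOverι_mem_J Z) A B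
    (Φ.w_obj _) (Ψ.w_obj _) fun k => by
    let n : x k ⟶ (overMap u).obj (Over.mk (𝟙 (sigmaOver Z))) :=
      Over.homMk (eqToHom (hx k) ≫ sigmaOverι Z k) (by
        change (eqToHom (hx k) ≫ sigmaOverι Z k) ≫ 𝟙 _ ≫ u = (x k).hom
        rw [Category.id_comp, Category.assoc, hu k]
        simp [v])
    let j : (vOf p).obj (Over.mk (𝟙 (sigmaOver Z))) ⟶ Over.mk (𝟙 T) :=
      Over.homMk p (by
        change p ≫ 𝟙 T = 𝟙 _ ≫ p
        simp)
    have hj : (ofSp (base h)).p.IsHomLift p (z.map j) := Yoneda.map_isHomLift z j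
    have hθk := hθ k
    have := Yoneda.stronglyCartesian hY p (z.map j)
    let α := Functor.IsStronglyCartesian.map (ofSp (base h)).p p (z.map j) (g := sigmaOverι Z k)
      (hpg k).symm (θ k)
    refine ⟨ψ.obj (x k), α, ψ.map n, Functor.IsStronglyCartesian.map_isHomLift _ _ _ _ _, ?_⟩
    have h1 : (ofSp (base h)).p.IsHomLift n.left (ψ.map n) := Yoneda.map_isHomLift ψ n
    change (ofSp (base h)).p.IsHomLift (eqToHom (hx k) ≫ sigmaOverι Z k) (ψ.map n) at h1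
    exact (IsHomLift.lift_eqToHom_comp_iff (ofSp (base h)).p _ _ _).1 h1
  have := hm
  obtain ⟨e, -⟩ := Yoneda.exists_iso_of_id hY Φ Ψ m
  exact ⟨_, p, ⟨hp.1.2, hp.2, hp.1.1⟩, u, ⟨e⟩⟩

variable (hI₁ : AlgSt.LocQ (LocP @Flat) (inertiaToBase (toSelf 𝒳)))
  (hI₂ : AlgSt.LocQ (LocP @LocallyOfFinitePresentation) (inertiaToBase (toSelf 𝒳)))

include hI₁ hI₂ in
theorem isAlgSpace_base : IsAlgSpace (base h𝒳.isStack.1) := by
  have h := h𝒳.isStack.1
  obtain ⟨hK, hKf, hKp⟩ := self_product h𝒳 hI₁ hI₂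
  obtain ⟨U, a, ha, has⟩ := h𝒳.atlas
  have haf := SliceEtale.flat_of_smooth ha
  have hap := SliceEtale.lfp_of_smooth ha
  have eF := SourceDescent.Scheme.flat.{u}
  have eP := SourceDescent.Scheme.locallyOfFinitePresentation.{u}
  have hSF := H14.Chart.SmLocal.isSmoothLocalST_flat (S := S)
  have hSP := H14.Chart.SmLocal.isSmoothLocalST_lfp (S := S)
  have hbF : H14.Sep.SpProps.StableBC (LocP @Flat (S := S)) := H14.Sep.SpProps.stableBC_locP eF
  have hbP : H14.Sep.SpProps.StableBC (LocP @LocallyOfFinitePresentation (S := S)) := H14.Sep.SpProps.stableBC_locP eP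
  let π := proj h
  let ψ := BasedFunctor.comp a π
  have hU := H14.Chart.Basic.isAlgStack_overCat U
  have hYs : Stk.IsStack (AlgSp.J S) (ofSp (base h)) :=
    (StkBasic.isStack_ofPsh_iff _ _).2 ((isSheaf_iff_isSheaf_of_type _ _).1 (base h).property)
  have hA₀ := H14.Chart.Basic.isAlgStack_fp h𝒳 hK hU (fpSnd π π) a
  have hA₁ := IsAlg.isAlgStack_of_isEquivOver (AlgStack.Rep.isEquivOver_pasteComp π π a) hA₀
  have hA₂ := H14.Chart.Basic.isAlgStack_fp h𝒳 hU hA₁ a (fpFst π ψ)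
  have hA₃ := IsAlg.isAlgStack_of_isEquivOver (AlgStack.Rep.isEquivOver_pasteBase a π ψ) hA₂
  have hQf : ∀ {P : MorphismProperty Scheme.{u}}, EtaleLocalST P → P.IsStableUnderComposition →
      AlgSp.IsSmoothLocalST (LocP P : MorphismProperty (Sp S)) →
      (∀ {A B : Scheme.{u}} (f : A ⟶ B) [IsIso f], P f) → RepByAlgSpWith (LocP P) a →
      AlgSt.LocQ (LocP P) (fpFst π π) → AlgSt.LocQ (LocP P) (fpFst ψ ψ) := by
    intro P hP _ hST hiso haP hKP
    have hb : H14.Sep.SpProps.StableBC (LocP P (S := S)) := H14.Sep.SpProps.stableBC_locP hP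
    have haQ := H14.Chart.LocQ.locQ_of_repByAlgSpWith hST.precomp hU h𝒳 haP
    have h1 : AlgSt.LocQ (LocP P) (BasedFunctor.comp (fpFst (fpSnd π π) a) (fpFst π π)) :=
      Groth.Agent.S13038.result S _ hST (fun _ _ _ hA hB hC _ _ ha hb => AlgSpMor.LocP.locP_comp hP hA hB hC ha hb)
        _ _ _ hA₀ hK h𝒳 _ _ (H14.Chart.LocQ.locQ_fpFst hST hb hU h𝒳 hK (fpSnd π π) haQ) hKP
    have h2 : AlgSt.LocQ (LocP P) (fpFst π ψ) := locQ_of_equiv hP hST hiso hA₀ h𝒳
      (AlgStack.Rep.isEquivOver_pasteComp π π a) (eqToIso (AlgStack.Rep.pasteComp_fst π π a)) h1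
    exact locQ_of_equiv hP hST hiso hA₂ hU (AlgStack.Rep.isEquivOver_pasteBase a π ψ)
      (eqToIso (AlgStack.Rep.pasteBase_fst a π ψ)) (H14.Chart.LocQ.locQ_fpFst hST hb hA₁ h𝒳 hU a h2)
  have : (overCat U).p.Faithful := inferInstanceAs (Over.forget U).Faithful
  have : ψ.toFunctor.Faithful := Functor.Faithful.of_comp_eq ψ.w
  have hKr : RepByAlgSp (fp ψ ψ) := AlgStack.Setoidal.repByAlgSp_of_setoidal hA₃
    (FibProd.setoidal_fp_of_faithful (AlgStack.Space.setoidal_of_repByAlgSp (Diag.repByAlgSp_overCat U)))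
  have : (fpFst ψ ψ).toFunctor.Faithful := ⟨fun {x y m m'} e => by
    have e1 : m.hom.fst = m'.hom.fst := e
    refine Lib.Fibred.Fp.hom_ext e1 (ψ.toFunctor.map_injective ?_)
    rw [← cancel_epi x.obj.iso.hom, ← Lib.Fibred.Fp.w m, ← Lib.Fibred.Fp.w m', e1]⟩
  have hr1 : RepByAlgSp1 (fpFst ψ ψ) := SetoidalApps.repByAlgSp1_of_faithful hA₃ hU _
  have hRf : RepByAlgSpWith (LocP @Flat) (fpFst ψ ψ) :=
    H14.Chart.LocQ.repByAlgSpWith_of_locQ hSF hbF hA₃ hU hr1
      (hQf eF inferInstance hSF (fun f _ => inferInstance) haf hKf)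
  have hRp : RepByAlgSpWith (LocP @LocallyOfFinitePresentation) (fpFst ψ ψ) :=
    H14.Chart.LocQ.repByAlgSpWith_of_locQ hSP hbP hA₃ hU hr1
      (hQf eP inferInstance hSP (fun f _ => inferInstance) hap hKp)
  have hRs : RepByAlgSpWith IsSurjectiveMor (fpFst ψ ψ) :=
    H14.Chart.Points.rep_of_isSurjective hU.isStack.1 hA₃.isStack.1 hr1 fun q =>
      ⟨AlgSt.Points.map (fpLift (BasedFunctor.id (overCat U)) (BasedFunctor.id (overCat U)) (Iso.refl ψ)) q, by
        rw [← H14.Chart.Basic.map_comp]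
        exact H14.Chart.Basic.map_id q⟩
  -- local lifts
  have lift : ∀ (T : Over S) (z : overCat T ⥤ᵇ ofSp (base h)), ∃ (T' : Over S) (s : T' ⟶ T)
      (_ : H14.Sep.Cover.Fppf s) (u : T' ⟶ U),
      Nonempty (BasedFunctor.comp (vOf s) z ≅ BasedFunctor.comp (overMap u) ψ) :=
    fun T z => exists_chart_lift h𝒳 haf hap has z
  have hr : RepByAlgSp1 ψ := by
    intro T z
    obtain ⟨T', s, hs, u, ⟨ε⟩⟩ := lift T z
    have hst : Stk.IsStack (AlgSp.J S) (fp z ψ) :=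
      StkFp.isStack_fp (StkRep.isStack_of_repByAlgSp (Diag.repByAlgSp_overCat T))
        (StkRep.isStack_of_repByAlgSp (Diag.repByAlgSp_overCat U)) (QuotSt.isPrestack_of_isStack hYs)
    have h2 : RepByAlgSp (fp (BasedFunctor.comp (vOf s) z) ψ) :=
      AlgStack.Rep.repByAlgSp_of_equiv (FibProd.isEquivOver_congrLeft ε.symm ψ)
        (AlgStack.Rep.repByAlgSp_of_equiv (AlgStack.Rep.isEquivOver_pasteBase (overMap u) ψ ψ)
          (hr1 T' (overMap u)))
    exact ArtinAtlas.repByAlgSp_of_fppfCover hst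
      (FibProd.setoidal_fp_of_faithful (AlgStack.Space.setoidal_of_repByAlgSp (Diag.repByAlgSp_overCat T)))
      s hs.1 hs.2.1 hs.2.2 (fpFst z ψ)
      (AlgStack.Rep.repByAlgSp_of_equiv' (AlgStack.Rep.isEquivOver_pasteBase (vOf s) z ψ) h2)
  have desc : ∀ {P : MorphismProperty (Sp S)}, H14.Sep.SpProps.StableBC P → H14.Sep.SpProps.FromSchemes P →
      H14.Sep.Cover.Descends P → RepByAlgSpWith P (fpFst ψ ψ) → RepByAlgSpWith P ψ := by
    intro P hb hfs hd hR
    refine H14.Sep.Cover.rep_descend hb hfs hd hr fun T z => ?_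
    obtain ⟨T', s, hs, u, ⟨ε⟩⟩ := lift T z
    exact ⟨T', s, hs, (AlgStack.Rep.repByAlgSpWith_iff_of_isEquivOver
      (f := fpFst (BasedFunctor.comp (vOf s) z) ψ) (f' := fpFst (overMap u) (fpFst ψ ψ))
      (BasedBasic.IsEquivOver.comp (AlgStack.Rep.isEquivOver_pasteBase (overMap u) ψ ψ)
        (FibProd.isEquivOver_congrLeft ε.symm ψ))
      BasedBasic.isEquivOver_id (eqToIso rfl)).2 (AlgStack.Rep.repByAlgSpWith_fpFst (overMap u) hR)⟩
  have hF := desc hbF (H14.Sep.SpProps.fromSchemes_locP eF) descends_flat hRf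
  have hP := desc hbP (H14.Sep.SpProps.fromSchemes_locP eP) H14.IsoNat.Main.descends_lfp hRp
  have hs : RepByAlgSpWith IsSurjectiveMor ψ := H14.Chart.Points.rep_of_isSurjective hYs.1 hU.isStack.1 hr
    fun q => by
      obtain ⟨T, z, t, rfl⟩ := H14.Chart.Points.exists_ofChart_eq hYs.1 q
      obtain ⟨T', s, hs, u, ⟨ε⟩⟩ := lift T z
      obtain ⟨t', rfl⟩ := hs.2.2.surj t
      refine ⟨AlgSt.Points.ofChart (overMap u) t', ?_⟩
      rw [H14.Chart.Points.map_ofChart, ← H14.Chart.Points.ofChart_iso ε]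
      exact H14.Chart.Points.ofChart_overMap s z t'
  -- as a map of sheaves
  let c : (yon S).obj U ⟶ base h := AlgStack.Space.spHom (BasedFunctor.comp (toOverCat U) ψ)
  have tr : ∀ {P : MorphismProperty (Sp S)}, RepByAlgSpWith P ψ → RepByAlgSpWith P (ofSpMap c) := fun hh =>
    (AlgStack.Rep.repByAlgSpWith_iff_of_isEquivOver (f := ψ) (f' := ofSpMap c)
      (AlgStack.Rep.isEquivOver_toOverCat U) BasedBasic.isEquivOver_id
      (OfPsh.isoOfPshMap (BasedFunctor.comp (toOverCat U) ψ)).symm).1 hh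
  refine Bootstrap.isAlgSpace_of_fppf_cover (IsAlgSpace.yon_obj U) (p := c)
    ((AlgSp.repBySpWith_hom_iff _ c).2 fun T ξ Q q₁ q₂ sq => ?_)
  let y : overCat T ⥤ᵇ ofSp (base h) := BasedFunctor.comp (ofOverCat T) (ofSpMap ξ)
  obtain ⟨t, ht, hfst⟩ := RepPsh1.exists_equiv_of_isPullback (sq.map (sheafToPresheaf _ _)) y
    (OfPsh.pshMap_ofPshMap ξ.hom)
  obtain ⟨G, e, he, -⟩ := tr hF T y
  obtain ⟨i, hi, -, -⟩ := BasedBasic.IsEquivOver.exists_inverse he
  let e' : ofSp Q ⥤ᵇ fp y (ofSpMap c) := t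
  have := AlgStack.Space.isIso_spHom (BasedBasic.IsEquivOver.comp (show IsEquivOver e' from ht) hi)
  have hQ : IsAlgSpace Q := IsAlgSpace.of_iso G.property (asIso (AlgStack.Space.spHom (BasedFunctor.comp e' i))).symm
  have hq₂ : spMapOfOver (BasedFunctor.comp e' (fpFst y (ofSpMap c))) = q₂ := by
    have : BasedFunctor.comp e' (fpFst y (ofSpMap c)) = BasedFunctor.comp (ofSpMap q₂) (toOverCat T) := hfst
    rw [this]
    exact AlgStack.Rep.spMapOfOver_ofSpMap_toOverCat q₂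
  refine ⟨hQ, ⟨?_, ?_⟩, ?_⟩
  · exact hq₂ ▸ AlgStack.Space.prop_of_rep IsAlgFp.respectsIsoSp_surjective (tr hs) hQ (show IsEquivOver e' from ht)
  · exact hq₂ ▸ AlgStack.Space.prop_of_rep (IsAlgFp.respectsIsoSp_locP eF) (tr hF) hQ (show IsEquivOver e' from ht)
  · exact hq₂ ▸ AlgStack.Space.prop_of_rep (IsAlgFp.respectsIsoSp_locP eP) (tr hP) hQ (show IsEquivOver e' from ht)

end Groth.Agent.Lib.Gerbe.Rigid
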