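import Groth.Agent.Lib.Gerbe.FieldImage
import Groth.Agent.Lib.Gerbe.Diag
import Groth.Agent.Lib.Gerbe.Rigid3
import Groth.Agent.Lib.FibreDeg.Basic

/-!
The inertia of a stack with an fppf field point is flat and locally of finite presentation.
-/

set_option autoImplicit false
set_option backward.isDefEq.respectTransparency false
set_option backward.isDefEq.respectTransparency.types false

universe u

open CategoryTheory CategoryTheory.Limits AlgebraicGeometry

namespace Groth.Agent.Lib.Gerbe.OnePointInertia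

open Groth.Agent.Lib.AlgStack
open Groth.Agent.H14.Sep.Lft (vOf)
open Groth.Agent.Lib.SourceDescent.Scheme (EtaleLocalST)
open FibCat (IsEquivOver fp fpFst fpSnd overCat toSelf inertia inertiaToBase)
open AlgSt (ofSp ofSpMap spMapOfOver RepByAlgSp1 RepByAlgSpWith IsAlgStack)
open AlgSp (Sp yon IsAlgSpace LocP RepWith IsSurjectiveMor)

variable {S : Scheme.{u}} {𝒵 ℐ : AlgSt.Cat S} {k : Type u} [Field k] {a : Spec (CommRingCat.of k) ⟶ S}

/-- A morphism locally of finite type is flat and finitely presented over a field point. -/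
theorem locP_over_field {P : MorphismProperty Scheme.{u}} (hP : EtaleLocalST P)
    (hk : ∀ {E : Scheme.{u}} (m : E ⟶ Spec (CommRingCat.of k)), LocallyOfFiniteType m → P m)
    {d : ℐ ⥤ᵇ overCat (Over.mk a)} (hd : RepByAlgSpWith (LocP @LocallyOfFiniteType) d) :
    RepByAlgSpWith (LocP P) (fpFst (BasedFunctor.id _) d) := by
  obtain ⟨G, e, he, hT⟩ := hd (Over.mk a) (BasedFunctor.id _)
  obtain ⟨E, p, hp, hps⟩ := G.property.atlas
  obtain ⟨m, hm⟩ := (yon S).map_surjective (p ≫ spMapOfOver (BasedFunctor.comp e (fpFst (BasedFunctor.id _) d)))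
  have : LocallyOfFiniteType m.left :=
    hT p (𝟙 _) m hp (AlgSp.repWith_id _ _) (by rw [Category.comp_id, hm])
  have hγ : LocP P (spMapOfOver (BasedFunctor.comp e (fpFst (BasedFunctor.id _) d))) :=
    AlgSpFpqc.LocP.locP_of_chart_to_yon hP G.property hp hps hm.symm (hk m.left ‹_›)
  exact (Rep.repByAlgSpWith_iff_of_isEquivOver (f := fpFst (BasedFunctor.id _) d)
    (f' := ofSpMap (spMapOfOver (BasedFunctor.comp e (fpFst (BasedFunctor.id _) d)))) he
    (Rep.isEquivOver_toOverCat _) (Rep.isoSpMapOfOver (BasedFunctor.comp e (fpFst (BasedFunctor.id _) d))).symm).2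
    (Descend.repByAlgSpWith_ofSpMap (H14.Sep.SpProps.stableBC_locP hP) G.property (IsAlgSpace.yon_obj _) hγ)

/-- Over a stack with an fppf field point, morphisms locally of finite type have the properties
which hold over fields. -/
theorem rep_of_field_point {P : MorphismProperty Scheme.{u}} (hP : EtaleLocalST P)
    (hdes : H14.Sep.Cover.Descends (LocP P (S := S)))
    (hk : ∀ {E : Scheme.{u}} (m : E ⟶ Spec (CommRingCat.of k)), LocallyOfFiniteType m → P m)
    {z : overCat (Over.mk a) ⥤ᵇ 𝒵} (hzf : RepByAlgSpWith (LocP @Flat) z)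
    (hzp : RepByAlgSpWith (LocP @LocallyOfFinitePresentation) z) (hzs : RepByAlgSpWith IsSurjectiveMor z)
    {d : ℐ ⥤ᵇ 𝒵} (hd : RepByAlgSpWith (LocP @LocallyOfFiniteType) d) :
    RepByAlgSpWith (LocP P) d := by
  refine H14.Sep.Cover.rep_descend (H14.Sep.SpProps.stableBC_locP hP) (H14.Sep.SpProps.fromSchemes_locP hP) hdes
    (Rep.repByAlgSp1_of_repByAlgSpWith hd) fun T y => ?_
  obtain ⟨T', s, hs, u, ⟨ε⟩⟩ := H14.Sep.Cover.exists_lift hzf hzp hzs y
  refine ⟨T', s, hs, ?_⟩
  have h0 := locP_over_field hP hk (Rep.repByAlgSpWith_fpFst z hd)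
  exact (Rep.repByAlgSpWith_iff_of_isEquivOver
    (f := fpFst (BasedFunctor.comp (vOf s) y) d) (f' := fpFst u (fpFst (BasedFunctor.id _) (fpFst z d)))
    (BasedBasic.IsEquivOver.comp (BasedBasic.IsEquivOver.comp
      (Rep.isEquivOver_pasteBase u (BasedFunctor.id _) (fpFst z d))
      (Rep.isEquivOver_pasteBase u z d))
      (FibProd.isEquivOver_congrLeft ε.symm d))
    BasedBasic.isEquivOver_id (eqToIso rfl)).2 (Rep.repByAlgSpWith_fpFst u h0)

/-- The inertia of a stack with an fppf field point is flat and finitely presented. -/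
theorem inertia_props (h𝒵 : IsAlgStack Scheme.fppfPrecoverage 𝒵) {z : overCat (Over.mk a) ⥤ᵇ 𝒵}
    (hzf : RepByAlgSpWith (LocP @Flat) z)
    (hzp : RepByAlgSpWith (LocP @LocallyOfFinitePresentation) z) (hzs : RepByAlgSpWith IsSurjectiveMor z) :
    AlgSt.LocQ (LocP @Flat) (inertiaToBase (toSelf 𝒵)) ∧
      AlgSt.LocQ (LocP @LocallyOfFinitePresentation) (inertiaToBase (toSelf 𝒵)) := by
  have hl := H14.Sep.Inertia.inertiaToBase_of_diag (H14.Sep.Lft.diag_toSelf_lft h𝒵)
  have hI : IsAlgStack Scheme.fppfPrecoverage (inertia (toSelf 𝒵)) :=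
    RepOver.isAlgStack_of_repByAlgSp1 (Fibred.SelfOver.inertia_grpd h𝒵.isStack.1 (Fibred.SelfOver.selfOver_grpd))
      h𝒵 (Rep.repByAlgSp1_of_repByAlgSpWith hl)
  have h1 := rep_of_field_point SourceDescent.Scheme.flat Rigid.descends_flat
    (fun m _ => FibreDeg.Basic.flat_of_field m) hzf hzp hzs hl
  have h2 := rep_of_field_point SourceDescent.Scheme.locallyOfFinitePresentation H14.IsoNat.Main.descends_lfp
    (fun {E} (m : E ⟶ _) (_ : LocallyOfFiniteType m) => by
      have : IsLocallyNoetherian (Spec (CommRingCat.of k)) := inferInstance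
      infer_instance) hzf hzp hzs hl
  exact ⟨H14.Chart.LocQ.locQ_of_repByAlgSpWith H14.Chart.SmLocal.isSmoothLocalST_flat.precomp hI h𝒵 h1,
    H14.Chart.LocQ.locQ_of_repByAlgSpWith H14.Chart.SmLocal.isSmoothLocalST_lfp.precomp hI h𝒵 h2⟩

end Groth.Agent.Lib.Gerbe.OnePointInertia
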