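import Groth.Agent.Lib.Gerbe.QF1
import Groth.Agent.Lib.Gerbe.OnePointInertia
import Groth.Agent.H14.Chart.OpenSub
import Groth.Agent.H14.Chart.QC
import Groth.Agent.S0414

/-!
Generic flatness of the inertia: a reduced stack with quasi-compact inertia has a dense open gerbe.
-/

set_option autoImplicit false
set_option backward.isDefEq.respectTransparency false
set_option backward.isDefEq.respectTransparency.types false

universe u

open CategoryTheory CategoryTheory.Limits AlgebraicGeometry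

namespace Groth.Agent.Lib.Gerbe.GenFlat

open Groth.Agent.Lib.AlgStack
open Groth.Agent.H14.Sep.Lft (vOf)
open Groth.Agent.Lib.SourceDescent.Scheme (EtaleLocalST)
open Groth.Agent.Lib.AlgSpace (sigmaOver sigmaOverι)
open FibCat (IsEquivOver IsFibGrpd fp fpFst fpSnd fpIso overCat toSelf inertia inertiaToBase)
open AlgSt (overMap RepByAlgSp1 RepByAlgSpWith IsAlgStack fullSub subIncl)
open AlgSp (Sp yon LocP RepWith IsEtaleMor IsSurjectiveMor)

variable {S : Scheme.{u}} {𝒜 : AlgSt.Cat S}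

/-- The base change of an étale chart along a morphism of schemes. -/
theorem bc_chart (h𝒜 : IsFibGrpd 𝒜.p) {T T' : Over S} {f : 𝒜 ⥤ᵇ overCat T}
    {E : Over S} {c : overCat E ⥤ᵇ 𝒜} (hc : RepByAlgSpWith IsEtaleMor c) {m : E ⟶ T}
    (ι : BasedFunctor.comp c f ≅ overMap m) (v : T' ⟶ T) :
    ∃ c' : overCat (pullback v m) ⥤ᵇ fp (overMap v) f, RepByAlgSpWith IsEtaleMor c' ∧
      (RepByAlgSpWith IsSurjectiveMor c → AlgSt.IsSurjective c') ∧
      Nonempty (BasedFunctor.comp c' (fpFst (overMap v) f) ≅ overMap (pullback.fst v m)) := by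
  let a : overCat T' ⥤ᵇ overCat T := overMap v
  have hT : IsFibGrpd (overCat T).p := Yoneda.isFibGrpd_overCat T
  have hA : IsFibGrpd (fp a f).p := FibProd.isFibGrpd_fp (Yoneda.isFibGrpd_overCat T') h𝒜 hT
  have hAc : IsFibGrpd (fp (fpSnd a f) c).p := FibProd.isFibGrpd_fp hA (Yoneda.isFibGrpd_overCat E) h𝒜
  obtain ⟨K, hK, ⟨k₁⟩, -⟩ := QF.exists_sq (Iso.refl a) ι
  obtain ⟨i, hi, -, ⟨η₂⟩⟩ := BasedBasic.IsEquivOver.exists_inverse (Rep.isEquivOver_pasteComp a f c)
  have hJ : IsEquivOver (BasedFunctor.comp K i) := BasedBasic.IsEquivOver.comp hK hi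
  have eE := SourceDescent.Scheme.etale.{u}
  refine ⟨BasedFunctor.comp (BasedFunctor.comp K i) (fpFst (fpSnd a f) c), SliceEtale.of_locP_etale
    (IsAlgFp.comp_locP eE (Yoneda.isFibGrpd_overCat _) hAc
      (Rigid.rep_locP_of_iso eE (fun f _ => inferInstance) hJ)
      (Rep.repByAlgSpWith_fpFst (fpSnd a f) (SliceEtale.etale_locP hc))), fun hs => ?_,
    ⟨BasedBasic.isoWhiskerRight (BasedBasic.isoWhiskerLeft K η₂) (fpFst a (BasedFunctor.comp c f)) ≪≫ k₁⟩⟩
  intro q
  obtain ⟨r, hr⟩ := H14.Chart.Points.isSurjective_of_rep hA (Rep.repByAlgSpWith_fpFst (fpSnd a f) hs) q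
  obtain ⟨r', rfl⟩ := H14.Chart.Basic.surjective_map_of_isEquivOver hJ r
  exact ⟨r', by rw [H14.Chart.Basic.map_comp]; exact hr⟩

theorem fpFst_overMapComp {T T' U : Over S} {𝒳 𝒴 : AlgSt.Cat S} {P : MorphismProperty (Sp S)} (v : T' ⟶ T)
    (w : T ⟶ U) (a : overCat U ⥤ᵇ 𝒴) (d : 𝒳 ⥤ᵇ 𝒴) :
    RepByAlgSpWith P (fpFst (BasedFunctor.comp (overMap (v ≫ w)) a) d) ↔
      RepByAlgSpWith P (fpFst (overMap v) (fpFst (BasedFunctor.comp (overMap w) a) d)) :=
  Rep.repByAlgSpWith_iff_of_isEquivOver (f := fpFst (BasedFunctor.comp (overMap (v ≫ w)) a) d)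
    (f' := fpFst (overMap v) (fpFst (BasedFunctor.comp (overMap w) a) d))
    (BasedBasic.IsEquivOver.comp (Rep.isEquivOver_pasteBase (overMap v) (BasedFunctor.comp (overMap w) a) d)
      (FibProd.isEquivOver_congrLeft (BasedBasic.isoWhiskerRight (ChartLift.overMapComp v w) a) d))
    BasedBasic.isEquivOver_id (eqToIso rfl)

/-- The inertia of a full substack is the base change of the inertia. -/
theorem exists_inertia_equiv {𝒳 : AlgSt.Cat S} {Q : 𝒳.obj → Prop} (hQ : ObjectProperty.IsClosedUnderIsomorphisms Q) :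
    ∃ Ψ : inertia (toSelf (fullSub 𝒳 Q)) ⥤ᵇ fp (subIncl 𝒳 Q) (inertiaToBase (toSelf 𝒳)),
      IsEquivOver Ψ ∧
      Nonempty (BasedFunctor.comp Ψ (fpFst (subIncl 𝒳 Q) (inertiaToBase (toSelf 𝒳))) ≅
        inertiaToBase (toSelf (fullSub 𝒳 Q))) := by
  let ι := subIncl 𝒳 Q
  let K : inertia (toSelf (fullSub 𝒳 Q)) ⥤ᵇ inertia (toSelf 𝒳) :=
    { toFunctor :=
        { obj := fun z => ⟨ι.obj z.pt, ι.toFunctor.mapIso z.aut, z.map_aut⟩
          map := fun φ => ⟨ι.map φ.hom, congrArg (fun k => ι.map k) φ.comm⟩ }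
      w := rfl }
  let Ψ := FibCat.fpLift (F := ι) (G := inertiaToBase (toSelf 𝒳)) (inertiaToBase (toSelf (fullSub 𝒳 Q))) K
    (Iso.refl _)
  have : ι.toFunctor.Full := inferInstanceAs (ObjectProperty.ι Q).Full
  have : ι.toFunctor.Faithful := inferInstanceAs (ObjectProperty.ι Q).Faithful
  have : Ψ.toFunctor.Faithful := ⟨fun {x y φ ψ} h => FibCat.InertiaObj.hom_ext
    (congrArg (fun k : Ψ.obj x ⟶ Ψ.obj y => k.hom.fst) h)⟩
  have : Ψ.toFunctor.Full := ⟨fun {x y} k => by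
    have w : ι.map k.hom.fst = k.hom.snd.hom := by
      have h := k.hom.w
      exact (Category.comp_id _).symm.trans (h.trans (Category.id_comp _))
    refine ⟨⟨k.hom.fst, ι.toFunctor.map_injective ?_⟩, Lib.Fibred.Fp.hom_ext rfl (FibCat.InertiaObj.hom_ext w)⟩
    rw [ι.toFunctor.map_comp, ι.toFunctor.map_comp, w]
    exact k.hom.snd.comm⟩
  refine ⟨Ψ, BasedBasic.isEquivOver_of Ψ fun η => ?_, ⟨Iso.refl _⟩⟩
  let q : (fullSub 𝒳 Q).obj := η.obj.fst
  let i₀ : ι.obj q ≅ η.obj.snd.pt := η.obj.iso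
  let β : ι.obj q ≅ ι.obj q := i₀ ≪≫ η.obj.snd.aut ≪≫ i₀.symm
  let o : (inertia (toSelf (fullSub 𝒳 Q))).obj := ⟨q, ι.toFunctor.preimageIso β, by
    change 𝒳.p.map (ι.map (ι.toFunctor.preimage β.hom)) = 𝟙 _
    rw [ι.toFunctor.map_preimage]
    have h1 := η.obj.snd.map_aut
    change 𝒳.p.map η.obj.snd.aut.hom = 𝟙 _ at h1
    simp only [β, Iso.trans_hom, Iso.symm_hom, Functor.map_comp, h1]
    simp [← Functor.map_comp]⟩
  have hi : 𝒳.p.IsHomLift (𝟙 ((fullSub 𝒳 Q).p.obj q)) i₀.hom := η.property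
  let κ : K.obj o ≅ η.obj.snd :=
    { hom := ⟨i₀.hom, by
        change ι.map (ι.toFunctor.preimage β.hom) ≫ i₀.hom = i₀.hom ≫ η.obj.snd.aut.hom
        rw [ι.toFunctor.map_preimage]
        simp [β]⟩
      inv := ⟨i₀.inv, by
        change η.obj.snd.aut.hom ≫ i₀.inv = i₀.inv ≫ ι.map (ι.toFunctor.preimage β.hom)
        rw [ι.toFunctor.map_preimage]
        simp [β]⟩
      hom_inv_id := FibCat.InertiaObj.hom_ext i₀.hom_inv_id
      inv_hom_id := FibCat.InertiaObj.hom_ext i₀.inv_hom_id }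
  refine ⟨o, Lib.Fibred.Fp.isoMk (Iso.refl q) κ ?_, (Lib.Fibred.Fp.isHomLift_iff _ _).2 (IsHomLift.id rfl)⟩
  change ι.map (𝟙 q) ≫ i₀.hom = 𝟙 _ ≫ i₀.hom
  rw [ι.toFunctor.map_id]

variable {𝒳 : AlgSt.Cat S} (h𝒳 : IsAlgStack Scheme.fppfPrecoverage 𝒳)

include h𝒳 in
/-- Over a dense open of an affine piece of a reduced chart the inertia is flat and finitely presented. -/
theorem exists_dense_affine (hI : AlgSt.IsQuasiCompactMor Scheme.fppfPrecoverage (inertiaToBase (toSelf 𝒳)))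
    {O : Over S} [IsAffine O.left] [IsReduced O.left] (a : overCat O ⥤ᵇ 𝒳) :
    ∃ W : O.left.Opens, Dense (W : Set O.left) ∧
      RepByAlgSpWith (LocP @Flat) (fpFst (overMap (Over.homMk W.ι rfl : Over.mk (W.ι ≫ O.hom) ⟶ O))
        (fpFst a (inertiaToBase (toSelf 𝒳)))) ∧
      RepByAlgSpWith (LocP @LocallyOfFinitePresentation)
        (fpFst (overMap (Over.homMk W.ι rfl : Over.mk (W.ι ≫ O.hom) ⟶ O)) (fpFst a (inertiaToBase (toSelf 𝒳)))) := by
  let d := inertiaToBase (toSelf 𝒳)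
  have hg := h𝒳.isStack.1
  have hl := H14.Sep.Inertia.inertiaToBase_of_diag (H14.Sep.Lft.diag_toSelf_lft h𝒳)
  have hr : RepByAlgSp1 d := Rep.repByAlgSp1_of_repByAlgSpWith hl
  have hIS : IsAlgStack Scheme.fppfPrecoverage (inertia (toSelf 𝒳)) :=
    RepOver.isAlgStack_of_repByAlgSp1 (Fibred.SelfOver.inertia_grpd hg Fibred.SelfOver.selfOver_grpd) h𝒳 hr
  have hO := H14.Chart.Basic.isAlgStack_overCat O
  have hF := H14.Chart.Basic.isAlgStack_fp h𝒳 hO hIS a d
  have : CompactSpace (AlgSt.Points (fp a d)) :=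
    (H14.Chart.QC.isQuasiCompactMor_iff hIS h𝒳).1 hI O inferInstance a
  obtain ⟨G, e, he⟩ := hr O a
  obtain ⟨E, p₀, hpe, hps⟩ := G.property.atlas
  let cE : overCat E ⥤ᵇ fp a d :=
    BasedFunctor.comp (AlgSt.ofOverCat E) (BasedFunctor.comp (AlgSt.ofSpMap p₀) e)
  have atl : ∀ {R : MorphismProperty (Sp S)}, (∀ ⦃G : Sp S⦄ ⦃X : Over S⦄ (q : G ⟶ (yon S).obj X),
      RepWith @Etale q → RepWith @Surjective q → R q) → RepByAlgSpWith R cE := fun hR =>
    (Rep.repByAlgSpWith_iff_of_isEquivOver (f' := BasedFunctor.comp (AlgSt.ofOverCat E) (AlgSt.ofSpMap p₀))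
      BasedBasic.isEquivOver_id he (Iso.refl _)).2 (IsAlg.repByAlgSpWith_atlas hpe hps hR)
  have hce : RepByAlgSpWith IsEtaleMor cE := atl fun _ _ q hq _ => IsAlg.isEtaleMor hq
  have hcs : RepByAlgSpWith IsSurjectiveMor cE := atl fun _ _ q _ hq => Lib.AlgSpace.surjective_map hq
  have hFg := hF.isStack.1
  -- a quasi-compact piece of the chart covers everything
  have hsm : RepByAlgSpWith (LocP @Smooth) cE := Rep.repByAlgSpWith_mono (SliceEtale.etale_locP hce)
    fun _ _ _ _ _ h => H14.Chart.SmLocal.locP_mono (fun _ _ m (hm : Etale m) => by infer_instance) h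
  obtain ⟨fin, hfin⟩ := isCompact_univ.elim_finite_subcover
    (fun V : E.left.affineOpens => AlgSt.Points.ofChart cE '' (V.1 : Set E.left))
    (fun V => H14.Chart.Points.isOpenMap_ofChart hFg hsm _ V.1.isOpen) fun q _ => by
      obtain ⟨x, rfl⟩ := H14.Chart.Points.surjective_ofChart hFg hcs q
      obtain ⟨V, hV, hxV, -⟩ := exists_isAffineOpen_mem_and_subset (x := x) (U := (⊤ : E.left.Opens)) trivial
      exact Set.mem_iUnion.2 ⟨⟨V, hV⟩, x, hxV, rfl⟩
  let V : E.left.Opens := ⨆ i ∈ fin, i.1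
  have hVc : IsCompact (V : Set E.left) := by
    simp only [V, TopologicalSpace.Opens.coe_iSup]
    exact fin.isCompact_biUnion fun i _ => i.2.isCompact
  let E' : Over S := Over.mk (V.ι ≫ E.hom)
  let jV : E' ⟶ E := Over.homMk V.ι rfl
  let c := BasedFunctor.comp (overMap jV) cE
  have eE := SourceDescent.Scheme.etale.{u}
  have hc : RepByAlgSpWith IsEtaleMor c := SliceEtale.of_locP_etale
    (IsAlgFp.comp_locP eE (Yoneda.isFibGrpd_overCat E') (Yoneda.isFibGrpd_overCat E)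
      (H14.Chart.Basic.rep_overMap_locP jV eE (inferInstanceAs (Etale V.ι))) (SliceEtale.etale_locP hce))
  have hcS : AlgSt.IsSurjective c := fun q => by
    obtain ⟨i, hi, x, hx, rfl⟩ := Set.mem_iUnion₂.1 (hfin (Set.mem_univ q))
    have hxV : x ∈ V := by
      simp only [V, TopologicalSpace.Opens.mem_iSup]
      exact ⟨i, hi, hx⟩
    refine ⟨AlgSt.Points.ofChart (BasedFunctor.id (overCat E')) (⟨x, hxV⟩ : V), ?_⟩
    rw [H14.Chart.Points.map_ofChart]
    exact H14.Chart.Points.ofChart_overMap jV cE (⟨x, hxV⟩ : V)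
  have hcs' : RepByAlgSpWith IsSurjectiveMor c :=
    H14.Chart.Points.rep_of_isSurjective hFg (Yoneda.isFibGrpd_overCat E')
      (Rep.repByAlgSp1_of_repByAlgSpWith hc) hcS
  obtain ⟨m, ⟨ι⟩⟩ := H14.Chart.Points.exists_iso_overMap (BasedFunctor.comp c (fpFst a d))
  have eT := H14.Sep.SpProps.lft.{u}
  have : LocallyOfFiniteType m.left := AlgSp.locP_yon_map
    (ChartLift.prop_overMap (IsAlgFp.respectsIsoSp_locP eT) (IsAlgFp.detected_locP eT)
      (Rep.repByAlgSpWith_of_iso ι (IsAlgFp.comp_locP eT (Yoneda.isFibGrpd_overCat E') hFg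
        (Rep.repByAlgSpWith_mono (SliceEtale.etale_locP hc) fun _ _ _ _ _ h =>
          H14.Chart.SmLocal.locP_mono (fun _ _ g (hg : Etale g) => by infer_instance) h)
        (Rep.repByAlgSpWith_fpFst a hl))))
  have : CompactSpace E'.left := isCompact_iff_compactSpace.1 hVc
  have : QuasiCompact m.left := (quasiCompact_iff_compactSpace m.left).2 inferInstance
  obtain ⟨W, hW, hWf, hWp⟩ := S0414.result m.left
  refine ⟨W, hW, ?_⟩
  let OW : Over S := Over.mk (W.ι ≫ O.hom)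
  let v : OW ⟶ O := Over.homMk W.ι rfl
  obtain ⟨c', hc', hcS', ⟨ι'⟩⟩ := bc_chart hFg hc ι v
  have sq := ((IsPullback.of_hasPullback v m).map (Over.forget S))
  have hpb : ∀ {P : MorphismProperty Scheme.{u}} [P.RespectsIso], P (m.left ∣_ W) →
      P (pullback.fst v m).left := fun {P} _ h => by
    have sq' := isPullback_morphismRestrict m.left W
    have e := IsPullback.isoIsPullback _ _ sq sq'
    change P ((Over.forget S).map (pullback.fst v m))
    rw [← IsPullback.isoIsPullback_hom_fst _ _ sq sq']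
    exact (MorphismProperty.cancel_left_of_respectsIso P _ _).2 h
  have hOW := H14.Chart.Basic.isAlgStack_overCat OW
  have hF' := H14.Chart.Basic.isAlgStack_fp hO hOW hF (overMap v) (fpFst a d)
  have hr' : RepByAlgSp1 (fpFst (overMap v) (fpFst a d)) :=
    Rep.repByAlgSp1_fpFst _ (Rep.repByAlgSp1_fpFst a hr)
  have hc's : RepByAlgSpWith IsSurjectiveMor c' :=
    H14.Chart.Points.rep_of_isSurjective hF'.isStack.1 (Yoneda.isFibGrpd_overCat _)
      (Rep.repByAlgSp1_of_repByAlgSpWith hc') (hcS' hcs')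
  have hc'm : RepByAlgSpWith (LocP @Smooth) c' := Rep.repByAlgSpWith_mono (SliceEtale.etale_locP hc')
    fun _ _ _ _ _ h => H14.Chart.SmLocal.locP_mono (fun _ _ m (hm : Etale m) => by infer_instance) h
  have mk : ∀ {P : MorphismProperty Scheme.{u}} [P.IsStableUnderBaseChange], EtaleLocalST P →
      P (m.left ∣_ W) → AlgSt.LocQ (LocP P) (fpFst (overMap v) (fpFst a d)) := fun {P} _ hP h =>
    ⟨_, OW, c', overMap (𝟙 OW), pullback.fst v m,
      ι' ≪≫ eqToIso (congrArg overMap (Category.comp_id _).symm) ≪≫ (ChartLift.overMapComp _ _).symm, hc'm, hc's,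
      H14.Chart.Basic.rep_overMap_locP _ SourceDescent.Scheme.smooth (inferInstanceAs (Smooth (𝟙 OW.left))), AlgSpMor.LocP.locP_of_repWith hP ((AlgSp.repWith_yon_map_iff _ _).2 (hpb h))⟩
  exact ⟨H14.Chart.LocQ.repByAlgSpWith_of_locQ H14.Chart.SmLocal.isSmoothLocalST_flat
      (H14.Sep.SpProps.stableBC_locP SourceDescent.Scheme.flat) hF' hOW hr'
      (mk SourceDescent.Scheme.flat hWf),
    H14.Chart.LocQ.repByAlgSpWith_of_locQ H14.Chart.SmLocal.isSmoothLocalST_lfp
      (H14.Sep.SpProps.stableBC_locP SourceDescent.Scheme.locallyOfFinitePresentation) hF' hOW hr'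
      (mk SourceDescent.Scheme.locallyOfFinitePresentation hWp)⟩

include h𝒳 in
/-- A reduced stack with quasi-compact inertia has a dense open gerbe. -/
theorem main (hred : AlgSt.SmoothLocally (fun T => IsReduced T) 𝒳)
    (hI : AlgSt.IsQuasiCompactMor Scheme.fppfPrecoverage (inertiaToBase (toSelf 𝒳))) :
    ∃ Q : 𝒳.obj → Prop, AlgSt.IsOpenSubstack 𝒳 Q Scheme.fppfPrecoverage ∧
      Dense (Set.range (AlgSt.Points.map (subIncl 𝒳 Q))) ∧
      Gerb.IsAlgGerbe Scheme.fppfPrecoverage (fullSub 𝒳 Q) := by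
  let d := inertiaToBase (toSelf 𝒳)
  have hg := h𝒳.isStack.1
  have hl := H14.Sep.Inertia.inertiaToBase_of_diag (H14.Sep.Lft.diag_toSelf_lft h𝒳)
  have hr : RepByAlgSp1 d := Rep.repByAlgSp1_of_repByAlgSpWith hl
  obtain ⟨U, a, ha, has⟩ := h𝒳.atlas
  have : IsReduced U.left := hred U a ha
  -- the dense opens
  let O : U.left.affineOpens → Over S := fun i => Over.mk (i.1.ι ≫ U.hom)
  have hOa : ∀ i, IsAffine (O i).left := fun i => i.2
  have hOr : ∀ i, IsReduced (O i).left := fun i => isReduced_of_isOpenImmersion i.1.ι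
  let j : ∀ i, O i ⟶ U := fun i => Over.homMk i.1.ι rfl
  choose W hW hWf hWp using fun i =>
    haveI := hOa i; haveI := hOr i
    exists_dense_affine h𝒳 hI (BasedFunctor.comp (overMap (j i)) a)
  let OW : U.left.affineOpens → Over S := fun i => Over.mk ((W i).ι ≫ (O i).hom)
  let v : ∀ i, OW i ⟶ O i := fun i => Over.homMk (W i).ι rfl
  let U₁ := sigmaOver OW
  let b₁ : U₁ ⟶ U := Over.homMk (Sigma.desc fun i => (W i).ι ≫ i.1.ι)
    (Sigma.hom_ext _ _ fun i => by simp [U₁, OW, O])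
  have hι : ∀ i, sigmaOverι OW i ≫ b₁ = v i ≫ j i := fun i =>
    Over.OverMorphism.ext (by simp [b₁, v, j, sigmaOverι])
  have : Smooth b₁.left := IsZariskiLocalAtSource.sigmaDesc (P := @Smooth)
    fun i => (inferInstance : Smooth ((W i).ι ≫ i.1.ι))
  let b := BasedFunctor.comp (overMap b₁) a
  have hb : RepByAlgSpWith (LocP @Smooth) b :=
    IsAlgFp.comp_locP SourceDescent.Scheme.smooth (Yoneda.isFibGrpd_overCat _) (Yoneda.isFibGrpd_overCat _)
      (H14.Chart.Basic.rep_overMap_locP b₁ SourceDescent.Scheme.smooth ‹_›) ha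
  let V₀ := Set.range (AlgSt.Points.ofChart b)
  have hV₀ : IsOpen V₀ := (H14.Chart.Points.isOpenMap_ofChart hg hb).isOpen_range
  have hd₁ : Dense (Set.range b₁.left) := by
    rw [dense_iff_inter_open]
    rintro N hN ⟨u, hu⟩
    obtain ⟨A, hA, huA, -⟩ := exists_isAffineOpen_mem_and_subset (x := u) (U := (⊤ : U.left.Opens)) trivial
    let i : U.left.affineOpens := ⟨A, hA⟩
    obtain ⟨o, hoN, hoW⟩ := dense_iff_inter_open.1 (hW i) (i.1.ι ⁻¹' N) (hN.preimage i.1.ι.continuous)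
      ⟨⟨u, huA⟩, hu⟩
    refine ⟨i.1.ι o, hoN, (sigmaOverι OW i).left ⟨o, hoW⟩, ?_⟩
    rw [← Scheme.Hom.comp_apply, ← Over.comp_left, hι i]
    rfl
  have hdense : Dense V₀ := by
    have h1 : V₀ = AlgSt.Points.ofChart a '' Set.range b₁.left :=
      H14.Chart.OpenSub.range_comp_overMap b₁ a
    rw [h1]
    exact (H14.Chart.Points.surjective_ofChart hg has).denseRange.dense_image
      (H14.Chart.Points.continuous_ofChart h𝒳 a) hd₁
  let Q := H14.Chart.OpenSub.sub hg V₀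
  have hQo := H14.Chart.OpenSub.isOpenSubstack_sub h𝒳 hV₀
  refine ⟨Q, hQo, (H14.Chart.OpenSub.range_map_sub hg V₀).symm ▸ hdense, ?_⟩
  -- the base change of the inertia to the chart
  have hU₁ := H14.Chart.Basic.isAlgStack_overCat U₁
  have hbd : ∀ {P : MorphismProperty Scheme.{u}} [P.IsStableUnderBaseChange] [IsZariskiLocalAtTarget P]
      [P.RespectsIso], EtaleLocalST P → (∀ {A B : Scheme.{u}} (g : A ⟶ B) [Etale g], P g) →
      (∀ i, RepByAlgSpWith (LocP P) (fpFst (overMap (v i)) (fpFst (BasedFunctor.comp (overMap (j i)) a) d))) →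
      RepByAlgSpWith (LocP P) (fpFst b d) := by
    intro P _ _ _ hP het hPi
    obtain ⟨G, e, he⟩ := hr U₁ b
    refine fun T z => ?_
    revert T z
    obtain ⟨E, p₀, hpe, hps⟩ := G.property.atlas
    let cE : overCat E ⥤ᵇ fp b d :=
      BasedFunctor.comp (AlgSt.ofOverCat E) (BasedFunctor.comp (AlgSt.ofSpMap p₀) e)
    have hce : RepByAlgSpWith IsEtaleMor cE :=
      (Rep.repByAlgSpWith_iff_of_isEquivOver (f' := BasedFunctor.comp (AlgSt.ofOverCat E) (AlgSt.ofSpMap p₀))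
        BasedBasic.isEquivOver_id he (Iso.refl _)).2
        (IsAlg.repByAlgSpWith_atlas hpe hps fun _ _ q hq _ => IsAlg.isEtaleMor hq)
    obtain ⟨m, hm⟩ := (yon S).map_surjective (p₀ ≫ AlgSt.spMapOfOver (BasedFunctor.comp e (fpFst b d)))
    have hv' : AlgSt.spMapOfOver (BasedFunctor.comp (AlgSt.ofSpMap p₀) (BasedFunctor.comp e (fpFst b d))) =
        (yon S).map m := by rw [Rep.spMapOfOver_precomp, hm]
    let ιE : BasedFunctor.comp cE (fpFst b d) ≅ vOf m :=
      BasedBasic.isoWhiskerLeft (AlgSt.ofOverCat E)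
        (Rep.isoSpMapOfOver (BasedFunctor.comp (AlgSt.ofSpMap p₀) (BasedFunctor.comp e (fpFst b d))) ≪≫
          eqToIso (by rw [hv']))
    have hIS : IsFibGrpd (inertia (toSelf 𝒳)).p := Fibred.SelfOver.inertia_grpd hg Fibred.SelfOver.selfOver_grpd
    have hbg : IsFibGrpd (fp b d).p := FibProd.isFibGrpd_fp (Yoneda.isFibGrpd_overCat U₁) hIS hg
    have hmi : ∀ i, P (pullback.fst (sigmaOverι OW i) m).left := fun i => by
      obtain ⟨c', hc', -, ⟨ι'⟩⟩ := bc_chart hbg hce ιE (sigmaOverι OW i)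
      have h1 : RepByAlgSpWith (LocP P) (fpFst (overMap (sigmaOverι OW i)) (fpFst b d)) := by
        refine (fpFst_overMapComp (sigmaOverι OW i) b₁ a d).1 ?_
        rw [hι i]
        exact (fpFst_overMapComp (v i) (j i) a d).2 (hPi i)
      have h2 : RepByAlgSpWith (LocP P) c' := Rep.repByAlgSpWith_mono (SliceEtale.etale_locP hc')
        fun _ _ _ _ _ h => H14.Chart.SmLocal.locP_mono (fun _ _ g (hg : Etale g) => het g) h
      exact AlgSp.locP_yon_map (ChartLift.prop_overMap (IsAlgFp.respectsIsoSp_locP hP) (IsAlgFp.detected_locP hP)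
        (Rep.repByAlgSpWith_of_iso ι' (IsAlgFp.comp_locP hP (Yoneda.isFibGrpd_overCat _)
          (FibProd.isFibGrpd_fp (Yoneda.isFibGrpd_overCat _) hbg (Yoneda.isFibGrpd_overCat U₁)) h2 h1)))
    have hPm : P m.left := by
      refine (IsZariskiLocalAtTarget.iff_of_openCover (P := P) (sigmaOpenCover fun i => (OW i).left)).2 fun i => ?_
      have sq := ((IsPullback.of_hasPullback (sigmaOverι OW i) m).map (Over.forget S)).flip
      have h := hmi i
      change P ((Over.forget S).map (pullback.fst (sigmaOverι OW i) m)) at h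
      rw [← sq.isoPullback_hom_snd] at h
      replace h := (MorphismProperty.cancel_left_of_respectsIso P _ _).1 h
      exact h
    have hγ : LocP P (AlgSt.spMapOfOver (BasedFunctor.comp e (fpFst b d))) :=
      AlgSpFpqc.LocP.locP_of_chart_to_yon hP G.property hpe hps hm.symm hPm
    exact (Rep.repByAlgSpWith_iff_of_isEquivOver (f := fpFst b d)
      (f' := AlgSt.ofSpMap (AlgSt.spMapOfOver (BasedFunctor.comp e (fpFst b d)))) he
      (Rep.isEquivOver_toOverCat U₁) (Rep.isoSpMapOfOver (BasedFunctor.comp e (fpFst b d))).symm).2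
      (Descend.repByAlgSpWith_ofSpMap (H14.Sep.SpProps.stableBC_locP hP) G.property (AlgSp.IsAlgSpace.yon_obj _) hγ)
  have eF := SourceDescent.Scheme.flat.{u}
  have eP := SourceDescent.Scheme.locallyOfFinitePresentation.{u}
  have hbF := hbd eF (fun g _ => inferInstance) hWf
  have hbP := hbd eP (fun g _ => inferInstance) hWp
  -- the inertia of the open substack
  let F := subIncl 𝒳 Q
  have hQA := hQo.2.1
  have hQg := hQA.isStack.1
  have hFr : RepByAlgSp1 (fpFst F d) := Rep.repByAlgSp1_fpFst F hr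
  have hFd : ∀ {P : MorphismProperty Scheme.{u}} (hP : EtaleLocalST P),
      H14.Sep.Cover.Descends (LocP P (S := S)) → RepByAlgSpWith (LocP P) (fpFst b d) →
      RepByAlgSpWith (LocP P) (fpFst F d) := by
    intro P hP hdes hPb
    refine H14.Sep.Cover.rep_descend (H14.Sep.SpProps.stableBC_locP hP) (H14.Sep.SpProps.fromSchemes_locP hP)
      hdes hFr fun T z => ?_
    let z₀ := BasedFunctor.comp z F
    obtain ⟨T', c, l, w, -, hws, ⟨ec⟩, ⟨el⟩, -, hsm, -, -⟩ :=
      ChartLift.exists_chart hg z₀ (Rep.repByAlgSp1_of_repByAlgSpWith hb)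
    have : Smooth c.left := hsm hb
    have hcs : Surjective c.left := ⟨fun t => by
      have hmem : AlgSt.Points.ofChart z₀ t ∈ V₀ := by
        rw [← H14.Chart.Points.map_ofChart F z t]
        exact (H14.Chart.OpenSub.range_map_sub hg V₀).subset (Set.mem_range_self _)
      obtain ⟨u, hu⟩ := hmem
      obtain ⟨R, q₁, q₂, r, rfl, -, ⟨σ⟩⟩ := H14.Chart.Points.exists_of_ofChart_eq hg hu.symm
      obtain ⟨x, hx, -⟩ := ChartLift.exists_point hg hws ec el q₁ q₂ σ r
      exact ⟨x, hx⟩⟩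
    let ε : BasedFunctor.comp (overMap c) z₀ ≅ BasedFunctor.comp (overMap l) b :=
      BasedBasic.isoWhiskerRight ec.symm z₀ ≪≫ BasedBasic.isoWhiskerLeft w (fpIso z₀ b) ≪≫
        BasedBasic.isoWhiskerRight el b
    refine ⟨T', c, ⟨inferInstance, inferInstance, hcs⟩, ?_⟩
    have h1 : RepByAlgSpWith (LocP P) (fpFst (BasedFunctor.comp (overMap l) b) d) :=
      (Rep.repByAlgSpWith_iff_of_isEquivOver (f := fpFst (BasedFunctor.comp (overMap l) b) d)
        (f' := fpFst (overMap l) (fpFst b d)) (Rep.isEquivOver_pasteBase (overMap l) b d)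
        BasedBasic.isEquivOver_id (eqToIso rfl)).2 (Rep.repByAlgSpWith_fpFst (overMap l) hPb)
    have h2 : RepByAlgSpWith (LocP P) (fpFst (BasedFunctor.comp (BasedFunctor.comp (vOf c) z) F) d) :=
      (Rep.repByAlgSpWith_iff_of_isEquivOver (f := fpFst (BasedFunctor.comp (BasedFunctor.comp (vOf c) z) F) d)
        (f' := fpFst (BasedFunctor.comp (overMap l) b) d) (FibProd.isEquivOver_congrLeft ε.symm d)
        BasedBasic.isEquivOver_id (eqToIso rfl)).2 h1
    exact (Rep.repByAlgSpWith_iff_of_isEquivOver (f := fpFst (BasedFunctor.comp (BasedFunctor.comp (vOf c) z) F) d)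
      (f' := fpFst (BasedFunctor.comp (vOf c) z) (fpFst F d))
      (Rep.isEquivOver_pasteBase (BasedFunctor.comp (vOf c) z) F d)
      BasedBasic.isEquivOver_id (eqToIso rfl)).1 h2
  have hiso : ObjectProperty.IsClosedUnderIsomorphisms Q := hQo.1
  obtain ⟨Ψ, hΨ, ⟨ιΨ⟩⟩ := exists_inertia_equiv hiso
  have hQP : ∀ {P : MorphismProperty Scheme.{u}}, RepByAlgSpWith (LocP P) (fpFst F d) →
      RepByAlgSpWith (LocP P) (inertiaToBase (toSelf (fullSub 𝒳 Q))) := fun h =>
    (Rep.repByAlgSpWith_iff_of_isEquivOver (f := fpFst F d) (f' := inertiaToBase (toSelf (fullSub 𝒳 Q)))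
      hΨ BasedBasic.isEquivOver_id ιΨ.symm).1 h
  have k1 := hQP (hFd eF Rigid.descends_flat hbF)
  have k2 := hQP (hFd eP H14.IsoNat.Main.descends_lfp hbP)
  have hI' : IsAlgStack Scheme.fppfPrecoverage (inertia (toSelf (fullSub 𝒳 Q))) :=
    RepOver.isAlgStack_of_repByAlgSp1 (Fibred.SelfOver.inertia_grpd hQg Fibred.SelfOver.selfOver_grpd) hQA
      (Rep.repByAlgSp1_of_repByAlgSpWith k1)
  exact ⟨⟨_, Rigid.isAlgSpace_base hQA
      (H14.Chart.LocQ.locQ_of_repByAlgSpWith H14.Chart.SmLocal.isSmoothLocalST_flat.precomp hI' hQA k1)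
      (H14.Chart.LocQ.locQ_of_repByAlgSpWith H14.Chart.SmLocal.isSmoothLocalST_lfp.precomp hI' hQA k2)⟩,
    Rigid.proj hQg, Rigid.isGerbeOver_proj hQg⟩

end Groth.Agent.Lib.Gerbe.GenFlat
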