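import Groth.Agent.Lib.Gerbe.PointStack2
import Groth.Agent.Lib.AlgStack.SetoidalApps
import Groth.Agent.Lib.AlgStack.ImageSub
import Groth.Agent.H2.Rigid.GeomRegPt
import Groth.Agent.S1535

/-!
Residual gerbes: factorization, functoriality, regularity.
-/

set_option autoImplicit false
set_option backward.isDefEq.respectTransparency false
set_option backward.isDefEq.respectTransparency.types false

universe u

open CategoryTheory CategoryTheory.Limits AlgebraicGeometry Opposite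

namespace Groth.Agent.Lib.Gerbe.PointStack

open Groth.Agent.Lib.AlgStack
open FibCat (IsEquivOver IsFibGrpd fp fpFst fpSnd fpIso overCat)
open AlgSt (ofSp overMap spMapOfOver RepByAlgSp1 RepByAlgSpWith IsAlgStack SmoothLocally fullSub subIncl)
open AlgSp (Sp yon IsAlgSpace LocP RepWith)

variable {S : Scheme.{u}}

theorem isMono_subIncl {𝒳 : AlgSt.Cat S} {Q : 𝒳.obj → Prop}
    (h : IsAlgStack Scheme.fppfPrecoverage (fullSub 𝒳 Q)) (h𝒳 : IsAlgStack Scheme.fppfPrecoverage 𝒳) :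
    AlgSt.IsMono (subIncl 𝒳 Q) :=
  have : (subIncl 𝒳 Q).toFunctor.Full := inferInstanceAs (ObjectProperty.ι Q).Full
  have : (subIncl 𝒳 Q).toFunctor.Faithful := inferInstanceAs (ObjectProperty.ι Q).Faithful
  SetoidalApps.isMono_of_fullyFaithful h h𝒳 _

/-- Base changes of a monomorphism onto a fppf one-point stack are equivalences. -/
theorem isEquivOver_fpFst_of_mono {𝒳 𝒴 𝒵 : AlgSt.Cat S} (h𝒳 : IsAlgStack Scheme.fppfPrecoverage 𝒳)
    (h𝒴 : IsAlgStack Scheme.fppfPrecoverage 𝒴) (h𝒵 : IsAlgStack Scheme.fppfPrecoverage 𝒵)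
    (g : 𝒵 ⥤ᵇ 𝒴) {f : 𝒳 ⥤ᵇ 𝒴} (hf : AlgSt.IsMono f)
    {p : AlgSt.Points 𝒵} {q : AlgSt.Points 𝒳} (hpq : AlgSt.Points.map g p = AlgSt.Points.map f q)
    (hred : SmoothLocally (fun T => IsReduced T) 𝒵) (hnoeth : SmoothLocally (fun T => IsLocallyNoetherian T) 𝒵)
    (hsub : Subsingleton (AlgSt.Points 𝒵)) : IsEquivOver (fpFst g f) := by
  obtain ⟨k, _, a, z, hs, hfl⟩ := exists_flat_point h𝒵 hred ⟨p⟩ hsub
  obtain ⟨k', _, a', z', hl, hs', hf'⟩ := exists_lft_point h𝒵 hs hfl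
  obtain ⟨r, -, -⟩ := H14.Chart.Basic.exists_points_fp h𝒳.isStack.1 h𝒴.isStack.1 h𝒵.isStack.1 hpq
  exact isEquivOver_of_mono h𝒵 (H14.Chart.Basic.isAlgStack_fp h𝒴 h𝒵 h𝒳 g f)
    (Rep.repByAlgSpWith_fpFst g hf) ⟨r⟩ (lfp_of_lft h𝒵 hnoeth hl) hs' hf'

/-- Field points in the class of `x` factor through the residual gerbe. -/
theorem factors {𝒳 : AlgSt.Cat S} (h𝒳 : IsAlgStack Scheme.fppfPrecoverage 𝒳) {x : AlgSt.Points 𝒳}
    {Q : 𝒳.obj → Prop} (hQ : Gerb.IsResGerbe Scheme.fppfPrecoverage 𝒳 x Q)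
    {K : Type u} [Field K] {a : Spec (CommRingCat.of K) ⟶ S} (p : overCat (Over.mk a) ⥤ᵇ 𝒳)
    (hp : ∀ t : ↥(Over.mk a).left, AlgSt.Points.ofChart p t = x) :
    ∃ q : overCat (Over.mk a) ⥤ᵇ fullSub 𝒳 Q, Nonempty (BasedFunctor.comp q (subIncl 𝒳 Q) ≅ p) := by
  obtain ⟨-, hZ, -, -, ⟨r⟩, -, hr⟩ := hQ
  obtain ⟨G, e, he, hm⟩ := isMono_subIncl hZ h𝒳 (Over.mk a) p
  have hm' : Mono (spMapOfOver (BasedFunctor.comp e (fpFst p (subIncl 𝒳 Q)))) := hm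
  have : Nonempty (AlgSp.Points G.obj) := by
    have hk : Nonempty ↥(Over.mk a).left := inferInstanceAs (Nonempty (PrimeSpectrum K))
    obtain ⟨t⟩ := hk
    obtain ⟨s, -, -⟩ := H14.Chart.Basic.exists_points_fp hZ.isStack.1 h𝒳.isStack.1
      (Yoneda.isFibGrpd_overCat (Over.mk a)) (g := p) (f := subIncl 𝒳 Q)
      (p := AlgSt.Points.ofChart (BasedFunctor.id (overCat (Over.mk a))) t) (q := r)
      (by rw [H14.Chart.Points.map_ofChart, hr]; exact hp t)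
    obtain ⟨s', -⟩ := H14.Chart.Basic.surjective_map_of_isEquivOver he s
    exact ⟨H14.Chart.UnivTop.toSp G s'⟩
  have eF := SourceDescent.Scheme.flat.{u}
  have eP := SourceDescent.Scheme.locallyOfFinitePresentation.{u}
  have : MorphismProperty.ContainsIdentities @LocallyOfFinitePresentation.{u} := ⟨fun X => (inferInstance : LocallyOfFinitePresentation (𝟙 X))⟩
  have : MorphismProperty.ContainsIdentities @Flat.{u} := ⟨fun X => (inferInstance : Flat (𝟙 X))⟩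
  have hi : IsIso (spMapOfOver (BasedFunctor.comp e (fpFst p (subIncl 𝒳 Q)))) :=
    AlgSpDecent.OnePointMono.isIso_of_mono (IsAlgSpace.yon_obj _) G.property _ (p := 𝟙 _)
      (AlgSpMor.LocP.locP_of_repWith eP (AlgSp.repWith_id _ _))
      (AlgSpMor.LocP.locP_of_repWith eF (AlgSp.repWith_id _ _))
      (fun q => ⟨q, by rw [AlgSp.Points.map_id]⟩)
  exact exists_preimage (inv (spMapOfOver (BasedFunctor.comp e (fpFst p (subIncl 𝒳 Q))))) (IsIso.inv_hom_id _)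

/-- Morphisms induce morphisms of residual gerbes. -/
theorem exists_map {𝒳 𝒴 : AlgSt.Cat S} (h𝒳 : IsAlgStack Scheme.fppfPrecoverage 𝒳)
    (h𝒴 : IsAlgStack Scheme.fppfPrecoverage 𝒴) (f : 𝒳 ⥤ᵇ 𝒴) {x : AlgSt.Points 𝒳}
    {Q : 𝒳.obj → Prop} (hQ : Gerb.IsResGerbe Scheme.fppfPrecoverage 𝒳 x Q)
    {Q' : 𝒴.obj → Prop} (hQ' : Gerb.IsResGerbe Scheme.fppfPrecoverage 𝒴 (AlgSt.Points.map f x) Q') :
    ∃ g : fullSub 𝒳 Q ⥤ᵇ fullSub 𝒴 Q',
      Nonempty (BasedFunctor.comp g (subIncl 𝒴 Q') ≅ BasedFunctor.comp (subIncl 𝒳 Q) f) := by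
  obtain ⟨-, hZ, hred, hnoeth, ⟨r⟩, hsub, hr⟩ := hQ
  obtain ⟨-, hZ', -, -, ⟨r'⟩, -, hr'⟩ := hQ'
  let h := BasedFunctor.comp (subIncl 𝒳 Q) f
  have hE := isEquivOver_fpFst_of_mono hZ' h𝒴 hZ h (isMono_subIncl hZ' h𝒴) (p := r) (q := r')
    (by rw [H14.Chart.Basic.map_comp, hr, hr']) hred hnoeth hsub
  obtain ⟨i, hi, -, ⟨η⟩⟩ := BasedBasic.IsEquivOver.exists_inverse hE
  exact ⟨BasedFunctor.comp i (fpSnd h (subIncl 𝒴 Q')),
    ⟨(BasedBasic.isoWhiskerLeft i (fpIso h (subIncl 𝒴 Q'))).symm ≪≫ BasedBasic.isoWhiskerRight η h⟩⟩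

/-- A reduced, locally Noetherian stack with one point is regular. -/
theorem isRegular {𝒵 : AlgSt.Cat S} (h𝒵 : IsAlgStack Scheme.fppfPrecoverage 𝒵)
    (hred : SmoothLocally (fun T => IsReduced T) 𝒵)
    (hne : Nonempty (AlgSt.Points 𝒵)) (hsub : Subsingleton (AlgSt.Points 𝒵)) :
    SmoothLocally (fun T => ∀ t : T, IsRegularLocalRing (T.presheaf.stalk t)) 𝒵 := fun U y hy => by
  obtain ⟨k, _, a, z, hzs, hzf⟩ := exists_flat_point h𝒵 hred hne hsub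
  obtain ⟨E, q, v, hv, hs, hQ⟩ := exists_common h𝒵 y hy hzs
  have : Flat q.left := hQ SourceDescent.Scheme.flat hzf
  have : Smooth v.left := hv
  intro t
  obtain ⟨w, rfl⟩ := q.left.surjective t
  letI : E.left.Over (Spec (CommRingCat.of k)) := ⟨(v.left : E.left ⟶ Spec (CommRingCat.of k))⟩
  have : Smooth (E.left ↘ Spec (CommRingCat.of k)) := hv
  exact H2.Rigid.GeomRegPt.regular_of_flat q.left w (S1535.result k E.left w)

/-- A reduced, locally Noetherian one-point stack is the residual gerbe of its image. -/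
theorem exists_isResGerbe {𝒳 𝒵 : AlgSt.Cat S} (h𝒳 : IsAlgStack Scheme.fppfPrecoverage 𝒳) {x : AlgSt.Points 𝒳}
    (h𝒵 : IsAlgStack Scheme.fppfPrecoverage 𝒵)
    (hred : SmoothLocally (fun T => IsReduced T) 𝒵) (hnoeth : SmoothLocally (fun T => IsLocallyNoetherian T) 𝒵)
    (hne : Nonempty (AlgSt.Points 𝒵)) (hsub : Subsingleton (AlgSt.Points 𝒵))
    (f : 𝒵 ⥤ᵇ 𝒳) (hf : AlgSt.IsMono f) (hfx : ∀ p : AlgSt.Points 𝒵, AlgSt.Points.map f p = x) :
    ∃ Q : 𝒳.obj → Prop, Gerb.IsResGerbe Scheme.fppfPrecoverage 𝒳 x Q ∧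
      ∃ e : 𝒵 ⥤ᵇ fullSub 𝒳 Q, IsEquivOver e ∧ Nonempty (BasedFunctor.comp e (subIncl 𝒳 Q) ≅ f) := by
  obtain ⟨e, he, hc⟩ := ImageSub.exists_equiv h𝒵.isStack.1 h𝒳.isStack.1 hf
  have hA := IsAlg.isAlgStack_of_isEquivOver he h𝒵
  obtain ⟨i, hi, -, -⟩ := BasedBasic.IsEquivOver.exists_inverse he
  have hsurj := H14.Chart.Basic.surjective_map_of_isEquivOver he
  refine ⟨_, ⟨ImageSub.isClosedUnderIso f, hA,
    fun U y hy => hred U _ (H14.Chart.LocQ.rep_postcomp_equiv hi hy),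
    fun U y hy => hnoeth U _ (H14.Chart.LocQ.rep_postcomp_equiv hi hy),
    hne.map (AlgSt.Points.map e), hsurj.subsingleton, fun z => ?_⟩, e, he, ⟨eqToIso hc⟩⟩
  obtain ⟨p, rfl⟩ := hsurj z
  rw [← H14.Chart.Basic.map_comp, hc, hfx]

end Groth.Agent.Lib.Gerbe.PointStack
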