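import Groth.Agent.Lib.Gerbe.Formal
import Groth.Agent.Lib.AlgStack.SetoidalApps
import Groth.Agent.Lib.AlgStack.RepOver
import Groth.Agent.Lib.AlgStack.StkFp
import Groth.Agent.Lib.QuotSt.Diag
import Groth.Agent.Lib.Bootstrap.Cover
import Groth.Agent.Lib.AlgSpace.QuotGrpd
import Groth.Agent.H14.Sep.Cover
import Groth.Agent.H14.Sep.SpProps
import Groth.Agent.H14.Chart.LocQ2
import Groth.Agent.H14.Chart.OpenSub2
import Groth.Agent.Lib.Gerbe.PointStack3
import Mathlib.AlgebraicGeometry.Morphisms.FlatDescent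

/-!
The image substack of a chart whose self-product is flat and locally of finite presentation.
-/

set_option autoImplicit false
set_option backward.isDefEq.respectTransparency false
set_option backward.isDefEq.respectTransparency.types false

universe u

open CategoryTheory CategoryTheory.Limits AlgebraicGeometry

namespace Groth.Agent.Lib.Gerbe.ImageStack

open Groth.Agent.Lib.AlgStack
open Groth.Agent.H14.Chart Groth.Agent.H14.Sep
open Groth.Agent.H14.Sep.Lft (vOf)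
open Groth.Agent.Lib.SourceDescent.Scheme (EtaleLocalST)
open Groth.Agent.Lib.AlgSpace (fppfCover sigmaOver sigmaOverι)
open FibCat (IsEquivOver fp fpFst fpSnd fpLift fpIso overCat IsFibGrpd)
open AlgSt (ofSp ofSpMap ofOverCat toOverCat spMapOfOver overMap RepByAlgSp1 RepByAlgSpWith IsAlgStack
  fullSub subIncl)
open AlgSp (Sp yon IsAlgSpace LocP RepWith IsSurjectiveMor)

variable {S : Scheme.{u}} {𝒵 : AlgSt.Cat S} {V : Over S} (w : overCat V ⥤ᵇ 𝒵)

/-- The objects which locally come from the chart. -/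
def image : 𝒵.obj → Prop :=
  fun η => Formal.objSieve w (Yoneda.isFibGrpd_overCat V) η (𝒵.p.obj η) ∈ AlgSp.J S (𝒵.p.obj η)

theorem sieve_mem {η : 𝒵.obj} {U : Over S} (hU : 𝒵.p.obj η = U) (hη : image w η) :
    Formal.objSieve w (Yoneda.isFibGrpd_overCat V) η U ∈ AlgSp.J S U := by
  subst hU
  exact hη

theorem image_of_hom (h : IsFibGrpd 𝒵.p) {y' y : 𝒵.obj} (φ : y' ⟶ y) (hy : image w y) :
    image w y' := by
  refine (AlgSp.J S).superset_covering ?_ ((AlgSp.J S).pullback_stable (𝒵.p.map φ) hy)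
  rintro U f ⟨x, g, hg⟩
  obtain ⟨z, ψ, hψ⟩ := Fibred.Descent.exists_lift h (rfl : 𝒵.p.obj y' = _) f
  have h1 : 𝒵.p.IsHomLift (𝒵.p.map φ) φ := IsHomLift.map 𝒵.p φ
  have h2 : 𝒵.p.IsHomLift (f ≫ 𝒵.p.map φ) (ψ ≫ φ) := inferInstance
  obtain ⟨θ, hθ, -⟩ := Fibred.Descent.exists_factor h (ψ ≫ φ) h2 g hg
  exact ⟨x, θ ≫ ψ, (inferInstance : 𝒵.p.IsHomLift f (θ ≫ ψ))⟩

theorem isClosedUnderIsomorphisms_image (h : IsFibGrpd 𝒵.p) :
    ObjectProperty.IsClosedUnderIsomorphisms (image w) :=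
  ⟨fun e hy => image_of_hom w h e.inv hy⟩

theorem image_obj (g : Over V) : image w (w.obj g) := by
  refine (AlgSp.J S).superset_covering (fun U f _ => ?_) ((AlgSp.J S).top_mem _)
  obtain ⟨z, ψ, hψ⟩ := Fibred.Descent.exists_lift (Yoneda.isFibGrpd_overCat V) (x := g)
    (w.w_obj g).symm f
  exact ⟨z, w.map ψ, BasedFunctor.preserves_isHomLift w f ψ⟩

variable {w} (h𝒵 : IsAlgStack Scheme.fppfPrecoverage 𝒵)

include h𝒵 in
theorem isStack_image : Stk.IsStack (AlgSp.J S) (fullSub 𝒵 (image w)) := by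
  have h := h𝒵.isStack.1
  refine Lib.Fibred.StackLocal.isStack_sub (image w) (AlgSp.J S) h𝒵.isStack
    (fun y x φ hx => ⟨y, Iso.refl y, image_of_hom w h φ hx, IsHomLift.id rfl⟩) ?_
  intro U R hR x hx hl
  refine ⟨x, Iso.refl x, ?_, IsHomLift.id hx⟩
  subst hx
  refine (AlgSp.J S).transitive hR _ fun W f hf => ?_
  obtain ⟨y, φ, hφ⟩ := Fibred.Descent.exists_lift h (rfl : 𝒵.p.obj x = _) f
  obtain ⟨y', e, hy', he⟩ := hl f hf y φ hφ
  have hy : image w y := image_of_hom w h e.hom hy'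
  refine (AlgSp.J S).superset_covering ?_ (sieve_mem w (IsHomLift.domain_eq 𝒵.p f φ) hy)
  rintro W' k ⟨x₀, g, hg⟩
  exact ⟨x₀, g ≫ φ, (inferInstance : 𝒵.p.IsHomLift (k ≫ f) (g ≫ φ))⟩

include h𝒵 in
/-- A point of the base at which the pullback is in the image lifts to the fibre product fppf locally. -/
theorem exists_section {T T' : Over S} {y : overCat T ⥤ᵇ 𝒵} {G : Sp S} {e : ofSp G ⥤ᵇ fp y w}
    (he : IsEquivOver e) (c : T' ⟶ T) (hc : image w (y.obj (Over.mk c))) :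
    ∃ (T'' : Over S) (p : T'' ⟶ T') (σ : (yon S).obj T'' ⟶ G), fppfCover p.left ∧
      σ ≫ spMapOfOver (BasedFunctor.comp e (fpFst y w)) = (yon S).map (p ≫ c) := by
  have h := h𝒵.isStack.1
  obtain ⟨κ, Z, g, p, hp, hpg, hmem⟩ :=
    Lib.AlgSpace.exists_fppfCover_of_mem (sieve_mem w (y.w_obj (Over.mk c)) hc)
  have key : ∀ k, ∃ σ : (yon S).obj (Z k) ⟶ G,
      σ ≫ spMapOfOver (BasedFunctor.comp e (fpFst y w)) = (yon S).map (g k ≫ c) := by
    intro k
    obtain ⟨x₀, ψ, hψ⟩ := hmem k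
    have hx₀ : (overCat V).p.obj x₀ = Z k :=
      (w.w_obj x₀).symm.trans (IsHomLift.domain_eq 𝒵.p (g k) ψ)
    obtain ⟨Z₀, v, rfl⟩ : ∃ (Z₀ : Over S) (v : Z₀ ⟶ V), x₀ = Over.mk v := ⟨x₀.left, x₀.hom, rfl⟩
    obtain rfl : Z₀ = Z k := hx₀
    let m : (overMap (g k ≫ c)).obj (Over.mk (𝟙 (Z k))) ⟶ Over.mk c :=
      Over.homMk (g k) (by
        change g k ≫ c = 𝟙 (Z k) ≫ g k ≫ c
        rw [Category.id_comp])
    let n : (overMap v).obj (Over.mk (𝟙 (Z k))) ⟶ Over.mk v :=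
      Over.homMk (𝟙 (Z k)) rfl
    have h1 : 𝒵.p.IsHomLift (g k) (y.map m) := Yoneda.map_isHomLift y m
    have h2 : 𝒵.p.IsHomLift (𝟙 (Z k)) (w.map n) := Yoneda.map_isHomLift w n
    have h3 : 𝒵.p.IsHomLift (g k) (w.map n ≫ ψ) := IsHomLift.comp_lift_id_left' 𝒵.p (Z k) _ _ _
    obtain ⟨ν, hν, -⟩ := Fibred.Descent.exists_factor h (y.map m) h1 (w.map n ≫ ψ) h3
    have := hν
    obtain ⟨β, -⟩ := Yoneda.exists_iso_of_id h (BasedFunctor.comp (overMap v) w)
      (BasedFunctor.comp (overMap (g k ≫ c)) y) ν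
    obtain ⟨σ, hσ, -⟩ := H14.Chart.Points.exists_hom_of_iso he (g k ≫ c) (overMap v) β.symm
    exact ⟨σ, hσ⟩
  choose σ hσ using key
  obtain ⟨σ', hσ', -⟩ := Lib.AlgSpace.existsUnique_sigmaOver_desc Z σ
  refine ⟨sigmaOver Z, p, σ', hp, Lib.AlgSpace.hom_ext_of_family Z _
    (Lib.AlgSpace.sigmaOverι_mem_J Z) fun k => ?_⟩
  rw [reassoc_of% (hσ' k), hσ k, ← Functor.map_comp, ← Category.assoc, hpg]

variable (hfl : RepByAlgSpWith (LocP @Flat) (fpFst w w))
  (hfp : RepByAlgSpWith (LocP @LocallyOfFinitePresentation) (fpFst w w))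

include h𝒵 in
/-- The base change of the cover along itself keeps the properties of the self-product. -/
theorem prop_snd {P : MorphismProperty Scheme.{u}} (hP : EtaleLocalST P)
    (hw : RepByAlgSpWith (LocP P) (fpFst w w)) {T W : Over S} {y : overCat T ⥤ᵇ 𝒵}
    {G : AlgSp.Space S} {e : ofSp G.obj ⥤ᵇ fp y w} (he : IsEquivOver e)
    {p : (yon S).obj W ⟶ G.obj} (hp : RepWith @Etale p) {q : W ⟶ T}
    (hq : (yon S).map q = p ≫ spMapOfOver (BasedFunctor.comp e (fpFst y w))) :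
    P (pullback.snd q q).left := by
  let γ := spMapOfOver (BasedFunctor.comp e (fpFst y w))
  let η : overCat W ⥤ᵇ fp y w := BasedFunctor.comp (ofOverCat W) (BasedFunctor.comp (ofSpMap p) e)
  obtain ⟨v, hv⟩ :=
    (yon S).map_surjective (p ≫ spMapOfOver (BasedFunctor.comp e (fpSnd y w)))
  let ι₁ : BasedFunctor.comp η (fpFst y w) ≅ vOf q :=
    BasedBasic.isoWhiskerLeft (ofOverCat W)
      (AlgStack.Rep.isoSpMapOfOver (BasedFunctor.comp (ofSpMap p) (BasedFunctor.comp e (fpFst y w))) ≪≫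
        eqToIso (by rw [AlgStack.Rep.spMapOfOver_precomp, ← hq]))
  let ι₂ : BasedFunctor.comp η (fpSnd y w) ≅ vOf v :=
    BasedBasic.isoWhiskerLeft (ofOverCat W)
      (AlgStack.Rep.isoSpMapOfOver (BasedFunctor.comp (ofSpMap p) (BasedFunctor.comp e (fpSnd y w))) ≪≫
        eqToIso (by rw [AlgStack.Rep.spMapOfOver_precomp, ← hv]))
  let α : BasedFunctor.comp (vOf q) y ≅ BasedFunctor.comp (vOf v) w :=
    (BasedBasic.isoWhiskerRight ι₁ y).symm ≪≫ BasedBasic.isoWhiskerLeft η (fpIso y w) ≪≫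
      BasedBasic.isoWhiskerRight ι₂ w
  have hA : RepByAlgSpWith (LocP P) (fpFst (BasedFunctor.comp (vOf q) y) w) :=
    (AlgStack.Rep.repByAlgSpWith_iff_of_isEquivOver (f := fpFst (BasedFunctor.comp (vOf q) y) w)
      (f' := fpFst (vOf v) (fpFst w w))
      (BasedBasic.IsEquivOver.comp (AlgStack.Rep.isEquivOver_pasteBase (vOf v) w w)
        (FibProd.isEquivOver_congrLeft α.symm w))
      BasedBasic.isEquivOver_id (eqToIso rfl)).2 (AlgStack.Rep.repByAlgSpWith_fpFst (vOf v) hw)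
  have hD : RepByAlgSpWith (LocP P) (fpFst (vOf q) (fpFst y w)) :=
    (AlgStack.Rep.repByAlgSpWith_iff_of_isEquivOver (f := fpFst (BasedFunctor.comp (vOf q) y) w)
      (f' := fpFst (vOf q) (fpFst y w))
      (AlgStack.Rep.isEquivOver_pasteBase (vOf q) y w) BasedBasic.isEquivOver_id
      (eqToIso (AlgStack.Rep.pasteBase_fst (vOf q) y w).symm)).1 hA
  have sq := IsPullback.of_hasPullback γ ((yon S).map q)
  have := BasedBasic.IsEquivOver.full (AlgStack.Rep.isEquivOver_toOverCat T)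
  have := BasedBasic.IsEquivOver.faithful (AlgStack.Rep.isEquivOver_toOverCat T)
  have h1 := AlgStack.Space.isEquivOver_sqLift (sq.map (sheafToPresheaf _ _)).flip
  have h2 := FibProd.isEquivOver_fpMap (toOverCat W) e (toOverCat T)
    (F := vOf q) (G := fpFst y w) (F' := ofSpMap ((yon S).map q)) (G' := ofSpMap γ)
    (Iso.refl _) (AlgStack.Rep.isoSpMapOfOver (BasedFunctor.comp e (fpFst y w)))
    (AlgStack.Rep.isEquivOver_toOverCat W) he
  have hE : RepByAlgSpWith (LocP P) (ofSpMap (pullback.snd γ ((yon S).map q))) :=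
    (AlgStack.Rep.repByAlgSpWith_iff_of_isEquivOver (f := fpFst (vOf q) (fpFst y w))
      (f' := ofSpMap (pullback.snd γ ((yon S).map q))) (BasedBasic.IsEquivOver.comp h1 h2)
      (AlgStack.Rep.isEquivOver_toOverCat W) (Iso.refl _)).1 hD
  have hb : LocP P (pullback.snd γ ((yon S).map q)) :=
    H14.Sep.Rep.prop_of_ofSpMap (AlgStack.IsAlgFp.respectsIsoSp_locP hP) (SpProps.fromSchemes_locP hP)
      (Lib.AlgSpace.isAlgSpace_of_isPullback sq (IsAlgSpace.yon_obj T).diag G.property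
        (IsAlgSpace.yon_obj W)) (IsAlgSpace.yon_obj W) _ hE
  have sqR := (IsPullback.of_hasPullback q q).map (yon S)
  let φ := sq.lift ((yon S).map (pullback.fst q q) ≫ p) ((yon S).map (pullback.snd q q))
    (by rw [Category.assoc, ← hq]; exact sqR.w)
  have sqφ : IsPullback ((yon S).map (pullback.fst q q)) φ p (pullback.fst γ ((yon S).map q)) := by
    refine IsPullback.of_bot ?_ (sq.lift_fst _ _ _).symm sq
    rw [sq.lift_snd, ← hq]
    exact sqR
  exact hb φ (𝟙 _) (pullback.snd q q) (Lib.AlgSpace.repWith_baseChange sqφ hp) (AlgSp.repWith_id _ _)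
    (by rw [Category.comp_id, sq.lift_snd])

/-- A property of a cover descends from its base change along itself. -/
theorem prop_of_snd {P : MorphismProperty Scheme.{u}} [P.IsStableUnderBaseChange]
    [P.DescendsAlong (@Surjective ⊓ @Flat ⊓ @LocallyOfFinitePresentation)] {T' T W : Over S}
    {q : W ⟶ T} (hs : P (pullback.snd q q).left) {c : T' ⟶ T} (hc : fppfCover c.left) {m : T' ⟶ W}
    (hm : m ≫ q = c) : P q.left := by
  have sqR : IsPullback (pullback.fst q q).left (pullback.snd q q).left q.left q.left :=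
    (IsPullback.of_hasPullback q q).map (Over.forget S)
  have sqA := (IsPullback.of_hasPullback (pullback.snd q q).left m.left).paste_horiz sqR
  rw [← Over.comp_left, hm] at sqA
  exact MorphismProperty.of_isPullback_of_descendsAlong
    (Q := @Surjective ⊓ @Flat ⊓ @LocallyOfFinitePresentation) sqA.flip hc
    (MorphismProperty.pullback_snd (P := P) _ _ hs)

include h𝒵 hfl hfp in
theorem repByAlgSp1_subIncl : RepByAlgSp1 (subIncl 𝒵 (image w)) := by
  have h := h𝒵.isStack.1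
  intro T y
  let F₀ := subIncl 𝒵 (image w)
  have : F₀.toFunctor.Full := inferInstanceAs (ObjectProperty.ι (image w)).Full
  have : F₀.toFunctor.Faithful := inferInstanceAs (ObjectProperty.ι (image w)).Faithful
  have hst : Stk.IsStack (AlgSp.J S) (fp y F₀) :=
    StkFp.isStack_fp (StkRep.isStack_of_repByAlgSp (Diag.repByAlgSp_overCat T)) (isStack_image h𝒵)
      (QuotSt.isPrestack_of_isStack h𝒵.isStack)
  have hs : Yoneda.Setoidal (fp y F₀) :=
    FibProd.setoidal_fp_of_faithful (AlgStack.Space.setoidal_of_repByAlgSp (Diag.repByAlgSp_overCat T))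
  have hE := Yoneda.isEquivOver_toIsoPsh hst.1 hs
  have hF : Presheaf.IsSheaf (AlgSp.J S) (Yoneda.isoPsh hst.1) :=
    (isSheaf_iff_isSheaf_of_type _ _).2
      ((StkBasic.isStack_ofPsh_iff _ _).1 (StkBasic.isStack_of_isEquivOver hE hst))
  let F : Sp S := ⟨_, hF⟩
  obtain ⟨e₀, he₀, -, -⟩ := BasedBasic.IsEquivOver.exists_inverse hE
  let eF : ofSp F ⥤ᵇ fp y F₀ := e₀
  let β := spMapOfOver (BasedFunctor.comp eF (fpFst y F₀))
  have hβ : Mono β := Setoidal.mono_of_full he₀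
  obtain ⟨G, e, he⟩ := H14.Chart.LocQ.repByAlgSp1_chart h𝒵 w T y
  obtain ⟨W, p, hp, hps⟩ := G.property.atlas
  obtain ⟨q, hq⟩ := (yon S).map_surjective (p ≫ spMapOfOver (BasedFunctor.comp e (fpFst y w)))
  obtain ⟨v, hv⟩ := (yon S).map_surjective (p ≫ spMapOfOver (BasedFunctor.comp e (fpSnd y w)))
  let η : overCat W ⥤ᵇ fp y w := BasedFunctor.comp (ofOverCat W) (BasedFunctor.comp (ofSpMap p) e)
  let ι₁ : BasedFunctor.comp η (fpFst y w) ≅ vOf q :=
    BasedBasic.isoWhiskerLeft (ofOverCat W)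
      (AlgStack.Rep.isoSpMapOfOver (BasedFunctor.comp (ofSpMap p) (BasedFunctor.comp e (fpFst y w))) ≪≫
        eqToIso (by rw [AlgStack.Rep.spMapOfOver_precomp, ← hq]))
  let ι₂ : BasedFunctor.comp η (fpSnd y w) ≅ vOf v :=
    BasedBasic.isoWhiskerLeft (ofOverCat W)
      (AlgStack.Rep.isoSpMapOfOver (BasedFunctor.comp (ofSpMap p) (BasedFunctor.comp e (fpSnd y w))) ≪≫
        eqToIso (by rw [AlgStack.Rep.spMapOfOver_precomp, ← hv]))
  let α : BasedFunctor.comp (overMap q) y ≅ BasedFunctor.comp (overMap v) w :=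
    (BasedBasic.isoWhiskerRight ι₁ y).symm ≪≫ BasedBasic.isoWhiskerLeft η (fpIso y w) ≪≫
      BasedBasic.isoWhiskerRight ι₂ w
  let z : overCat W ⥤ᵇ fullSub 𝒵 (image w) :=
    { toFunctor := ObjectProperty.lift _ (BasedFunctor.comp (overMap v) w).toFunctor
        (fun g => image_obj w _)
      w := (BasedFunctor.comp (overMap v) w).w }
  obtain ⟨k, hk, -⟩ := H14.Chart.Points.exists_hom_of_iso (f := F₀) (e := eF) he₀ q z α
  have hloc : Sheaf.IsLocallySurjective k := by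
    refine Lib.AlgSpace.isLocallySurjective_of_lift k fun T' b => ?_
    obtain ⟨c, hc⟩ := (yon S).map_surjective (b ≫ β)
    let Φ : overCat T' ⥤ᵇ fp y F₀ :=
      BasedFunctor.comp (ofOverCat T') (BasedFunctor.comp (ofSpMap b) eF)
    let ι : BasedFunctor.comp Φ (fpFst y F₀) ≅ vOf c :=
      BasedBasic.isoWhiskerLeft (ofOverCat T')
        (AlgStack.Rep.isoSpMapOfOver (BasedFunctor.comp (ofSpMap b) (BasedFunctor.comp eF (fpFst y F₀))) ≪≫
          eqToIso (by rw [AlgStack.Rep.spMapOfOver_precomp, ← hc]))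
    let γ : BasedFunctor.comp (vOf c) y ≅ BasedFunctor.comp (BasedFunctor.comp Φ (fpSnd y F₀)) F₀ :=
      (BasedBasic.isoWhiskerRight ι y).symm ≪≫ BasedBasic.isoWhiskerLeft Φ (fpIso y F₀)
    have hQ' : image w (y.obj ((vOf c).obj (Over.mk (𝟙 T')))) :=
      image_of_hom w h (BasedBasic.appIso γ (Over.mk (𝟙 T'))).hom
        ((BasedFunctor.comp Φ (fpSnd y F₀)).obj _).property
    let j : Over.mk c ⟶ (vOf c).obj (Over.mk (𝟙 T')) := Over.homMk (𝟙 T') (by
      change 𝟙 _ ≫ 𝟙 _ ≫ c = c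
      simp)
    obtain ⟨T'', r, σ, hr, hσ⟩ := exists_section h𝒵 he c (image_of_hom w h (y.map j) hQ')
    haveI := Lib.AlgSpace.isLocallySurjective_of_etale hp hps
    obtain ⟨T₃, r', a, hr', ha⟩ := Lib.AlgSpace.exists_lift_of_isLocallySurjective p σ
    refine ⟨T₃, r' ≫ r, a, ?_, ?_⟩
    · have := hr.1.1; have := hr.1.2; have := hr.2
      have := hr'.1.1; have := hr'.1.2; have := hr'.2
      exact Lib.AlgSpace.fppfCover_mk (r'.left ≫ r.left)
    · rw [← cancel_mono β, Category.assoc, Category.assoc, hk, ← hc, hq,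
        reassoc_of% ha, hσ, ← Functor.map_comp, ← Functor.map_comp, Category.assoc]
  have sqR := (IsPullback.of_hasPullback q q).map (yon S)
  have sqk : IsPullback ((yon S).map (pullback.fst q q)) ((yon S).map (pullback.snd q q)) k k := by
    have h0 : (yon S).map (pullback.fst q q) ≫ k = (yon S).map (pullback.snd q q) ≫ k := by
      rw [← cancel_mono β, Category.assoc, Category.assoc, hk]; exact sqR.w
    refine ⟨⟨h0⟩, ⟨PullbackCone.IsLimit.mk _
      (fun s => sqR.lift s.fst s.snd (by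
        rw [← hk, ← Category.assoc, ← Category.assoc, s.condition]))
      (fun s => sqR.lift_fst _ _ _) (fun s => sqR.lift_snd _ _ _)
      (fun s l h₁ h₂ => sqR.hom_ext (by rw [h₁, sqR.lift_fst]) (by rw [h₂, sqR.lift_snd]))⟩⟩
  have : Flat (pullback.snd q q).left :=
    prop_snd h𝒵 SourceDescent.Scheme.flat hfl he hp hq
  have : LocallyOfFinitePresentation (pullback.snd q q).left :=
    prop_snd h𝒵 SourceDescent.Scheme.locallyOfFinitePresentation hfp he hp hq
  exact ⟨⟨F, Lib.Bootstrap.isAlgSpace_of_kernelPair k sqk⟩, eF, he₀⟩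

/-- Properties of a morphism into a full substack, read in the ambient category. -/
theorem rep_of_forall_comp {𝒲 : AlgSt.Cat S} {Q : 𝒵.obj → Prop} (g : 𝒲 ⥤ᵇ fullSub 𝒵 Q)
    {P : MorphismProperty (Sp S)}
    (hg : ∀ (T : Over S) (x : overCat T ⥤ᵇ fullSub 𝒵 Q), ∃ (G : AlgSp.Space S)
      (e : ofSp G.obj ⥤ᵇ fp (BasedFunctor.comp x (subIncl 𝒵 Q)) (BasedFunctor.comp g (subIncl 𝒵 Q))),
      IsEquivOver e ∧ P (spMapOfOver (BasedFunctor.comp e
        (fpFst (BasedFunctor.comp x (subIncl 𝒵 Q)) (BasedFunctor.comp g (subIncl 𝒵 Q)))))) :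
    RepByAlgSpWith P g := by
  intro T x
  let x' := BasedFunctor.comp x (subIncl 𝒵 Q)
  let g' := BasedFunctor.comp g (subIncl 𝒵 Q)
  obtain ⟨G, e, he, hP⟩ := hg T x
  let E : fp x g ⥤ᵇ fp x' g' :=
    fpLift (fpFst x g) (fpSnd x g) (BasedBasic.isoWhiskerRight (fpIso x g) (subIncl 𝒵 Q))
  have hfa : E.toFunctor.Faithful := ⟨fun {a b f f'} hff => Lib.Fibred.Fp.hom_ext
    (congrArg (fun k => k.hom.fst) hff) (congrArg (fun k => k.hom.snd) hff)⟩
  have hfu : E.toFunctor.Full := ⟨fun {a b} k =>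
    ⟨Lib.Fibred.Fp.mkHom (F := x) (G := g) k.hom.fst k.hom.snd
      ((ObjectProperty.ι Q).map_injective (Lib.Fibred.Fp.w k)), Lib.Fibred.Fp.hom_ext rfl rfl⟩⟩
  have hE : IsEquivOver E := by
    refine BasedBasic.isEquivOver_of E fun η => ?_
    let i : x.obj η.obj.fst ≅ g.obj η.obj.snd := ObjectProperty.isoMk _ η.obj.iso
    have hi : (fullSub 𝒵 Q).p.IsHomLift (𝟙 ((overCat T).p.obj η.obj.fst)) i.hom :=
      ((subIncl 𝒵 Q).isHomLift_iff _ i.hom).1 η.property
    refine ⟨Lib.Fibred.Fp.mkObj η.obj.fst η.obj.snd i hi,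
      Lib.Fibred.Fp.isoMk (Iso.refl _) (Iso.refl _) ?_, ?_⟩
    · change x'.map (𝟙 η.obj.fst) ≫ η.obj.iso.hom = η.obj.iso.hom ≫ g'.map (𝟙 η.obj.snd)
      rw [x'.toFunctor.map_id, g'.toFunctor.map_id, Category.id_comp, Category.comp_id]
    · exact (Lib.Fibred.Fp.isHomLift_iff _ _).2 (IsHomLift.id rfl)
  obtain ⟨i, hi, -, ⟨ε⟩⟩ := BasedBasic.IsEquivOver.exists_inverse hE
  refine ⟨G, BasedFunctor.comp e i, BasedBasic.IsEquivOver.comp he hi, ?_⟩
  have : spMapOfOver (BasedFunctor.comp (BasedFunctor.comp e i) (fpFst x g)) =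
      spMapOfOver (BasedFunctor.comp e (fpFst x' g')) :=
    AlgStack.Rep.spMapOfOver_eq_of_iso
      (BasedBasic.isoWhiskerLeft e (BasedBasic.isoWhiskerRight ε (fpFst x' g')))
  rw [this]
  exact hP

include h𝒵 hfl hfp in
theorem main : ObjectProperty.IsClosedUnderIsomorphisms (image w) ∧
    IsAlgStack Scheme.fppfPrecoverage (fullSub 𝒵 (image w)) ∧
    AlgSt.IsMono (subIncl 𝒵 (image w)) ∧
    ∃ w' : overCat V ⥤ᵇ fullSub 𝒵 (image w), Nonempty (BasedFunctor.comp w' (subIncl 𝒵 (image w)) ≅ w) ∧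
      RepByAlgSpWith (LocP @LocallyOfFinitePresentation) w' ∧
      RepByAlgSpWith IsSurjectiveMor w' ∧ RepByAlgSpWith (LocP @Flat) w' := by
  have h := h𝒵.isStack.1
  have hA : IsAlgStack Scheme.fppfPrecoverage (fullSub 𝒵 (image w)) :=
    RepOver.isAlgStack_of_repByAlgSp1 (isStack_image h𝒵).1 h𝒵 (repByAlgSp1_subIncl h𝒵 hfl hfp)
  let w' : overCat V ⥤ᵇ fullSub 𝒵 (image w) :=
    { toFunctor := ObjectProperty.lift _ w.toFunctor (image_obj w)
      w := w.w }
  have key : ∀ (T : Over S) (x : overCat T ⥤ᵇ fullSub 𝒵 (image w)), ∃ (G : AlgSp.Space S)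
      (e : ofSp G.obj ⥤ᵇ fp (BasedFunctor.comp x (subIncl 𝒵 (image w))) w),
      IsEquivOver e ∧
        LocP @Flat (spMapOfOver (BasedFunctor.comp e (fpFst (BasedFunctor.comp x (subIncl 𝒵 (image w))) w))) ∧
        LocP @LocallyOfFinitePresentation
          (spMapOfOver (BasedFunctor.comp e (fpFst (BasedFunctor.comp x (subIncl 𝒵 (image w))) w))) ∧
        IsSurjectiveMor
          (spMapOfOver (BasedFunctor.comp e (fpFst (BasedFunctor.comp x (subIncl 𝒵 (image w))) w))) := by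
    intro T x
    let y := BasedFunctor.comp x (subIncl 𝒵 (image w))
    obtain ⟨G, e, he⟩ := H14.Chart.LocQ.repByAlgSp1_chart h𝒵 w T y
    obtain ⟨W, p, hp, hps⟩ := G.property.atlas
    obtain ⟨q, hq⟩ := (yon S).map_surjective (p ≫ spMapOfOver (BasedFunctor.comp e (fpFst y w)))
    obtain ⟨T'', r, σ, hr, hσ⟩ := exists_section h𝒵 he (𝟙 T) (x.obj (Over.mk (𝟙 T))).property
    haveI := Lib.AlgSpace.isLocallySurjective_of_etale hp hps
    obtain ⟨T₃, r', a, hr', ha⟩ := Lib.AlgSpace.exists_lift_of_isLocallySurjective p σ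
    obtain ⟨m, hm⟩ := (yon S).map_surjective a
    have hmq : m ≫ q = r' ≫ r := (yon S).map_injective (by
      rw [Functor.map_comp, hm, hq, reassoc_of% ha, hσ, ← Functor.map_comp, Category.comp_id])
    have hc : fppfCover (r' ≫ r).left := by
      have := hr.1.1; have := hr.1.2; have := hr.2
      have := hr'.1.1; have := hr'.1.2; have := hr'.2
      exact Lib.AlgSpace.fppfCover_mk (r'.left ≫ r.left)
    refine ⟨G, e, he, ?_, ?_, fun τ => ?_⟩
    · exact AlgSpFpqc.LocP.locP_of_chart_to_yon SourceDescent.Scheme.flat G.property hp hps hq.symm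
        (prop_of_snd (prop_snd h𝒵 SourceDescent.Scheme.flat hfl he hp hq) hc hmq)
    · exact AlgSpFpqc.LocP.locP_of_chart_to_yon SourceDescent.Scheme.locallyOfFinitePresentation
        G.property hp hps hq.symm
        (prop_of_snd (prop_snd h𝒵 SourceDescent.Scheme.locallyOfFinitePresentation hfp he hp hq) hc hmq)
    · obtain ⟨t, rfl⟩ := (AlgSp.Points.schemeHomeo T).surjective τ
      obtain ⟨t', ht'⟩ := hc.1.1.surj t
      refine ⟨AlgSp.Points.map p (AlgSp.Points.schemeHomeo W (m.left t')), ?_⟩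
      rw [← AlgSp.Points.map_comp, ← hq, AlgSp.Points.map_yon_map_apply, ← Scheme.Hom.comp_apply,
        ← Over.comp_left, hmq, ht']
  refine ⟨isClosedUnderIsomorphisms_image w h, hA, PointStack.isMono_subIncl hA h𝒵, w',
    ⟨Iso.refl _⟩, rep_of_forall_comp w' fun T x => ?_, rep_of_forall_comp w' fun T x => ?_,
    rep_of_forall_comp w' fun T x => ?_⟩
  · obtain ⟨G, e, he, -, h', -⟩ := key T x; exact ⟨G, e, he, h'⟩
  · obtain ⟨G, e, he, -, -, h'⟩ := key T x; exact ⟨G, e, he, h'⟩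
  · obtain ⟨G, e, he, h', -, -⟩ := key T x; exact ⟨G, e, he, h'⟩

end Groth.Agent.Lib.Gerbe.ImageStack
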