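import Groth.Prelude.Def_StGerb2
import Groth.Prelude.Def_AlgSt2
import Mathlib.CategoryTheory.Sites.LocallyInjective
import Mathlib.CategoryTheory.Sites.LocallySurjective

/-!
The base of a gerbe is the sheafification of the presheaf of isomorphism classes.
-/

set_option autoImplicit false
set_option backward.isDefEq.respectTransparency false
set_option backward.isDefEq.respectTransparency.types false

universe u

open CategoryTheory Opposite AlgebraicGeometry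

namespace Groth.Agent.Lib.Gerbe.IsoCl

variable {S : Scheme.{u}} {𝒳 : AlgSt.Cat S} {X : AlgSp.Sp S} (π : 𝒳 ⥤ᵇ AlgSt.ofSp X)

/-- The section of an object seen over a given base. -/
def val {U : Over S} (a : 𝒳.obj) (h : 𝒳.p.obj a = U) : X.obj.obj (op U) :=
  X.obj.map (eqToHom ((π.w_obj a).trans h).symm).op (π.obj a).sec

theorem map_map {A B D D' : Over S} (f : A ⟶ B) (g : B ⟶ D) (k : A ⟶ D') (e : D = D') (s : X.obj.obj (op D))
    (h : f ≫ g ≫ eqToHom e = k) :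
    X.obj.map f.op (X.obj.map g.op s) = X.obj.map k.op (X.obj.map (eqToHom e.symm).op s) := by
  subst e h
  simp

theorem val_eq_of_hom {U V : Over S} {a b : 𝒳.obj} (ha : 𝒳.p.obj a = V) (hb : 𝒳.p.obj b = U)
    (φ : a ⟶ b) (f : V ⟶ U) (hφ : 𝒳.p.IsHomLift f φ) :
    X.obj.map f.op (val π b hb) = val π a ha := by
  subst hb; subst ha
  have hf := IsHomLift.eq_of_isHomLift 𝒳.p f φ
  subst hf
  have h2 : (π.map φ).hom = eqToHom (π.w_obj a) ≫ 𝒳.p.map φ ≫ eqToHom (π.w_obj b).symm :=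
    CategoryTheory.Functor.congr_hom π.w φ
  unfold val
  rw [← (π.map φ).map_sec]
  refine (map_map _ _ _ (π.w_obj b) _ ?_).symm
  rw [h2]
  simp

variable [FibCat.IsFibGrpd 𝒳.p]

/-- The map from isomorphism classes to sections. -/
noncomputable def toBase : Gerb.isoClPsh 𝒳 ⟶ X.obj where
  app U := ↾Quot.lift (fun a => val π (U := U.unop) a.1 a.2) fun a a' ⟨φ⟩ => by
    have := val_eq_of_hom π a.2 a'.2 φ.1 (𝟙 U.unop) φ.2
    rw [op_id] at this
    erw [CategoryTheory.Functor.map_id] at this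
    exact this.symm
  naturality U V f := by
    ext a
    obtain ⟨a⟩ := a
    change val π (Gerb.pullFib 𝒳 f.unop a).1 (Gerb.pullFib 𝒳 f.unop a).2 = X.obj.map f (val π a.1 a.2)
    refine (val_eq_of_hom π _ a.2 (Gerb.pullHom 𝒳 a.1 (f.unop ≫ eqToHom a.2.symm)) f.unop ?_).symm
    exact IsHomLift.of_fac' 𝒳.p _ _ (Gerb.pullFib 𝒳 f.unop a).2 a.2
      ((Gerb.pullHom_map 𝒳 _ _).trans (by simp))

theorem result (hπ : Gerb.IsGerbeOver (QuotSh.J Scheme.fppfPrecoverage S) π) :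
    ∃ c : Gerb.isoClPsh 𝒳 ⟶ X.obj,
      (∀ x : 𝒳.obj, c.app (op (𝒳.p.obj x)) (Quot.mk _ (Gerb.fib x)) =
          X.obj.map (eqToHom (π.w_obj x).symm).op (π.obj x).sec) ∧
      Presheaf.IsLocallySurjective (QuotSh.J Scheme.fppfPrecoverage S) c ∧
      Presheaf.IsLocallyInjective (QuotSh.J Scheme.fppfPrecoverage S) c := by
  refine ⟨toBase π, fun x => rfl, ⟨fun {U} s => ?_⟩, ⟨fun {U} a b h => ?_⟩⟩
  · let y : (AlgSt.ofSp X).obj := ⟨U, s⟩
    obtain ⟨R, hR, hl⟩ := hπ.1 y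
    refine GrothendieckTopology.superset_covering _ (fun V f hf => ?_) hR
    obtain ⟨x, g, hg⟩ := hl f hf
    have hx : 𝒳.p.obj x = V := (π.w_obj x).symm.trans (IsHomLift.domain_eq _ f g)
    refine ⟨Quot.mk _ ⟨x, hx⟩, ?_⟩
    change X.obj.map (eqToHom ((π.w_obj x).trans hx).symm).op (π.obj x).sec = X.obj.map f.op s
    have h2 : g.hom = eqToHom ((π.w_obj x).trans hx) ≫ f := by
      have h3 : g.hom = _ := IsHomLift.fac' (AlgSt.ofSp X).p f g
      rw [h3]
      change _ ≫ f ≫ 𝟙 U = _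
      rw [Category.comp_id]
    rw [← g.map_sec]
    refine (map_map _ _ f rfl _ ?_).trans ?_
    · rw [h2]; simp
    · simp [y]
  · obtain ⟨a⟩ := a
    obtain ⟨b⟩ := b
    obtain ⟨xa, ha⟩ := a
    obtain ⟨xb, hb⟩ := b
    obtain ⟨U⟩ := U
    change val π xa ha = val π xb hb at h
    change 𝒳.p.obj xa = U at ha
    subst ha
    let e : (π.obj xa).base ⟶ (π.obj xb).base := eqToHom ((π.w_obj xa).trans (hb.symm.trans (π.w_obj xb).symm))
    let m : π.obj xa ⟶ π.obj xb := ⟨e, by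
      have h2 := congrArg (X.obj.map (eqToHom (π.w_obj xa)).op) h
      unfold val at h2
      rw [← Functor.map_comp_apply, ← Functor.map_comp_apply, ← op_comp, ← op_comp, eqToHom_trans,
        eqToHom_trans, eqToHom_refl, op_id] at h2
      erw [CategoryTheory.Functor.map_id] at h2
      exact h2.symm⟩
    have hm : (AlgSt.ofSp X).p.IsHomLift (𝟙 (𝒳.p.obj xa)) m :=
      IsHomLift.of_fac' _ _ _ (π.w_obj xa) ((π.w_obj xb).trans hb) (by
        change e = _
        simp [e])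
    obtain ⟨R, hR, hl⟩ := hπ.2 xa xb m hm
    refine GrothendieckTopology.superset_covering _ (fun V f hf => ?_) hR
    obtain ⟨x₀, φ, ψ, hφ, hψ, -⟩ := hl f hf
    have h0 : 𝒳.p.obj x₀ = V := IsHomLift.domain_eq 𝒳.p f φ
    have key : ∀ (a : 𝒳.p.Fiber (𝒳.p.obj xa)) (q : x₀ ⟶ a.1), 𝒳.p.IsHomLift f q →
        Quot.mk (Gerb.IsoRel 𝒳 V) (Gerb.pullFib 𝒳 f a) = Quot.mk _ ⟨x₀, h0⟩ := fun a q hq => by
      have hl' : 𝒳.p.IsHomLift (f ≫ eqToHom a.2.symm) q := by
        refine IsHomLift.of_fac' _ _ _ h0 rfl ((IsHomLift.fac' 𝒳.p f q).trans ?_)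
        simp
      obtain ⟨χ, hχ, -⟩ := Gerb.exists_hom_pull 𝒳 a.1 (f ≫ eqToHom a.2.symm) q hl'
      exact (Quot.sound ⟨⟨χ, hχ⟩⟩).symm
    exact (key ⟨xa, rfl⟩ φ hφ).trans (key ⟨xb, hb⟩ ψ hψ).symm

end Groth.Agent.Lib.Gerbe.IsoCl
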