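import Groth.Agent.H14.Chart.SmLocal
import Groth.Agent.Lib.Synt92.LciSpace
import Groth.Agent.Lib.AlgStack.IsAlg

/-!
Koszul morphisms of algebraic spaces are smooth local on the source and the target.
-/

set_option autoImplicit false
set_option backward.isDefEq.respectTransparency false
set_option backward.isDefEq.respectTransparency.types false

universe u

open CategoryTheory CategoryTheory.Limits AlgebraicGeometry

namespace Groth.Agent.Lib.Gerbe.LciSmLocal

open Groth.Agent.Lib.AlgStack Groth.Agent.H14.Chart.SmLocal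
open Groth.Agent.Lib.AlgSpMor.LocP Groth.Agent.Lib.Synt92 Groth.Agent.Lib.Synt92.LciSpace
open AlgSp (Sp yon LocP RepWith IsAlgSpace)

variable {S : Scheme.{u}}

theorem lci_descends_smooth {X X' Y : Scheme.{u}} (e : X' ⟶ X) (f : X ⟶ Y) [Smooth e] [Surjective e]
    (h : AlgSp.lci (e ≫ f)) : AlgSp.lci f := by
  haveI : LocallyOfFinitePresentation (e ≫ f) := KoszulLfp.locallyOfFinitePresentation _ h
  haveI : LocallyOfFinitePresentation f := Groth.Agent.S0114.result e f
  exact KRCover.isKoszulAt_of_comp e ((Groth.Agent.S8660.result e).1 (LciScheme.lci_of_smooth e)) f h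

theorem hsm {X Y : Sp S} {f : X ⟶ Y} (h : LocP @Smooth f) : LocP AlgSp.lci f :=
  locP_mono (fun _ _ g (hg : Smooth g) => LciScheme.lci_of_smooth g) h

theorem isSmoothLocalST_lci : AlgSp.IsSmoothLocalST (AlgSp.IsLCIMor : MorphismProperty (Sp S)) where
  precomp _ _ _ hX hY hZ f g hf hg := locP_lci_comp hX hY hZ (hsm hf) hg
  baseChange _ _ _ _ hX hY _ hY' f g f' g' sq hg hf :=
    locP_lci_of_isPullback hX hY hY' (locP_mono (fun _ _ k (hk : Smooth k) => inferInstanceAs (Flat k)) hg) sq hf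
  locality X Y hX hY f := by
    have hS := Groth.Agent.Lib.SourceDescent.Scheme.smooth.{u}
    refine ⟨fun hf x => ⟨X, Y, 𝟙 X, 𝟙 Y, f, x, hX, hY, locP_id hS hX, locP_id hS hY, by simp, ?_, hf⟩,
      fun H => ?_⟩
    · obtain ⟨T, g, t, rfl⟩ := Lib.AlgSpace.exists_ofPt_eq x
      rw [AlgSp.Points.map_ofPt, Category.comp_id]
    obtain ⟨U, V, aU, bV, hh, haU, haUs, hbV, -, w⟩ := exists_chart hX hY f
    refine locP_lci_of_chart hX.diag hY.diag haU haUs hbV w ?_
    have key : ∀ u : ↥U.left, ∃ (T : Over S) (k : T ⟶ U) (t : ↥T.left), k.left t = u ∧ Smooth k.left ∧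
        AlgSp.lci (k.left ≫ hh.left) := fun u => by
      obtain ⟨U', V', a, b, h, v, hU', hV', ha, hb, e, hv, hh'⟩ := H (AlgSp.Points.ofPt aU u)
      have sq := IsPullback.of_hasPullback a aU
      have hP : IsAlgSpace (pullback a aU) :=
        Lib.AlgSpace.isAlgSpace_of_isPullback sq hX.diag hU' (IsAlgSpace.yon_obj U)
      obtain ⟨T, p, hp, hps⟩ := hP.atlas
      obtain ⟨k, hk⟩ := (yon S).map_surjective (p ≫ pullback.snd a aU)
      obtain ⟨z, -, hz⟩ := Lib.AlgSpace.exists_of_isPullback sq v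
        (AlgSp.Points.ofScheme U u) (by rw [hv, AlgSp.Points.ofPt_eq_map_ofScheme])
      obtain ⟨t, rfl⟩ := Lib.AlgSpace.surjective_ofPt hps z
      have hkp : LocP @Smooth (pullback.snd a aU) :=
        locP_of_isPullback hS hU' hX (IsAlgSpace.yon_obj U) sq ha
      refine ⟨T, k, t, ?_, hkp p (𝟙 _) k hp (AlgSp.repWith_id _ _) (by rw [Category.comp_id, hk]), ?_⟩
      · rw [AlgSp.Points.map_ofPt, ← hk] at hz
        refine (AlgSp.Points.schemeHomeo U).injective (Eq.trans ?_ hz)
        rw [← AlgSp.Points.map_yon_map_apply, AlgSp.Points.ofPt_eq_map_ofScheme]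
        rfl
      · have h1 : LocP AlgSp.lci (a ≫ f) :=
          e ▸ locP_lci_comp hU' hV' hY hh' (hsm hb)
        have h2 : LocP AlgSp.lci (p ≫ pullback.fst a aU) :=
          locP_lci_comp (IsAlgSpace.yon_obj T) hP hU' (hsm (IsAlg.locP_smooth hp))
            (hsm (IsAlg.locP_smooth (Lib.AlgSpace.repWith_baseChange sq.flip haU)))
        have h3 := locP_lci_comp (IsAlgSpace.yon_obj T) hU' hY h2 h1
        refine h3 (𝟙 _) bV (k ≫ hh) (AlgSp.repWith_id _ _) hbV ?_
        rw [Category.id_comp, Category.assoc, reassoc_of% sq.w, w, Functor.map_comp, hk,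
          Category.assoc, Category.assoc]
    choose T k t ht hsmk hWk using key
    let e : (∐ fun u => (T u).left) ⟶ U.left := Sigma.desc fun u => (k u).left
    have h1 : Smooth e := IsZariskiLocalAtSource.sigmaDesc (P := @Smooth) hsmk
    have : e ≫ hh.left = Sigma.desc fun u => (k u).left ≫ hh.left :=
      Sigma.hom_ext _ _ fun u => by simp [e]
    have h2 : Surjective e := ⟨fun u => ⟨Sigma.ι (fun u => (T u).left) u (t u), by
      rw [← Scheme.Hom.comp_apply, Sigma.ι_desc]; exact ht u⟩⟩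
    refine lci_descends_smooth e hh.left (h := fun z => ?_)
    obtain ⟨⟨j, w⟩, rfl⟩ := (AlgebraicGeometry.sigmaMk fun u => (T u).left).surjective z
    rw [sigmaMk_mk]
    refine LciScheme.isKoszulAt_of_openImmersion _ _ _ ?_
    rw [this, Sigma.ι_desc]
    exact hWk j w


end Groth.Agent.Lib.Gerbe.LciSmLocal
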