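import Groth.Agent.Lib.Gerbe.PointStack
import Groth.Agent.Lib.AlgStack.Mono
import Groth.Agent.H14.Chart.UnivTop
import Groth.Agent.H14.Sep.Cover

/-!
Field points of reduced one-point stacks; monomorphisms into them.
-/

set_option autoImplicit false
set_option backward.isDefEq.respectTransparency false
set_option backward.isDefEq.respectTransparency.types false

universe u

open CategoryTheory CategoryTheory.Limits AlgebraicGeometry Opposite

namespace Groth.Agent.Lib.Gerbe.PointStack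

open Groth.Agent.Lib.AlgStack
open FibCat (IsEquivOver IsFibGrpd fp fpFst fpSnd fpIso overCat)
open AlgSt (ofSp ofSpMap overMap spMapOfOver RepByAlgSp1 RepByAlgSpWith IsAlgStack SmoothLocally)
open AlgSp (Sp yon IsAlgSpace LocP RepWith)

variable {S : Scheme.{u}} {𝒵 : AlgSt.Cat S} (h𝒵 : IsAlgStack Scheme.fppfPrecoverage 𝒵)

include h𝒵 in
/-- A reduced stack with one point has a flat surjective field point. -/
theorem exists_flat_point (hred : SmoothLocally (fun T => IsReduced T) 𝒵)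
    (hne : Nonempty (AlgSt.Points 𝒵)) (hsub : Subsingleton (AlgSt.Points 𝒵)) :
    ∃ (k : Type u) (_ : Field k) (a : Spec (CommRingCat.of k) ⟶ S) (z : overCat (Over.mk a) ⥤ᵇ 𝒵),
      RepByAlgSpWith AlgSp.IsSurjectiveMor z ∧ RepByAlgSpWith (LocP @Flat) z := by
  obtain ⟨U, y, hy, hys⟩ := h𝒵.atlas
  have : IsReduced U.left := hred U y hy
  obtain ⟨p⟩ := hne
  obtain ⟨u₀, -⟩ := H14.Chart.Points.surjective_ofChart h𝒵.isStack.1 hys p
  obtain ⟨u, -, hu⟩ := Cyc.DimFun.exists_isMaxPt_specializes u₀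
  let j : Spec (U.left.residueField u) ⟶ U.left := U.left.fromSpecResidueField u
  have : Flat j := AlgSpDecent.FieldCover.flat_of_isField_stalk j fun t => by
    have h : j t = u := by
      have := Set.mem_range_self (f := j) t
      rwa [Scheme.range_fromSpecResidueField, Set.mem_singleton_iff] at this
    rw [h]
    exact NormAmple.GenStalk.isField_stalk hu
  let a : Spec (CommRingCat.of (U.left.residueField u)) ⟶ S := j ≫ U.hom
  let g : Over.mk a ⟶ U := Over.homMk j rfl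
  have hr : RepByAlgSpWith (LocP @Flat) (BasedFunctor.comp (overMap g) y) :=
    IsAlgFp.comp_locP SourceDescent.Scheme.flat (Yoneda.isFibGrpd_overCat _) (Yoneda.isFibGrpd_overCat _)
      (H14.Chart.Basic.rep_overMap_locP g SourceDescent.Scheme.flat (inferInstanceAs (Flat j)))
      (SliceEtale.flat_of_smooth hy)
  refine ⟨_, inferInstance, a, _, ?_, hr⟩
  refine H14.Chart.Points.rep_of_isSurjective h𝒵.isStack.1 (Yoneda.isFibGrpd_overCat _)
    (Rep.repByAlgSp1_of_repByAlgSpWith hr) fun q => ⟨AlgSt.Points.ofChart (BasedFunctor.id _)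
      (Classical.choice (inferInstanceAs (Nonempty (PrimeSpectrum (U.left.residueField u))))), Subsingleton.elim _ _⟩

include h𝒵 in
/-- A field point of finite type of a stack with a flat surjective field point. -/
theorem exists_lft_point {k : Type u} [Field k] {a : Spec (CommRingCat.of k) ⟶ S}
    {z : overCat (Over.mk a) ⥤ᵇ 𝒵}
    (hzs : RepByAlgSpWith AlgSp.IsSurjectiveMor z) (hzf : RepByAlgSpWith (LocP @Flat) z) :
    ∃ (k : Type u) (_ : Field k) (a : Spec (CommRingCat.of k) ⟶ S) (z : overCat (Over.mk a) ⥤ᵇ 𝒵),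
      RepByAlgSpWith (LocP @LocallyOfFiniteType) z ∧
        RepByAlgSpWith AlgSp.IsSurjectiveMor z ∧ RepByAlgSpWith (LocP @Flat) z := by
  obtain ⟨U, y, hy, hys⟩ := h𝒵.atlas
  obtain ⟨p⟩ := nonempty_points h𝒵 z
  obtain ⟨u₀, -⟩ := H14.Chart.Points.surjective_ofChart h𝒵.isStack.1 hys p
  obtain ⟨O, hO, hu, -⟩ := exists_isAffineOpen_mem_and_subset (U := ⊤) (x := u₀) (Set.mem_univ _)
  have : Nontrivial Γ(U.left, O) := by
    rw [← PrimeSpectrum.nonempty_iff_nontrivial]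
    exact ⟨hO.isoSpec.hom ⟨u₀, hu⟩⟩
  obtain ⟨m, hm⟩ := Ideal.exists_maximal Γ(U.left, O)
  let k' := Γ(U.left, O) ⧸ m
  letI : Field k' := Ideal.Quotient.field m
  let c : Spec (CommRingCat.of k') ⟶ Spec Γ(U.left, O) := Spec.map (CommRingCat.ofHom (Ideal.Quotient.mk m))
  have : IsClosedImmersion c := IsClosedImmersion.spec_of_surjective _ Ideal.Quotient.mk_surjective
  let j : Spec (CommRingCat.of k') ⟶ U.left := c ≫ hO.isoSpec.inv ≫ O.ι
  let g : Over.mk (j ≫ U.hom) ⟶ U := Over.homMk j rfl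
  have eL := H14.Sep.SpProps.lft
  refine ⟨k', inferInstance, j ≫ U.hom, _,
    IsAlgFp.comp_locP eL (Yoneda.isFibGrpd_overCat _) (Yoneda.isFibGrpd_overCat _)
      (H14.Chart.Basic.rep_overMap_locP g eL (inferInstanceAs (LocallyOfFiniteType j)))
      (Rep.repByAlgSpWith_mono hy fun _ _ _ _ _ h => H14.Chart.SmLocal.locP_mono
        (fun _ _ m (hm : Smooth m) => by infer_instance) h),
    surjective_flat h𝒵 hzs hzf _⟩

include h𝒵 in
theorem lfp_of_lft (hnoeth : SmoothLocally (fun T => IsLocallyNoetherian T) 𝒵) {T : Over S}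
    {z : overCat T ⥤ᵇ 𝒵} (hz : RepByAlgSpWith (LocP @LocallyOfFiniteType) z) :
    RepByAlgSpWith (LocP @LocallyOfFinitePresentation) z := by
  have hT := H14.Chart.Basic.isAlgStack_overCat T
  obtain ⟨V, y, hy, hy'⟩ := h𝒵.atlas
  obtain ⟨U, b, m, hb, hb', ⟨ι⟩⟩ := H14.Chart.LocQ.exists_square hT h𝒵 z y
  refine H14.Chart.LocQ.repByAlgSpWith_of_locQ H14.Chart.SmLocal.isSmoothLocalST_lfp
    (H14.Sep.SpProps.stableBC_locP SourceDescent.Scheme.locallyOfFinitePresentation) hT h𝒵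
    (H14.Chart.LocQ.repByAlgSp1_chart h𝒵 _) ?_
  have : IsLocallyNoetherian V.left := hnoeth V y hy
  have : LocallyOfFiniteType m.left := AlgSp.locP_yon_map
    (H14.Chart.LocQ.prop_of_locQ H14.Chart.SmLocal.isSmoothLocalST_lft hT h𝒵
      (H14.Chart.LocQ.locQ_of_repByAlgSpWith H14.Chart.SmLocal.isSmoothLocalST_lft.precomp hT h𝒵 hz)
      (Or.inl hy) hb ι)
  exact H14.Chart.LocQ.locQ_of_square hT h𝒵 hy hy' hb hb' ι
    (AlgSpMor.LocP.locP_of_repWith SourceDescent.Scheme.locallyOfFinitePresentation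
      ((AlgSp.repWith_yon_map_iff _ _).2 (inferInstance : LocallyOfFinitePresentation m.left)))

variable {𝒳 : AlgSt.Cat S}

/-- An object of the source from a section of a representing space. -/
theorem exists_preimage {f : 𝒳 ⥤ᵇ 𝒵} {T : Over S} {y : overCat T ⥤ᵇ 𝒵} {G : AlgSp.Space S}
    {e : ofSp G.obj ⥤ᵇ fp y f} (σ : (yon S).obj T ⟶ G.obj)
    (hσ : σ ≫ spMapOfOver (BasedFunctor.comp e (fpFst y f)) = 𝟙 _) :
    ∃ x : overCat T ⥤ᵇ 𝒳, Nonempty (BasedFunctor.comp x f ≅ y) := by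
  let η : overCat T ⥤ᵇ fp y f :=
    BasedFunctor.comp (AlgSt.ofOverCat T) (BasedFunctor.comp (ofSpMap σ) e)
  let ι : BasedFunctor.comp η (fpFst y f) ≅ H14.Sep.Lft.vOf (𝟙 T) :=
    BasedBasic.isoWhiskerLeft (AlgSt.ofOverCat T)
      (Rep.isoSpMapOfOver (BasedFunctor.comp (ofSpMap σ) (BasedFunctor.comp e (fpFst y f))) ≪≫
        eqToIso (by rw [Rep.spMapOfOver_precomp, hσ, CategoryTheory.Functor.map_id]))
  let θ : H14.Sep.Lft.vOf (𝟙 T) ≅ BasedFunctor.id (overCat T) :=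
    BasedNatIso.mkNatIso (NatIso.ofComponents
      (fun g => Over.isoMk (Iso.refl _) ((Category.id_comp _).trans (Category.comp_id _).symm))
      (fun m => Over.OverMorphism.ext ((Category.comp_id _).trans (Category.id_comp _).symm)))
      (fun g => IsHomLift.of_fac' _ _ _ rfl rfl ((Category.id_comp _).trans (Category.id_comp _)).symm)
  exact ⟨BasedFunctor.comp η (fpSnd y f), ⟨(BasedBasic.isoWhiskerLeft η (fpIso y f)).symm ≪≫
    BasedBasic.isoWhiskerRight (ι ≪≫ θ) y⟩⟩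

include h𝒵 in
/-- A monomorphism into a stack with a fppf field point is an equivalence unless the source is empty. -/
theorem isEquivOver_of_mono (h𝒳 : IsAlgStack Scheme.fppfPrecoverage 𝒳) {f : 𝒳 ⥤ᵇ 𝒵} (hf : AlgSt.IsMono f)
    (hne : Nonempty (AlgSt.Points 𝒳))
    {k : Type u} [Field k] {a : Spec (CommRingCat.of k) ⟶ S} {z : overCat (Over.mk a) ⥤ᵇ 𝒵}
    (hzp : RepByAlgSpWith (LocP @LocallyOfFinitePresentation) z)
    (hzs : RepByAlgSpWith AlgSp.IsSurjectiveMor z) (hzf : RepByAlgSpWith (LocP @Flat) z) : IsEquivOver f := by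
  have := AlgStack.Mono.full_of_mono h𝒳.isStack.1 h𝒵.isStack.1 hf
  have := AlgStack.Space.faithful_of_repByAlgSp1 h𝒳.isStack.1 h𝒵.isStack.1 (Rep.repByAlgSp1_of_repByAlgSpWith hf)
  -- the field point lifts
  obtain ⟨G₀, e₀, he₀, hm₀⟩ := hf (Over.mk a) z
  have hm₀' : Mono (spMapOfOver (BasedFunctor.comp e₀ (fpFst z f))) := hm₀
  have : Nonempty (AlgSp.Points G₀.obj) := by
    obtain ⟨q⟩ := hne
    have := subsingleton_points h𝒵 hzs
    have hk : Nonempty ↥(Over.mk a).left := inferInstanceAs (Nonempty (PrimeSpectrum k))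
    obtain ⟨t⟩ := hk
    obtain ⟨r, -, -⟩ := H14.Chart.Basic.exists_points_fp h𝒳.isStack.1 h𝒵.isStack.1
      (Yoneda.isFibGrpd_overCat (Over.mk a)) (g := z) (f := f)
      (p := AlgSt.Points.ofChart (BasedFunctor.id (overCat (Over.mk a))) t) (q := q) (Subsingleton.elim _ _)
    obtain ⟨r', -⟩ := H14.Chart.Basic.surjective_map_of_isEquivOver he₀ r
    exact ⟨H14.Chart.UnivTop.toSp G₀ r'⟩
  have eF := SourceDescent.Scheme.flat.{u}
  have eP := SourceDescent.Scheme.locallyOfFinitePresentation.{u}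
  have : MorphismProperty.ContainsIdentities @LocallyOfFinitePresentation.{u} := ⟨fun X => (inferInstance : LocallyOfFinitePresentation (𝟙 X))⟩
  have : MorphismProperty.ContainsIdentities @Flat.{u} := ⟨fun X => (inferInstance : Flat (𝟙 X))⟩
  have hi : IsIso (spMapOfOver (BasedFunctor.comp e₀ (fpFst z f))) :=
    AlgSpDecent.OnePointMono.isIso_of_mono (IsAlgSpace.yon_obj _) G₀.property _ (p := 𝟙 _)
      (AlgSpMor.LocP.locP_of_repWith eP (AlgSp.repWith_id _ _))
      (AlgSpMor.LocP.locP_of_repWith eF (AlgSp.repWith_id _ _))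
      (fun q => ⟨q, by rw [AlgSp.Points.map_id]⟩)
  obtain ⟨x₀, ⟨δ⟩⟩ := exists_preimage (inv (spMapOfOver (BasedFunctor.comp e₀ (fpFst z f)))) (IsIso.inv_hom_id _)
  refine BasedBasic.isEquivOver_of f fun η => ?_
  let T := 𝒵.p.obj η
  let y := Yoneda.fromObj h𝒵.isStack.1 (z := η) rfl
  obtain ⟨T', s, hs, u, ⟨β⟩⟩ := H14.Sep.Cover.exists_lift hzf hzp hzs y
  obtain ⟨G, e, he, hm⟩ := hf T y
  set γ := spMapOfOver (BasedFunctor.comp e (fpFst y f))
  have : Mono γ := hm
  obtain ⟨g, hg, -⟩ := H14.Chart.Points.exists_hom_of_iso he s (BasedFunctor.comp u x₀)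
    (show BasedFunctor.comp (H14.Sep.Lft.vOf s) y ≅ BasedFunctor.comp (BasedFunctor.comp u x₀) f from
      β ≪≫ (BasedBasic.isoWhiskerLeft u δ).symm)
  have hcov := Lib.AlgSpace.singleton_mem_J s hs.fppfCover
  obtain ⟨σ, hσ, -⟩ := Lib.AlgSpace.exists_desc_of_family (fun _ : PUnit.{1} => T') (fun _ => s) hcov
    (F := G.obj) (fun _ => g) (fun i j W gi gj e' => by
      rw [← cancel_mono γ, Category.assoc, Category.assoc, hg, ← Functor.map_comp, ← Functor.map_comp, e'])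
  have hσγ : σ ≫ γ = 𝟙 _ := Lib.AlgSpace.hom_ext_of_family (fun _ : PUnit.{1} => T') (fun _ => s) hcov
    fun i => by rw [← Category.assoc, hσ i, hg, Category.comp_id]
  obtain ⟨x, ⟨ε⟩⟩ := exists_preimage σ hσγ
  obtain ⟨εη, hεη⟩ := Yoneda.exists_fromObj_iso h𝒵.isStack.1 (z := η) rfl
  have h1 : 𝒵.p.IsHomLift (𝟙 T) (BasedBasic.appIso ε (Over.mk (𝟙 T))).hom :=
    BasedBasic.appIso_isHomLift ε (Over.mk (𝟙 T) : (overCat T).obj)
  refine ⟨x.obj (Over.mk (𝟙 T)), BasedBasic.appIso ε (Over.mk (𝟙 T)) ≪≫ εη, ?_⟩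
  change 𝒵.p.IsHomLift (𝟙 T) ((BasedBasic.appIso ε (Over.mk (𝟙 T))).hom ≫ εη.hom)
  infer_instance

end Groth.Agent.Lib.Gerbe.PointStack
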