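import Groth.Agent.Lib.Gerbe.QF2
import Groth.Agent.Lib.Bootstrap.SliceLqf
import Groth.Agent.Lib.Bootstrap.Slice
import Groth.Agent.Lib.AlgStack.Slice
import Groth.Agent.Lib.Gerbe.PointStack2

/-!
A stack with locally quasi-finite diagonal has a flat, locally quasi-finite, finitely presented cover.
-/

set_option autoImplicit false
set_option backward.isDefEq.respectTransparency false
set_option backward.isDefEq.respectTransparency.types false

universe u

open CategoryTheory CategoryTheory.Limits AlgebraicGeometry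

namespace Groth.Agent.Lib.Gerbe.LqfChart

open Groth.Agent.Lib.AlgStack
open Groth.Agent.Lib.Bootstrap
open FibCat (IsEquivOver IsFibGrpd fp fpFst fpSnd fpLift fpIso overCat toSelf)
open AlgSt (ofSp ofSpMap ofOverCat overMap spMapOfOver RepByAlgSp1 RepByAlgSpWith IsAlgStack)
open AlgSp (Sp yon LocP IsEtaleMor IsSurjectiveMor)
open SliceChart (arrows)

variable {S : Scheme.{u}} {𝒳 : AlgSt.Cat S} {U : Over S}

/-- The arrows of a chart are locally quasi-finite over the pairs of objects. -/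
theorem lqf_lift (h𝒳 : IsFibGrpd 𝒳.p) (hΔ : AlgSt.IsQuasiDMOver 𝒳) {R : Over S}
    (x : overCat U ⥤ᵇ 𝒳) (s t : R ⟶ U)
    (α : BasedFunctor.comp (overMap s) x ≅ BasedFunctor.comp (overMap t) x)
    (hρ : RepByAlgSpWith IsEtaleMor (arrows x s t α)) :
    LocallyQuasiFinite (pullback.lift s.left t.left ((Over.w s).trans (Over.w t).symm)) := by
  have hU := AlgSpMor.LocP.lqfLft.{u}
  let p₁ := fpFst (toSelf (overCat U)) (toSelf (overCat U))
  let p₂ := fpSnd (toSelf (overCat U)) (toSelf (overCat U))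
  let z := Diag.pair (BasedFunctor.comp p₁ x) (BasedFunctor.comp p₂ x)
  let pr : fp x x ⥤ᵇ fp (toSelf (overCat U)) (toSelf (overCat U)) := Diag.pair (fpFst x x) (fpSnd x x)
  have hpr := (Rep.repByAlgSpWith_iff_of_isEquivOver (f := fpFst z (FibCat.diag (toSelf 𝒳))) (f' := pr)
    (Diag.isEquivOver_toDiagPullback x x) BasedBasic.isEquivOver_id (Iso.refl _)).1
    (Rep.repByAlgSpWith_fpFst z hΔ)
  have hρ' : RepByAlgSpWith (LocP ((@LocallyQuasiFinite : MorphismProperty Scheme.{u}) ⊓
      @LocallyOfFiniteType) (S := S)) (arrows x s t α) :=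
    Rep.repByAlgSpWith_mono (SliceEtale.etale_locP hρ) fun _ _ _ _ _ ha A B a b k h1 h2 w => by
      have : Etale k.left := ha a b k h1 h2 w
      exact ⟨SourceDescent.Scheme.locallyQuasiFinite_of_etale k.left, inferInstance⟩
  have hc := IsAlgFp.comp_locP hU (Yoneda.isFibGrpd_overCat R)
    (FibProd.isFibGrpd_fp (Yoneda.isFibGrpd_overCat U) (Yoneda.isFibGrpd_overCat U) h𝒳) hρ' hpr
  have hm := (Rep.repByAlgSpWith_iff_of_isEquivOver (f := BasedFunctor.comp (arrows x s t α) pr)
    (f' := overMap (prod.lift s t)) BasedBasic.isEquivOver_id (Diag.isEquivOver_prodToFp U U)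
    (Diag.isoToProd (ChartLift.overMapComp (prod.lift s t) prod.fst ≪≫ eqToIso (congrArg overMap (prod.lift_fst s t)))
      (ChartLift.overMapComp (prod.lift s t) prod.snd ≪≫ eqToIso (congrArg overMap (prod.lift_snd s t))))).1 hc
  have h := (AlgSp.locP_yon_map
    (ChartLift.prop_overMap (IsAlgFp.respectsIsoSp_locP hU) (IsAlgFp.detected_locP hU) hm)).1
  have e : pullback.lift s.left t.left ((Over.w s).trans (Over.w t).symm) =
      (prod.lift s t).left ≫ (Over.prodLeftIsoPullback U U).hom := by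
    apply pullback.hom_ext <;> simp [← Over.comp_left]
  rw [e]
  exact (MorphismProperty.cancel_right_of_respectsIso @LocallyQuasiFinite _ _).2 h

/-- Slices through all points, made into one chart on whose source every point is good. -/
theorem exists_good_slice {R : Over S} (s t : R ⟶ U) [Smooth s.left] [Smooth t.left]
    (hu : LocallyQuasiFinite (pullback.lift s.left t.left ((Over.w s).trans (Over.w t).symm)))
    (hid : ∀ u : ↥U.left, ∃ r, s.left r = u ∧ t.left r = u) :
    ∃ (V : Over S) (g : V ⟶ U) (_ : LocallyOfFinitePresentation g.left),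
      (∀ v : ↥V.left, ∃ x, (pullback.snd t g).left x = v ∧ Good (pullback.fst t g ≫ s).left x) ∧
      ∀ u : ↥U.left, ∃ x, (pullback.fst t g ≫ s).left x = u := by
  choose r hr₁ hr₂ using hid
  choose Ui gi hgi xi hxi hxu using fun u =>
    SliceLqf.exists_slice U.hom s.left t.left ((Over.w s).trans (Over.w t).symm) hu (r u)
      ((hr₁ u).trans (hr₂ u).symm)
  let U₀ : Over S := Over.mk (Sigma.desc fun u => gi u ≫ U.hom)
  let g₀ : U₀ ⟶ U := Over.homMk (Sigma.desc gi) (Sigma.hom_ext _ _ fun u => by simp [U₀])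
  have : LocallyOfFinitePresentation g₀.left :=
    IsZariskiLocalAtSource.sigmaDesc (P := @LocallyOfFinitePresentation) hgi
  have sqD : ∀ {V : Over S} (g : V ⟶ U), IsPullback (pullback.snd t g).left (pullback.fst t g).left g.left t.left :=
    fun g => ((IsPullback.of_hasPullback t g).map (Over.forget S)).flip
  have hlfp : ∀ {V : Over S} (g : V ⟶ U) [LocallyOfFinitePresentation g.left],
      LocallyOfFinitePresentation (pullback.fst t g ≫ s).left := fun g _ => by
    have : LocallyOfFinitePresentation (pullback.fst t g).left :=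
      MorphismProperty.of_isPullback (P := @LocallyOfFinitePresentation) (sqD g) inferInstance
    exact inferInstanceAs (LocallyOfFinitePresentation ((pullback.fst t g).left ≫ s.left))
  have := hlfp g₀
  -- the good locus and its image
  let Ω := locus (pullback.fst t g₀ ≫ s).left
  have : Smooth (pullback.snd t g₀).left :=
    MorphismProperty.of_isPullback (P := @Smooth) (sqD g₀).flip inferInstance
  let c : Ω.toScheme ⟶ U₀.left := Ω.ι ≫ (pullback.snd t g₀).left
  let O : U₀.left.Opens := ⟨Set.range c, c.isOpenMap.isOpen_range⟩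
  let V : Over S := Over.mk (O.ι ≫ U₀.hom)
  let j : V ⟶ U₀ := Over.homMk O.ι rfl
  let g : V ⟶ U := j ≫ g₀
  have : LocallyOfFinitePresentation g.left :=
    inferInstanceAs (LocallyOfFinitePresentation (O.ι ≫ g₀.left))
  let k : pullback t g ⟶ pullback t g₀ :=
    pullback.lift (pullback.fst t g) (pullback.snd t g ≫ j) (by simp [g, pullback.condition])
  have sqk : IsPullback k (pullback.snd t g) (pullback.snd t g₀) j :=
    IsPullback.of_right (by rw [pullback.lift_fst]; exact IsPullback.of_hasPullback t g)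
      (by simp [k]) (IsPullback.of_hasPullback t g₀)
  have sqk' := sqk.map (Over.forget S)
  have : IsOpenImmersion k.left :=
    MorphismProperty.of_isPullback (P := @IsOpenImmersion) sqk'.flip (inferInstanceAs (IsOpenImmersion O.ι))
  have hk : (pullback.fst t g ≫ s).left = k.left ≫ (pullback.fst t g₀ ≫ s).left := by
    rw [← Over.comp_left, pullback.lift_fst_assoc]
  refine ⟨V, g, inferInstance, fun v => ?_, fun u => ?_⟩
  · obtain ⟨w, hw⟩ := v.2
    obtain ⟨x, hx, hx'⟩ := Scheme.exists_preimage_of_isPullback sqk' (Ω.ι w) v hw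
    refine ⟨x, hx', ?_⟩
    rw [hk, good_comp_iff_of_isOpenImmersion, show k.left x = Ω.ι w from hx]
    exact w.2
  · -- the point of the slice through `u`
    let m : pullback (gi u) t.left ⟶ (pullback t g₀).left :=
      (sqD g₀).lift (pullback.fst (gi u) t.left ≫ Sigma.ι Ui u) (pullback.snd (gi u) t.left)
        (by simp [g₀, pullback.condition])
    have hm₁ : m ≫ (pullback.snd t g₀).left = pullback.fst (gi u) t.left ≫ Sigma.ι Ui u := (sqD g₀).lift_fst _ _ _
    have hm₂ : m ≫ (pullback.fst t g₀).left = pullback.snd (gi u) t.left := (sqD g₀).lift_snd _ _ _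
    have sqm : IsPullback (pullback.fst (gi u) t.left) m (Sigma.ι Ui u) (pullback.snd t g₀).left :=
      IsPullback.of_bot (by simpa [hm₂, g₀] using IsPullback.of_hasPullback (gi u) t.left) hm₁.symm (sqD g₀)
    have : IsOpenImmersion m := MorphismProperty.of_isPullback (P := @IsOpenImmersion) sqm
      (inferInstanceAs (IsOpenImmersion (Sigma.ι Ui u)))
    have hm : m ≫ (pullback.fst t g₀ ≫ s).left = pullback.snd (gi u) t.left ≫ s.left := by
      rw [Over.comp_left, reassoc_of% hm₂]
    have hΩ : Good (pullback.fst t g₀ ≫ s).left (m (xi u)) := by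
      rw [← good_comp_iff_of_isOpenImmersion, hm]
      exact hxi u
    have hO : (pullback.snd t g₀).left (m (xi u)) ∈ O := ⟨⟨m (xi u), hΩ⟩, rfl⟩
    obtain ⟨x, hx, -⟩ := Scheme.exists_preimage_of_isPullback sqk' (m (xi u)) (⟨_, hO⟩ : O.toScheme) rfl
    refine ⟨x, ?_⟩
    rw [hk, Scheme.Hom.comp_apply, show k.left x = m (xi u) from hx, ← Scheme.Hom.comp_apply, hm, hxu u, hr₁ u]

/-- An etale chart of the base change along `y` of the composite of `g` with `y`. -/
theorem exists_eta (h𝒳 : IsFibGrpd 𝒳.p) (y : overCat U ⥤ᵇ 𝒳) {R : Over S} (s t : R ⟶ U)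
    (α : BasedFunctor.comp (overMap s) y ≅ BasedFunctor.comp (overMap t) y)
    (hρ : RepByAlgSpWith IsEtaleMor (arrows y s t α)) {V : Over S} (g : V ⟶ U) :
    ∃ η : overCat (pullback t g) ⥤ᵇ fp y (BasedFunctor.comp (overMap g) y),
      RepByAlgSpWith IsEtaleMor η ∧
      Nonempty (BasedFunctor.comp η (fpFst y (BasedFunctor.comp (overMap g) y)) ≅
        overMap (pullback.fst t g ≫ s)) ∧
      Nonempty (BasedFunctor.comp η (fpSnd y (BasedFunctor.comp (overMap g) y)) ≅
        overMap (pullback.snd t g)) := by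
  let ρ := arrows y s t α
  let b := overMap g
  let a := BasedFunctor.comp ρ (fpSnd y y)
  let X := fpFst (fpSnd y y) b
  obtain ⟨K, hK, ⟨k₁⟩, ⟨k₂⟩⟩ := QF.exists_sq (a := a) (b := b) (Iso.refl (overMap t)) (Iso.refl (overMap g))
  obtain ⟨i, hi, -, ⟨η₂⟩⟩ := BasedBasic.IsEquivOver.exists_inverse (Rep.isEquivOver_pasteBase ρ (fpSnd y y) b)
  let J := BasedFunctor.comp K i
  have eJ : BasedFunctor.comp J (Rep.pasteBase ρ (fpSnd y y) b) ≅ K := BasedBasic.isoWhiskerLeft K η₂
  have eE := SourceDescent.Scheme.etale.{u}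
  have hR := Yoneda.isFibGrpd_overCat R
  have hU := Yoneda.isFibGrpd_overCat U
  have hV := Yoneda.isFibGrpd_overCat V
  have hyy : IsFibGrpd (fp y y).p := FibProd.isFibGrpd_fp hU hU h𝒳
  have hsg : IsFibGrpd (fp (fpSnd y y) b).p := FibProd.isFibGrpd_fp hyy hV hU
  have hρX : IsFibGrpd (fp ρ X).p := FibProd.isFibGrpd_fp hR hsg hyy
  have hiso : ∀ {A B : Scheme.{u}} (f : A ⟶ B) [IsIso f], Etale f := fun f _ => inferInstance
  refine ⟨BasedFunctor.comp (BasedFunctor.comp J (fpSnd ρ X)) (Rep.pasteComp y y b), ?_, ⟨?_⟩, ⟨?_⟩⟩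
  · exact SliceEtale.of_locP_etale (IsAlgFp.comp_locP eE (Yoneda.isFibGrpd_overCat _) hsg
      (IsAlgFp.comp_locP eE (Yoneda.isFibGrpd_overCat _) hρX
        (Rigid.rep_locP_of_iso eE hiso (BasedBasic.IsEquivOver.comp hK hi))
        (RepOver.repByAlgSpWith_fpSnd X (SliceEtale.etale_locP hρ)))
      (Rigid.rep_locP_of_iso eE hiso (Rep.isEquivOver_pasteComp y y b)))
  · exact BasedBasic.isoWhiskerRight (BasedBasic.isoWhiskerLeft J (fpIso ρ X)).symm (fpFst y y) ≪≫
      BasedBasic.isoWhiskerRight (BasedBasic.isoWhiskerRight eJ (fpFst a b) ≪≫ k₁) (overMap s) ≪≫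
        ChartLift.overMapComp (pullback.fst t g) s
  · exact BasedBasic.isoWhiskerRight eJ (fpSnd a b) ≪≫ k₂

/-- A flat, locally quasi-finite and finitely presented cover. -/
theorem main (h𝒳 : IsAlgStack Scheme.fppfPrecoverage 𝒳) (hq : AlgSt.IsQuasiDMOver 𝒳) :
    ∃ (W : Over S) (w : overCat W ⥤ᵇ 𝒳),
      RepByAlgSpWith (LocP ((@Flat : MorphismProperty Scheme.{u}) ⊓ @LocallyOfFinitePresentation ⊓
        @LocallyQuasiFinite) ⊓ IsSurjectiveMor) w := by
  have hg := h𝒳.isStack.1
  obtain ⟨U, y, hy, hys⟩ := h𝒳.atlas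
  obtain ⟨R, s, t, α, hs, ht, hρe, hρs⟩ := SliceArrows.exists_arrows hg y hy
  have hid : ∀ u : ↥U.left, ∃ r, s.left r = u ∧ t.left r = u := fun u =>
    ChartLift.exists_point hg hρs (Iso.refl _ : BasedFunctor.comp (arrows y s t α) (fpFst y y) ≅ overMap s)
      (Iso.refl _ : BasedFunctor.comp (arrows y s t α) (fpSnd y y) ≅ overMap t) (𝟙 U) (𝟙 U) (Iso.refl _) u
  obtain ⟨V, g, hgp, hgood, hsur⟩ :=
    exists_good_slice s t (lqf_lift hg hq y s t α hρe) hid
  obtain ⟨η, hη, ⟨ed⟩, ⟨ec⟩⟩ := exists_eta hg y s t α hρe g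
  let w := BasedFunctor.comp (overMap g) y
  let d := pullback.fst t g ≫ s
  let c := pullback.snd t g
  have sq := ((IsPullback.of_hasPullback t g).map (Over.forget S))
  have : Smooth c.left := MorphismProperty.of_isPullback (P := @Smooth) sq ht
  have : LocallyOfFinitePresentation d.left := by
    have : LocallyOfFinitePresentation (pullback.fst t g).left :=
      MorphismProperty.of_isPullback (P := @LocallyOfFinitePresentation) sq.flip hgp
    exact inferInstanceAs (LocallyOfFinitePresentation ((pullback.fst t g).left ≫ s.left))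
  let θ : BasedFunctor.comp (overMap d) y ≅ BasedFunctor.comp (overMap c) w :=
    BasedBasic.isoWhiskerRight ed.symm y ≪≫ BasedBasic.isoWhiskerLeft η (fpIso y w) ≪≫
      BasedBasic.isoWhiskerRight ec w
  have hV := H14.Chart.Basic.isAlgStack_overCat V
  have hr : RepByAlgSp1 w := H14.Chart.LocQ.repByAlgSp1_chart h𝒳 w
  -- flatness on the good locus
  let Ω := locus d.left
  let Ω' : Over S := Over.mk (Ω.ι ≫ (pullback t g).hom)
  let i : Ω' ⟶ pullback t g := Over.homMk Ω.ι rfl
  let x := overMap (i ≫ c)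
  have : Surjective (i ≫ c).left := ⟨fun v => by
    obtain ⟨z, hz, hgz⟩ := hgood v
    exact ⟨(⟨z, hgz⟩ : Ω), hz⟩⟩
  have hxs : RepByAlgSpWith IsSurjectiveMor x := H14.Chart.Basic.rep_overMap_surjective _
  have hx : RepByAlgSpWith (LocP @Smooth) x := H14.Chart.Basic.rep_overMap_locP _
    SourceDescent.Scheme.smooth (inferInstanceAs (Smooth (Ω.ι ≫ c.left)))
  let ιx : BasedFunctor.comp x w ≅ BasedFunctor.comp (overMap (i ≫ d)) y :=
    BasedBasic.isoWhiskerRight (ChartLift.overMapComp i c).symm w ≪≫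
      BasedBasic.isoWhiskerLeft (overMap i) θ.symm ≪≫
        BasedBasic.isoWhiskerRight (ChartLift.overMapComp i d) y
  have mk : ∀ {P : MorphismProperty Scheme.{u}} [P.IsStableUnderBaseChange],
      SourceDescent.Scheme.EtaleLocalST P → P (Ω.ι ≫ d.left) → AlgSt.LocQ (LocP P) w := fun hP hh =>
    ⟨Ω', U, x, y, i ≫ d, ιx, hx, hxs, hy,
      AlgSpMor.LocP.locP_of_repWith hP ((AlgSp.repWith_yon_map_iff _ _).2 hh)⟩
  have eF := SourceDescent.Scheme.flat.{u}
  have eP := SourceDescent.Scheme.locallyOfFinitePresentation.{u}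
  have eQ := SourceDescent.Scheme.locallyQuasiFinite.{u}
  have hwf : RepByAlgSpWith (LocP @Flat) w :=
    H14.Chart.LocQ.repByAlgSpWith_of_locQ H14.Chart.SmLocal.isSmoothLocalST_flat
      (H14.Sep.SpProps.stableBC_locP eF) hV h𝒳 hr (mk eF (flat_of_le_good _ Ω fun _ h => h))
  have hwp : RepByAlgSpWith (LocP @LocallyOfFinitePresentation) w :=
    H14.Chart.LocQ.repByAlgSpWith_of_locQ H14.Chart.SmLocal.isSmoothLocalST_lfp
      (H14.Sep.SpProps.stableBC_locP eP) hV h𝒳 hr (mk eP inferInstance)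
  have hwl : RepByAlgSpWith (LocP @LocallyOfFiniteType) w :=
    Rep.repByAlgSpWith_mono hwp fun _ _ _ _ _ h => H14.Chart.SmLocal.locP_mono
      (fun _ _ m (hm : LocallyOfFinitePresentation m) => by infer_instance) h
  have hws : RepByAlgSpWith IsSurjectiveMor w :=
    H14.Chart.Points.rep_of_isSurjective hg hV.isStack.1 hr fun p => by
      obtain ⟨u, rfl⟩ := H14.Chart.Points.surjective_ofChart hg hys p
      obtain ⟨z, rfl⟩ := hsur u
      refine ⟨AlgSt.Points.ofChart (overMap c) z, ?_⟩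
      rw [H14.Chart.Points.map_ofChart, ← H14.Chart.Points.ofChart_iso θ, H14.Chart.Points.ofChart_overMap]
  refine ⟨V, w, fun T z => ?_⟩
  obtain ⟨G, e, he, hF⟩ := hwf T z
  have hP := Space.prop_of_rep (IsAlgFp.respectsIsoSp_locP eP) hwp G.property he
  have hS := Space.prop_of_rep IsAlgFp.respectsIsoSp_surjective hws G.property he
  refine ⟨G, e, he, ?_, hS⟩
  obtain ⟨E, p, hpe, hps⟩ := G.property.atlas
  obtain ⟨m, hm⟩ := (yon S).map_surjective (p ≫ spMapOfOver (BasedFunctor.comp e (fpFst z w)))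
  have : LocallyOfFinitePresentation m.left :=
    hP p (𝟙 _) m hpe (AlgSp.repWith_id _ _) (by rw [Category.comp_id, hm])
  let cE : overCat E ⥤ᵇ fp z w := BasedFunctor.comp (ofOverCat E) (BasedFunctor.comp (ofSpMap p) e)
  have hcE : RepByAlgSpWith IsEtaleMor cE :=
    (Rep.repByAlgSpWith_iff_of_isEquivOver (f' := BasedFunctor.comp (ofOverCat E) (ofSpMap p))
      BasedBasic.isEquivOver_id he (Iso.refl _)).2
      (IsAlg.repByAlgSpWith_atlas hpe hps fun _ _ q hq _ => IsAlg.isEtaleMor hq)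
  have hv : spMapOfOver (BasedFunctor.comp (ofSpMap p) (BasedFunctor.comp e (fpFst z w))) = (yon S).map m := by
    rw [Rep.spMapOfOver_precomp, hm]
  let ιE : BasedFunctor.comp cE (fpFst z w) ≅ H14.Sep.Lft.vOf m :=
    BasedBasic.isoWhiskerLeft (ofOverCat E)
      (Rep.isoSpMapOfOver (BasedFunctor.comp (ofSpMap p) (BasedFunctor.comp e (fpFst z w))) ≪≫
        eqToIso (by rw [hv]))
  have hqf : LocallyQuasiFinite m.left := by
    rw [← Scheme.Hom.quasiFiniteLocus_eq_top_iff]
    refine top_le_iff.1 fun e₀ _ => ?_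
    obtain ⟨l, ⟨el⟩⟩ := H14.Chart.Points.exists_iso_overMap (BasedFunctor.comp cE (fpSnd z w))
    obtain ⟨x₀, hx₀, hgx⟩ := hgood (l.left e₀)
    have hK : IsFibGrpd (fp z w).p :=
      FibProd.isFibGrpd_fp (Yoneda.isFibGrpd_overCat T) (Yoneda.isFibGrpd_overCat V) hg
    have hpt : AlgSt.Points.map (fpSnd z w) (AlgSt.Points.ofChart cE e₀) =
        AlgSt.Points.map (fpSnd y w) (AlgSt.Points.ofChart η x₀) := by
      rw [H14.Chart.Points.map_ofChart, H14.Chart.Points.map_ofChart, H14.Chart.Points.ofChart_iso el,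
        H14.Chart.Points.ofChart_iso ec]
      exact ((H14.Chart.Points.ofChart_overMap l (BasedFunctor.id _) e₀).trans
        ((congrArg _ hx₀.symm).trans (H14.Chart.Points.ofChart_overMap c (BasedFunctor.id _) x₀).symm))
    have h1 : QF.QFAt (fpFst z w) (AlgSt.Points.ofChart cE e₀) := by
      rw [QF.qfAt_iff_diag hg z hwl cE e₀, hpt, ← QF.qfAt_iff_diag hg y hwl η x₀]
      exact ⟨_, η, d, x₀, hη, rfl, ⟨ed⟩, inferInstance, hgx.2⟩
    exact h1.qf hK hcE ιE rfl
  have hQ : LocP @LocallyQuasiFinite (spMapOfOver (BasedFunctor.comp e (fpFst z w))) :=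
    AlgSpFpqc.LocP.locP_of_chart_to_yon eQ G.property hpe hps hm.symm hqf
  exact fun A B a b h ha hb e' => ⟨⟨hF a b h ha hb e', hP a b h ha hb e'⟩, hQ a b h ha hb e'⟩

end Groth.Agent.Lib.Gerbe.LqfChart
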