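import Groth.Agent.Lib.Gerbe.MinPoint
import Groth.Agent.Lib.Gerbe.LqfChart

/-!
Residual gerbes at the points of a locally quasi-finite chart.
-/

set_option autoImplicit false
set_option backward.isDefEq.respectTransparency false
set_option backward.isDefEq.respectTransparency.types false

universe u

open CategoryTheory CategoryTheory.Limits AlgebraicGeometry

namespace Groth.Agent.Lib.Gerbe.LqfPoint

open Groth.Agent.Lib.AlgStack
open Groth.Agent.H14.Sep.Lft (vOf)
open FibCat (IsEquivOver fp fpFst fpSnd fpIso overCat toSelf)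
open AlgSt (ofSp ofSpMap ofOverCat toOverCat overMap RepByAlgSpWith IsAlgStack)
open AlgSp (Sp yon IsAlgSpace LocP RepWith IsSurjectiveMor)

variable {S : Scheme.{u}} {𝒳 : AlgSt.Cat S}

/-- The points of a locally quasi-finite chart have residual gerbes. -/
theorem resGerbeExists (h𝒳 : IsAlgStack Scheme.fppfPrecoverage 𝒳) {W : Over S} {y : overCat W ⥤ᵇ 𝒳}
    (hyl : RepByAlgSpWith (LocP @LocallyOfFiniteType) y) (hyq : RepByAlgSpWith (LocP @LocallyQuasiFinite) y)
    (u : ↥W.left) :
    Gerb.ResGerbeExists Scheme.fppfPrecoverage 𝒳 (AlgSt.Points.ofChart y u) := by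
  let k := W.left.residueField u
  let j : Spec (CommRingCat.of k) ⟶ W.left := W.left.fromSpecResidueField u
  let a : Spec (CommRingCat.of k) ⟶ S := j ≫ W.hom
  let g : Over.mk a ⟶ W := Over.homMk j rfl
  let pt : PrimeSpectrum k := Classical.choice inferInstance
  have hj : ∀ t, j t = u := fun t => by
    have := Set.mem_range_self (f := j) t
    rw [show Set.range j = {u} from Scheme.range_fromSpecResidueField u] at this
    exact this
  let w : overCat (Over.mk a) ⥤ᵇ 𝒳 := BasedFunctor.comp (overMap g) y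
  have hwx : ∀ t, AlgSt.Points.ofChart w t = AlgSt.Points.ofChart y u := fun t => by
    rw [H14.Chart.Points.ofChart_overMap]
    exact congrArg _ (hj t)
  have eT := H14.Sep.SpProps.lft.{u}
  have eQ := SourceDescent.Scheme.locallyQuasiFinite.{u}
  have hb := H14.Sep.SpProps.stableBC_locP (S := S) eT
  have hU := H14.Chart.Basic.isAlgStack_overCat W
  have hK := H14.Chart.Basic.isAlgStack_overCat (Over.mk a)
  have hA := H14.Chart.Basic.isAlgStack_fp h𝒳 hK hU w y
  have hr : AlgSt.RepByAlgSp1 (fpFst (fpSnd w y) (overMap g)) :=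
    Rep.repByAlgSp1_fpFst (fpSnd w y) (H14.Chart.LocQ.repByAlgSp1_chart hU (overMap g))
  obtain ⟨E, cE, hce, hcs⟩ := ChartLift.exists_atlas w (Rep.repByAlgSp1_of_repByAlgSpWith hyl)
  have hc₁ : RepByAlgSpWith (LocP @Flat) cE := Rep.repByAlgSpWith_mono (SliceEtale.etale_locP hce)
    fun _ _ _ _ _ h => H14.Chart.SmLocal.locP_mono (fun _ _ m (hm : Etale m) => by infer_instance) h
  have hc₂ : RepByAlgSpWith (LocP @LocallyOfFinitePresentation) cE := Rep.repByAlgSpWith_mono (SliceEtale.etale_locP hce)
    fun _ _ _ _ _ h => H14.Chart.SmLocal.locP_mono (fun _ _ m (hm : Etale m) => by infer_instance) h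
  have hc₃ : RepByAlgSpWith (LocP @LocallyQuasiFinite) cE := Rep.repByAlgSpWith_mono (SliceEtale.etale_locP hce)
    fun _ _ _ _ _ h => H14.Chart.SmLocal.locP_mono
      (fun _ _ m (hm : Etale m) => SourceDescent.Scheme.locallyQuasiFinite_of_etale m) h
  obtain ⟨v, ⟨ιv⟩⟩ := H14.Chart.Points.exists_iso_overMap (BasedFunctor.comp cE (fpFst w y))
  obtain ⟨l, ⟨ιl⟩⟩ := H14.Chart.Points.exists_iso_overMap (BasedFunctor.comp cE (fpSnd w y))
  have hv : LocallyQuasiFinite v.left := AlgSp.locP_yon_map
    (ChartLift.prop_overMap (IsAlgFp.respectsIsoSp_locP eQ) (IsAlgFp.detected_locP eQ)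
      (Rep.repByAlgSpWith_of_iso ιv (IsAlgFp.comp_locP eQ (Yoneda.isFibGrpd_overCat E) hA.isStack.1 hc₃
        (Rep.repByAlgSpWith_fpFst w hyq))))
  have hdisc : DiscreteTopology E.left := by
    have : Subsingleton ↥(Over.mk a).left := inferInstanceAs (Subsingleton (PrimeSpectrum k))
    refine discreteTopology_iff_isOpen_singleton.2 fun e => ?_
    have h := v.left.isDiscrete_preimage_singleton (v.left e)
    have hu : v.left ⁻¹' {v.left e} = Set.univ := Set.eq_univ_of_forall fun z => Subsingleton.elim (α := ↥(Over.mk a).left) _ _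
    rw [hu] at h
    have hd := isDiscrete_iff_discreteTopology.1 h
    obtain ⟨N, hN, he⟩ := isOpen_induced_iff.1 (isOpen_discrete ({⟨e, trivial⟩} : Set (Set.univ : Set E.left)))
    convert hN
    ext z
    have := Set.ext_iff.1 he ⟨z, trivial⟩
    simpa [Subtype.ext_iff] using this.symm
  have himm : IsImmersion (pullback.fst l g).left := by
    have sq := (IsPullback.of_hasPullback l g).map (Over.forget S)
    have : IsPreimmersion (pullback.fst l g).left :=
      MorphismProperty.of_isPullback (P := @IsPreimmersion) sq.flip (inferInstanceAs (IsPreimmersion j))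
    exact { __ := this, isLocallyClosed_range := (isOpen_discrete _).isLocallyClosed }
  have h1 : RepByAlgSpWith (LocP @LocallyOfFiniteType) (fpFst (fpSnd w y) (overMap g)) := by
    refine H14.Sep.Cover.rep_descend hb (H14.Sep.SpProps.fromSchemes_locP eT) H14.Sep.Cover.descends_lft hr
      fun T₀ z => ?_
    obtain ⟨T, s, hs, φ, ⟨ε⟩⟩ := H14.Sep.Cover.exists_lift hc₁ hc₂ hcs z
    refine ⟨T, s, hs, ?_⟩
    obtain ⟨φ', ⟨εφ⟩⟩ := H14.Chart.Points.exists_iso_overMap φ
    let z' := BasedFunctor.comp (vOf s) z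
    let f := φ' ≫ l
    let ι : BasedFunctor.comp z' (fpSnd w y) ≅ overMap f :=
      BasedBasic.isoWhiskerRight ε (fpSnd w y) ≪≫ BasedBasic.isoWhiskerLeft φ ιl ≪≫
        BasedBasic.isoWhiskerRight εφ (overMap l) ≪≫ ChartLift.overMapComp φ' l
    let q : pullback f g ⟶ pullback l g :=
      pullback.lift (pullback.fst f g ≫ φ') (pullback.snd f g) (by simp [f, ← pullback.condition])
    have sqq : IsPullback q (pullback.fst f g) (pullback.fst l g) φ' :=
      IsPullback.of_right (by rw [pullback.lift_snd]; exact (IsPullback.of_hasPullback f g).flip)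
        (pullback.lift_fst _ _ _) (IsPullback.of_hasPullback l g).flip
    have : IsImmersion (pullback.fst f g).left :=
      MorphismProperty.of_isPullback (P := @IsImmersion) (sqq.map (Over.forget S)) himm
    have : LocallyOfFiniteType (pullback.fst f g).left := inferInstance
    have hq : RepByAlgSpWith (LocP @LocallyOfFiniteType) (ofSpMap ((yon S).map (pullback.fst f g))) :=
      Descend.repByAlgSpWith_ofSpMap hb (IsAlgSpace.yon_obj _) (IsAlgSpace.yon_obj _)
        (AlgSpMor.LocP.locP_of_repWith eT ((AlgSp.repWith_yon_map_iff _ _).2 this))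
    have := BasedBasic.IsEquivOver.full (Rep.isEquivOver_toOverCat W)
    have := BasedBasic.IsEquivOver.faithful (Rep.isEquivOver_toOverCat W)
    have h2 := Space.isEquivOver_sqLift (((IsPullback.of_hasPullback f g).map (yon S)).map (sheafToPresheaf _ _))
    have h3 := FibProd.isEquivOver_fpMap (toOverCat T) (toOverCat (Over.mk a)) (toOverCat W)
      (F := overMap f) (G := overMap g) (F' := ofSpMap ((yon S).map f)) (G' := ofSpMap ((yon S).map g))
      (eqToIso rfl) (eqToIso rfl) (Rep.isEquivOver_toOverCat T) (Rep.isEquivOver_toOverCat _)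
    have h4 : RepByAlgSpWith (LocP @LocallyOfFiniteType) (fpFst (overMap f) (overMap g)) :=
      (Rep.repByAlgSpWith_iff_of_isEquivOver (f := fpFst (overMap f) (overMap g))
        (f' := ofSpMap ((yon S).map (pullback.fst f g))) (BasedBasic.IsEquivOver.comp h2 h3)
        (Rep.isEquivOver_toOverCat T) (Iso.refl _)).2 hq
    have h5 : RepByAlgSpWith (LocP @LocallyOfFiniteType) (fpFst (BasedFunctor.comp z' (fpSnd w y)) (overMap g)) :=
      (Rep.repByAlgSpWith_iff_of_isEquivOver (f := fpFst (BasedFunctor.comp z' (fpSnd w y)) (overMap g))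
        (f' := fpFst (overMap f) (overMap g)) (FibProd.isEquivOver_congrLeft ι.symm (overMap g))
        BasedBasic.isEquivOver_id (eqToIso rfl)).2 h4
    exact (Rep.repByAlgSpWith_iff_of_isEquivOver (f := fpFst (BasedFunctor.comp z' (fpSnd w y)) (overMap g))
      (f' := fpFst z' (fpFst (fpSnd w y) (overMap g))) (Rep.isEquivOver_pasteBase z' (fpSnd w y) (overMap g))
      BasedBasic.isEquivOver_id (eqToIso rfl)).1 h5
  have h2 : RepByAlgSpWith (LocP @LocallyOfFiniteType) (fpFst w y) := Rep.repByAlgSpWith_fpFst w hyl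
  have h3 : RepByAlgSpWith (LocP @LocallyOfFiniteType) (fpFst w w) :=
    (Rep.repByAlgSpWith_iff_of_isEquivOver (f := fpFst w w)
      (f' := BasedFunctor.comp (fpFst (fpSnd w y) (overMap g)) (fpFst w y))
      (Rep.isEquivOver_pasteComp w y (overMap g)) BasedBasic.isEquivOver_id (eqToIso rfl)).2
      (IsAlgFp.comp_locP eT (H14.Chart.Basic.isAlgStack_fp hU hA hK (fpSnd w y) (overMap g)).isStack.1
        hA.isStack.1 h1 h2)
  let z₀ := overMap (𝟙 (Over.mk a))
  have z₁ : RepByAlgSpWith (LocP @Flat) z₀ :=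
    H14.Chart.Basic.rep_overMap_locP _ SourceDescent.Scheme.flat (inferInstanceAs (Flat (𝟙 _)))
  have z₂ : RepByAlgSpWith (LocP @LocallyOfFinitePresentation) z₀ :=
    H14.Chart.Basic.rep_overMap_locP _ SourceDescent.Scheme.locallyOfFinitePresentation
      (inferInstanceAs (LocallyOfFinitePresentation (𝟙 _)))
  have : Surjective (𝟙 (Over.mk a) : Over.mk a ⟶ Over.mk a).left := inferInstanceAs (Surjective (𝟙 _))
  have z₃ : RepByAlgSpWith IsSurjectiveMor z₀ := H14.Chart.Basic.rep_overMap_surjective _
  have hfl := OnePointInertia.rep_of_field_point SourceDescent.Scheme.flat Rigid.descends_flat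
    (fun m _ => FibreDeg.Basic.flat_of_field m) z₁ z₂ z₃ h3
  have hfp := OnePointInertia.rep_of_field_point SourceDescent.Scheme.locallyOfFinitePresentation
    H14.IsoNat.Main.descends_lfp (fun {E} (m : E ⟶ _) (_ : LocallyOfFiniteType m) => by
      have : IsLocallyNoetherian (Spec (CommRingCat.of k)) := inferInstance
      infer_instance) z₁ z₂ z₃ h3
  obtain ⟨-, hI, hm, w', ⟨ε⟩, -, hws, -⟩ := ImageStack.main (w := w) h𝒳 hfl hfp
  have := PointStack.subsingleton_points hI hws
  refine ⟨_, AlgSt.subIncl 𝒳 _, hI, hm, PointStack.nonempty_points hI w', this, fun z => ?_⟩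
  rw [Subsingleton.elim z (AlgSt.Points.ofChart w' pt), H14.Chart.Points.map_ofChart,
    H14.Chart.Points.ofChart_iso ε]
  exact hwx pt

end Groth.Agent.Lib.Gerbe.LqfPoint
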