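import Groth.Agent.Lib.Gerbe.OnePointInertia
import Groth.Agent.Lib.Gerbe.ImageStack
import Groth.Agent.H14.Chart.Points

/-!
A point of a chart which specializes to no other point over the same point of the stack gives a
residual gerbe.
-/

set_option autoImplicit false
set_option backward.isDefEq.respectTransparency false
set_option backward.isDefEq.respectTransparency.types false

universe u

open CategoryTheory CategoryTheory.Limits AlgebraicGeometry

namespace Groth.Agent.Lib.Gerbe.MinPoint

open Groth.Agent.Lib.AlgStack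
open Groth.Agent.H14.Sep.Lft (vOf)
open FibCat (IsEquivOver fp fpFst fpSnd fpIso overCat toSelf)
open AlgSt (ofSp ofSpMap ofOverCat toOverCat overMap RepByAlgSpWith IsAlgStack)
open AlgSp (Sp yon IsAlgSpace LocP RepWith IsSurjectiveMor)

/-- The pullback of a point is closed when its proper specializations are avoided. -/
theorem isClosedImmersion_fst {A : CommRingCat.{u}} (p : PrimeSpectrum A) {T : Scheme.{u}}
    (f : T ⟶ Spec A) (hf : ∀ t : T, p.asIdeal ≤ (f t).asIdeal → f t = p) :
    IsClosedImmersion (pullback.fst f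
      (Spec.map (CommRingCat.ofHom (algebraMap (A ⧸ p.asIdeal) (FractionRing (A ⧸ p.asIdeal)))) ≫
        Spec.map (CommRingCat.ofHom (Ideal.Quotient.mk p.asIdeal)))) := by
  let B := A ⧸ p.asIdeal
  let K := FractionRing B
  let c : Spec (CommRingCat.of B) ⟶ Spec A := Spec.map (CommRingCat.ofHom (Ideal.Quotient.mk p.asIdeal))
  have : IsClosedImmersion c := IsClosedImmersion.spec_of_surjective _ Ideal.Quotient.mk_surjective
  let j : Spec (CommRingCat.of K) ⟶ Spec (CommRingCat.of B) := Spec.map (CommRingCat.ofHom (algebraMap B K))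
  have : IsPreimmersion j := IsPreimmersion.of_isLocalization (nonZeroDivisors B)
  let g : pullback f c ⟶ Spec (CommRingCat.of B) := pullback.snd f c
  have hg : ∀ t, (g t).asIdeal = ⊥ := fun t => by
    have h : f (pullback.fst f c t) = c (g t) := by
      rw [← Scheme.Hom.comp_apply, ← Scheme.Hom.comp_apply, pullback.condition]
    have h1 : p.asIdeal ≤ (c (g t)).asIdeal := fun a ha => by
      change (Ideal.Quotient.mk p.asIdeal a) ∈ (g t).asIdeal
      rw [Ideal.Quotient.eq_zero_iff_mem.2 ha]
      exact Ideal.zero_mem _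
    have h2 := hf _ (h ▸ h1)
    rw [h] at h2
    refine (Submodule.eq_bot_iff _).2 fun b hb => ?_
    obtain ⟨a, rfl⟩ := Ideal.Quotient.mk_surjective b
    have : a ∈ (c (g t)).asIdeal := hb
    rw [h2] at this
    exact Ideal.Quotient.eq_zero_iff_mem.2 this
  let φ : CommRingCat.of B ⟶ Γ(pullback f c, ⊤) := (Scheme.ΓSpecIso (CommRingCat.of B)).inv ≫ g.appTop
  have hunit : ∀ b : nonZeroDivisors B, IsUnit (φ.hom b) := fun b => by
    have hb : (b : B) ≠ 0 := nonZeroDivisors.coe_ne_zero b
    refine (pullback f c).toRingedSpace.isUnit_of_isUnit_germ _ _ fun t ht => ?_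
    rw [← Scheme.mem_basicOpen (pullback f c) _ t ht]
    change t ∈ (pullback f c).basicOpen (g.appTop ((Scheme.ΓSpecIso (CommRingCat.of B)).inv (b : B)))
    rw [← Scheme.preimage_basicOpen_top]
    change g t ∈ (Spec (CommRingCat.of B)).basicOpen _
    rw [basicOpen_eq_of_affine']
    rw [PrimeSpectrum.mem_basicOpen, hg t, Iso.inv_hom_id_apply]
    exact fun h0 => hb (Submodule.mem_bot B |>.1 h0)
  let ψ : CommRingCat.of K ⟶ Γ(pullback f c, ⊤) := CommRingCat.ofHom (IsLocalization.lift hunit)
  let h : pullback f c ⟶ Spec (CommRingCat.of K) := (pullback f c).toSpecΓ ≫ Spec.map ψ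
  have hψ : CommRingCat.ofHom (algebraMap B K) ≫ ψ = φ := CommRingCat.hom_ext (IsLocalization.lift_comp hunit)
  have hh : h ≫ j = g := by
    rw [Category.assoc, ← Spec.map_comp, hψ, Spec.map_comp, ← Scheme.toSpecΓ_naturality_assoc,
      toSpecΓ_SpecMap_ΓSpecIso_inv, Category.comp_id]
  have sq : IsPullback (𝟙 _) h g j := by
    refine ⟨⟨by rw [Category.id_comp, hh]⟩, ⟨PullbackCone.IsLimit.mk _ (fun s => s.fst) (fun s => Category.comp_id _)
      (fun s => (cancel_mono j).1 (by rw [Category.assoc, hh, s.condition])) (fun s m h1 _ => by simpa using h1)⟩⟩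
  have sq' := sq.paste_horiz (IsPullback.of_hasPullback f c)
  have : IsClosedImmersion (pullback.fst f c) := inferInstance
  have e : pullback.fst f (j ≫ c) = sq'.isoPullback.inv ≫ 𝟙 _ ≫ pullback.fst f c :=
    (sq'.isoPullback_inv_fst).symm
  change IsClosedImmersion (pullback.fst f (j ≫ c))
  rw [e]
  infer_instance

theorem lft_of_closed {X Y : Scheme.{u}} (m : X ⟶ Y) (_ : IsClosedImmersion m) : LocallyOfFiniteType m :=
  inferInstance

variable {S : Scheme.{u}} {𝒳 : AlgSt.Cat S}

/-- A point of an affine smooth chart with no proper specializations over the same point gives a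
residual gerbe. -/
theorem resGerbeExists (h𝒳 : IsAlgStack Scheme.fppfPrecoverage 𝒳) {A : CommRingCat.{u}}
    (str : Spec A ⟶ S) {y : overCat (Over.mk str) ⥤ᵇ 𝒳} (hy : RepByAlgSpWith (LocP @Smooth) y)
    (p : PrimeSpectrum A)
    (hp : ∀ q : PrimeSpectrum A, p.asIdeal ≤ q.asIdeal →
      AlgSt.Points.ofChart y q = AlgSt.Points.ofChart y p → q = p) :
    Gerb.ResGerbeExists Scheme.fppfPrecoverage 𝒳 (AlgSt.Points.ofChart y p) := by
  let B := A ⧸ p.asIdeal
  let k := FractionRing B
  let j : Spec (CommRingCat.of k) ⟶ Spec A :=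
    Spec.map (CommRingCat.ofHom (algebraMap B k)) ≫ Spec.map (CommRingCat.ofHom (Ideal.Quotient.mk p.asIdeal))
  let a : Spec (CommRingCat.of k) ⟶ S := j ≫ str
  let g : Over.mk a ⟶ Over.mk str := Over.homMk j rfl
  let pt : PrimeSpectrum k := Classical.choice inferInstance
  have hj : ∀ t, j t = p := fun t => by
    refine PrimeSpectrum.ext (Ideal.ext fun x => ?_)
    have : (t : PrimeSpectrum k).asIdeal = ⊥ :=
      (Ideal.eq_bot_or_top _).resolve_right (t : PrimeSpectrum k).2.ne_top
    change algebraMap B k (Ideal.Quotient.mk p.asIdeal x) ∈ (t : PrimeSpectrum k).asIdeal ↔ _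
    rw [this, Submodule.mem_bot, IsFractionRing.to_map_eq_zero_iff, Ideal.Quotient.eq_zero_iff_mem]
  let w : overCat (Over.mk a) ⥤ᵇ 𝒳 := BasedFunctor.comp (overMap g) y
  have hwx : ∀ t, AlgSt.Points.ofChart w t = AlgSt.Points.ofChart y p := fun t => by
    rw [H14.Chart.Points.ofChart_overMap]
    exact congrArg _ (hj t)
  have eT := H14.Sep.SpProps.lft.{u}
  have hb := H14.Sep.SpProps.stableBC_locP (S := S) eT
  have hU := H14.Chart.Basic.isAlgStack_overCat (Over.mk str)
  have hK := H14.Chart.Basic.isAlgStack_overCat (Over.mk a)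
  have hA := H14.Chart.Basic.isAlgStack_fp h𝒳 hK hU w y
  have hr : AlgSt.RepByAlgSp1 (fpFst (fpSnd w y) (overMap g)) :=
    Rep.repByAlgSp1_fpFst (fpSnd w y) (H14.Chart.LocQ.repByAlgSp1_chart hU (overMap g))
  have h1 : RepByAlgSpWith (LocP @LocallyOfFiniteType) (fpFst (fpSnd w y) (overMap g)) := by
    refine H14.Sep.Cover.rep_descend hb (H14.Sep.SpProps.fromSchemes_locP eT) H14.Sep.Cover.descends_lft hr
      fun T z => ⟨T, 𝟙 T, ⟨inferInstanceAs (Flat (𝟙 _)), inferInstanceAs (LocallyOfFinitePresentation (𝟙 _)),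
        inferInstanceAs (Surjective (𝟙 _))⟩, ?_⟩
    let z' := BasedFunctor.comp (vOf (𝟙 T)) z
    obtain ⟨f, ⟨ι⟩⟩ := H14.Chart.Points.exists_iso_overMap (BasedFunctor.comp z' (fpSnd w y))
    have hf : ∀ t : T.left, p.asIdeal ≤ (f.left t : PrimeSpectrum A).asIdeal → f.left t = p := fun t ht => by
      refine hp _ ht ?_
      obtain ⟨v, ⟨κ⟩⟩ := H14.Chart.Points.exists_iso_overMap (BasedFunctor.comp z' (fpFst w y))
      exact (H14.Chart.Points.ofChart_overMap f y t).symm.trans
        ((H14.Chart.Points.ofChart_iso (BasedBasic.isoWhiskerRight ι y) t).symm.trans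
          ((H14.Chart.Points.ofChart_iso (BasedBasic.isoWhiskerLeft z' (fpIso w y)) t).symm.trans
            ((H14.Chart.Points.ofChart_iso (BasedBasic.isoWhiskerRight κ w) t).trans
              ((H14.Chart.Points.ofChart_overMap v w t).trans (hwx _)))))
    have hcl := isClosedImmersion_fst p f.left hf
    let P := pullback f g
    have hsq : IsPullback (pullback.fst f g).left (pullback.snd f g).left f.left j :=
      (IsPullback.of_hasPullback f g).map (Over.forget S)
    have : LocallyOfFiniteType (pullback.fst f g).left := by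
      have hc : LocallyOfFiniteType (pullback.fst f.left j) := lft_of_closed _ hcl
      rw [← hsq.isoPullback_hom_fst]
      exact (MorphismProperty.cancel_left_of_respectsIso @LocallyOfFiniteType hsq.isoPullback.hom _).2 hc
    have hq : RepByAlgSpWith (LocP @LocallyOfFiniteType) (ofSpMap ((yon S).map (pullback.fst f g))) :=
      Descend.repByAlgSpWith_ofSpMap hb (IsAlgSpace.yon_obj _) (IsAlgSpace.yon_obj _)
        (AlgSpMor.LocP.locP_of_repWith eT ((AlgSp.repWith_yon_map_iff _ _).2 this))
    have := BasedBasic.IsEquivOver.full (Rep.isEquivOver_toOverCat (Over.mk str))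
    have := BasedBasic.IsEquivOver.faithful (Rep.isEquivOver_toOverCat (Over.mk str))
    have h2 := Space.isEquivOver_sqLift (((IsPullback.of_hasPullback f g).map (yon S)).map (sheafToPresheaf _ _))
    have h3 := FibProd.isEquivOver_fpMap (toOverCat T) (toOverCat (Over.mk a)) (toOverCat (Over.mk str))
      (F := overMap f) (G := overMap g) (F' := ofSpMap ((yon S).map f)) (G' := ofSpMap ((yon S).map g))
      (eqToIso rfl) (eqToIso rfl) (Rep.isEquivOver_toOverCat T) (Rep.isEquivOver_toOverCat _)
    have h4 : RepByAlgSpWith (LocP @LocallyOfFiniteType) (fpFst (overMap f) (overMap g)) :=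
      (Rep.repByAlgSpWith_iff_of_isEquivOver (f := fpFst (overMap f) (overMap g))
        (f' := ofSpMap ((yon S).map (pullback.fst f g))) (BasedBasic.IsEquivOver.comp h2 h3)
        (Rep.isEquivOver_toOverCat T) (Iso.refl _)).2 hq
    have h5 : RepByAlgSpWith (LocP @LocallyOfFiniteType) (fpFst (BasedFunctor.comp z' (fpSnd w y)) (overMap g)) :=
      (Rep.repByAlgSpWith_iff_of_isEquivOver (f := fpFst (BasedFunctor.comp z' (fpSnd w y)) (overMap g))
        (f' := fpFst (overMap f) (overMap g)) (FibProd.isEquivOver_congrLeft ι.symm (overMap g))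
        BasedBasic.isEquivOver_id (eqToIso rfl)).2 h4
    exact (Rep.repByAlgSpWith_iff_of_isEquivOver (f := fpFst (BasedFunctor.comp z' (fpSnd w y)) (overMap g))
      (f' := fpFst z' (fpFst (fpSnd w y) (overMap g))) (Rep.isEquivOver_pasteBase z' (fpSnd w y) (overMap g))
      BasedBasic.isEquivOver_id (eqToIso rfl)).1 h5
  have h2 : RepByAlgSpWith (LocP @LocallyOfFiniteType) (fpFst w y) :=
    Rep.repByAlgSpWith_fpFst w (Rep.repByAlgSpWith_mono hy fun _ _ _ _ _ h => H14.Chart.SmLocal.locP_mono
      (fun _ _ m (hm : Smooth m) => by infer_instance) h)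
  have h3 : RepByAlgSpWith (LocP @LocallyOfFiniteType) (fpFst w w) :=
    (Rep.repByAlgSpWith_iff_of_isEquivOver (f := fpFst w w)
      (f' := BasedFunctor.comp (fpFst (fpSnd w y) (overMap g)) (fpFst w y))
      (Rep.isEquivOver_pasteComp w y (overMap g)) BasedBasic.isEquivOver_id (eqToIso rfl)).2
      (IsAlgFp.comp_locP eT (H14.Chart.Basic.isAlgStack_fp hU hA hK (fpSnd w y) (overMap g)).isStack.1
        hA.isStack.1 h1 h2)
  let z₀ := overMap (𝟙 (Over.mk a))
  have z₁ : RepByAlgSpWith (LocP @Flat) z₀ :=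
    H14.Chart.Basic.rep_overMap_locP _ SourceDescent.Scheme.flat (inferInstanceAs (Flat (𝟙 _)))
  have z₂ : RepByAlgSpWith (LocP @LocallyOfFinitePresentation) z₀ :=
    H14.Chart.Basic.rep_overMap_locP _ SourceDescent.Scheme.locallyOfFinitePresentation
      (inferInstanceAs (LocallyOfFinitePresentation (𝟙 _)))
  have : Surjective (𝟙 (Over.mk a) : Over.mk a ⟶ Over.mk a).left := inferInstanceAs (Surjective (𝟙 _))
  have z₃ : RepByAlgSpWith IsSurjectiveMor z₀ := H14.Chart.Basic.rep_overMap_surjective _
  have hfl := OnePointInertia.rep_of_field_point SourceDescent.Scheme.flat Rigid.descends_flat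
    (fun m _ => FibreDeg.Basic.flat_of_field m) z₁ z₂ z₃ h3
  have hfp := OnePointInertia.rep_of_field_point SourceDescent.Scheme.locallyOfFinitePresentation
    H14.IsoNat.Main.descends_lfp (fun {E} (m : E ⟶ _) (_ : LocallyOfFiniteType m) => by
      have : IsLocallyNoetherian (Spec (CommRingCat.of k)) := inferInstance
      infer_instance) z₁ z₂ z₃ h3
  obtain ⟨-, hI, hm, w', ⟨ε⟩, -, hws, -⟩ := ImageStack.main (w := w) h𝒳 hfl hfp
  have := PointStack.subsingleton_points hI hws
  refine ⟨_, AlgSt.subIncl 𝒳 _, hI, hm, PointStack.nonempty_points hI w', this, fun z => ?_⟩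
  rw [Subsingleton.elim z (AlgSt.Points.ofChart w' pt), H14.Chart.Points.map_ofChart,
    H14.Chart.Points.ofChart_iso ε]
  exact hwx pt

end Groth.Agent.Lib.Gerbe.MinPoint
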