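import Groth.Agent.Lib.Gerbe.Smooth
import Groth.Agent.H14.Chart.LocQ2
import Groth.Agent.H14.Chart.Points
import Groth.Agent.Lib.AlgStack.RepOver
import Groth.Agent.Lib.AlgSpDecent.OnePointMono
import Groth.Agent.H56.GeomDescent
import Groth.Agent.Lib.GrpSch.SmoothReduced
import Groth.Agent.Lib.GrpSch.GenericIso
import Groth.Agent.Lib.NormAmple.GenStalk

/-!
Algebraic stacks with a surjective flat morphism from the spectrum of a field.
-/

set_option autoImplicit false
set_option backward.isDefEq.respectTransparency false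
set_option backward.isDefEq.respectTransparency.types false

universe u

open CategoryTheory CategoryTheory.Limits AlgebraicGeometry Opposite

namespace Groth.Agent.Lib.Gerbe.PointStack

open Groth.Agent.Lib.AlgStack
open FibCat (IsEquivOver IsFibGrpd fp fpFst fpSnd fpIso overCat)
open AlgSt (ofSp ofSpMap overMap spMapOfOver RepByAlgSp1 RepByAlgSpWith IsAlgStack SmoothLocally)
open AlgSp (Sp yon IsAlgSpace LocP RepWith Points)
open H14.Sep.Lft (vOf)

variable {S : Scheme.{u}} {𝒵 : AlgSt.Cat S} {k : Type u} [Field k] {a : Spec (CommRingCat.of k) ⟶ S}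

theorem locQ_of_iso {𝒳 𝒴 : AlgSt.Cat S} {P : MorphismProperty (Sp S)} {f f' : 𝒳 ⥤ᵇ 𝒴} (e : f ≅ f')
    (h : AlgSt.LocQ P f) : AlgSt.LocQ P f' := by
  obtain ⟨U, V, x, y, m, ι, h1, h2, h3, h4⟩ := h
  exact ⟨U, V, x, y, m, (BasedBasic.isoWhiskerLeft x e).symm ≪≫ ι, h1, h2, h3, h4⟩

theorem subsingleton_pt : Subsingleton ↥(Over.mk a).left :=
  inferInstanceAs (Subsingleton (PrimeSpectrum k))

theorem subsingleton_points_overCat : Subsingleton (AlgSt.Points (overCat (Over.mk a))) := by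
  have := subsingleton_pt (a := a)
  have : Surjective (𝟙 (Over.mk a) : Over.mk a ⟶ Over.mk a).left := inferInstanceAs (Surjective (𝟙 _))
  exact (H14.Chart.Points.surjective_ofChart (Yoneda.isFibGrpd_overCat (Over.mk a))
    (H14.Chart.Basic.rep_overMap_surjective (𝟙 (Over.mk a)))).subsingleton

variable (h𝒵 : IsAlgStack Scheme.fppfPrecoverage 𝒵) {z : overCat (Over.mk a) ⥤ᵇ 𝒵}

include h𝒵 in
theorem subsingleton_points (hzs : RepByAlgSpWith AlgSp.IsSurjectiveMor z) :
    Subsingleton (AlgSt.Points 𝒵) :=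
  have := subsingleton_points_overCat (a := a)
  Function.Surjective.subsingleton (H14.Chart.Points.isSurjective_of_rep h𝒵.isStack.1 hzs)

include h𝒵 in
theorem nonempty_points (z' : overCat (Over.mk a) ⥤ᵇ 𝒵) : Nonempty (AlgSt.Points 𝒵) :=
  ⟨AlgSt.Points.ofChart z' (Classical.choice (inferInstanceAs (Nonempty (PrimeSpectrum k))))⟩

include h𝒵 in
/-- A chart and the field have a common scheme over them, smooth over the field. -/
theorem exists_common {U : Over S} (y : overCat U ⥤ᵇ 𝒵) (hy : RepByAlgSpWith (LocP @Smooth) y)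
    (hzs : RepByAlgSpWith AlgSp.IsSurjectiveMor z) :
    ∃ (E : Over S) (q : E ⟶ U) (v : E ⟶ Over.mk a), Smooth v.left ∧ Surjective q.left ∧
      ∀ {Q : MorphismProperty Scheme.{u}}, SourceDescent.Scheme.EtaleLocalST Q →
        RepByAlgSpWith (LocP Q) z → Q q.left := by
  obtain ⟨G, e, he, hsu⟩ := hzs U y
  obtain ⟨E, p, hp, hps⟩ := G.property.atlas
  obtain ⟨q, hq⟩ := (yon S).map_surjective (p ≫ spMapOfOver (BasedFunctor.comp e (fpFst y z)))
  obtain ⟨v, hv⟩ := (yon S).map_surjective (p ≫ spMapOfOver (BasedFunctor.comp e (fpSnd y z)))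
  have hδ : LocP @Smooth (spMapOfOver (BasedFunctor.comp e (fpSnd y z))) :=
    Smooth.prop_spMapOfOver (H14.Sep.SpProps.stableBC_locP SourceDescent.Scheme.smooth)
      (H14.Sep.SpProps.fromSchemes_locP SourceDescent.Scheme.smooth)
      (H14.Chart.LocQ.rep_precomp_equiv he (RepOver.repByAlgSpWith_fpSnd z hy))
  refine ⟨E, q, v, hδ p (𝟙 _) v hp (AlgSp.repWith_id _ _) (by rw [Category.comp_id, hv]), ⟨fun t => ?_⟩,
    fun {Q} hQ hz => Space.prop_of_rep (IsAlgFp.respectsIsoSp_locP hQ) hz G.property he p (𝟙 _) q hp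
      (AlgSp.repWith_id _ _) (by rw [Category.comp_id, hq])⟩
  obtain ⟨g, hg⟩ := hsu (Points.schemeHomeo U t)
  obtain ⟨r, hr⟩ := Lib.AlgSpace.surjective_map hps g
  obtain ⟨t', rfl⟩ := (Points.schemeHomeo E).surjective r
  refine ⟨t', (Points.schemeHomeo U).injective ?_⟩
  rw [← Points.map_yon_map_apply, ← hg, ← hr, hq, Points.map_comp]

include h𝒵 in
theorem smoothLocally_reduced (hzs : RepByAlgSpWith AlgSp.IsSurjectiveMor z)
    (hzf : RepByAlgSpWith (LocP @Flat) z) : SmoothLocally (fun T => IsReduced T) 𝒵 := fun U y hy => by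
  obtain ⟨E, q, v, hv, hs, hQ⟩ := exists_common h𝒵 y hy hzs
  have : Flat q.left := hQ SourceDescent.Scheme.flat hzf
  have : Smooth v.left := hv
  have : IsReduced E.left :=
    GrpSch.isReduced_of_smooth_field (k := k) (v.left : E.left ⟶ Spec (CommRingCat.of k))
  exact H56.GeomDescent.isReduced_of_flat_surjective q.left

include h𝒵 in
theorem smoothLocally_noetherian (hzs : RepByAlgSpWith AlgSp.IsSurjectiveMor z)
    (hzf : RepByAlgSpWith (LocP @Flat) z) (hzp : RepByAlgSpWith (LocP @LocallyOfFinitePresentation) z) :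
    SmoothLocally (fun T => IsLocallyNoetherian T) 𝒵 := fun U y hy => by
  obtain ⟨E, q, v, hv, hs, hQ⟩ := exists_common h𝒵 y hy hzs
  have : Flat q.left := hQ SourceDescent.Scheme.flat hzf
  have : LocallyOfFinitePresentation q.left := hQ SourceDescent.Scheme.locallyOfFinitePresentation hzp
  have : Smooth v.left := hv
  have : IsLocallyNoetherian (Over.mk a).left :=
    inferInstanceAs (IsLocallyNoetherian (Spec (CommRingCat.of k)))
  have : IsLocallyNoetherian E.left := LocallyOfFiniteType.isLocallyNoetherian v.left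
  exact AlgSpDecent.OnePoint.isLocallyNoetherian_of_flat_surjective q.left

include h𝒵 in
/-- A morphism from the spectrum of a field is surjective and flat as soon as one is. -/
theorem surjective_flat (hzs : RepByAlgSpWith AlgSp.IsSurjectiveMor z)
    (hzf : RepByAlgSpWith (LocP @Flat) z) {k' : Type u} [Field k'] {a' : Spec (CommRingCat.of k') ⟶ S}
    (z' : overCat (Over.mk a') ⥤ᵇ 𝒵) :
    RepByAlgSpWith AlgSp.IsSurjectiveMor z' ∧ RepByAlgSpWith (LocP @Flat) z' := by
  have hr := H14.Chart.LocQ.repByAlgSp1_chart h𝒵 z'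
  have hk := H14.Chart.Basic.isAlgStack_overCat (Over.mk a)
  have hk' := H14.Chart.Basic.isAlgStack_overCat (Over.mk a')
  have hss := subsingleton_points h𝒵 hzs
  obtain ⟨p₀⟩ := nonempty_points h𝒵 z
  have hs' : AlgSt.IsSurjective z' := fun p => ⟨AlgSt.Points.ofChart (BasedFunctor.id _)
    (Classical.choice (inferInstanceAs (Nonempty (PrimeSpectrum k')))), Subsingleton.elim _ _⟩
  refine ⟨H14.Chart.Points.rep_of_isSurjective h𝒵.isStack.1 (Yoneda.isFibGrpd_overCat _) hr hs', ?_⟩
  have eF := SourceDescent.Scheme.flat.{u}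
  have hF := H14.Chart.SmLocal.isSmoothLocalST_flat (S := S)
  have hQ := H14.Chart.Basic.isAlgStack_fp h𝒵 hk hk' z z'
  have hsnd := RepOver.repByAlgSpWith_fpSnd z' hzf
  have h1 : AlgSt.LocQ (LocP @Flat) (fpFst z z') := by
    obtain ⟨U, b, m, hb, hb', ⟨ι⟩⟩ := H14.Chart.LocQ.exists_square hQ hk (fpFst z z') (overMap (𝟙 (Over.mk a)))
    have : Surjective (𝟙 (Over.mk a) : Over.mk a ⟶ Over.mk a).left := inferInstanceAs (Surjective (𝟙 _))
    exact H14.Chart.LocQ.locQ_of_square hQ hk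
      (H14.Chart.Basic.rep_overMap_locP _ H14.Chart.LocQ.smoothST (inferInstanceAs (Smooth (𝟙 _))))
      (H14.Chart.Basic.rep_overMap_surjective _)
      hb hb' ι (AlgSpMor.LocP.locP_of_repWith eF ((AlgSp.repWith_yon_map_iff _ _).2
        (GrpSch.flat_of_isField (Field.toIsField k) (m.left : U.left ⟶ Spec (CommRingCat.of k)))))
  have hpre := hF.precomp
  have h2 : AlgSt.LocQ (LocP @Flat) (BasedFunctor.comp (fpSnd z z') z') :=
    locQ_of_iso (fpIso z z')
      (H14.Chart.LocQ.locQ_comp hF hF (fun _ _ _ f g hf hg => by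
          rw [Functor.map_comp]
          exact AlgSpMor.LocP.locP_comp eF (IsAlgSpace.yon_obj _) (IsAlgSpace.yon_obj _) (IsAlgSpace.yon_obj _) hf hg)
        hQ hk h𝒵 h1 (H14.Chart.LocQ.locQ_of_repByAlgSpWith hpre hk h𝒵 hzf))
  refine H14.Chart.LocQ.repByAlgSpWith_of_locQ hF (H14.Sep.SpProps.stableBC_locP eF) hk' h𝒵 hr ?_
  refine H14.Chart.LocQ.locQ_right hF hF (fun _ _ _ f g hfg hf hs => ?_) hQ hk' h𝒵 h2
    (H14.Chart.LocQ.locQ_of_repByAlgSpWith hpre hQ hk' hsnd)
    (H14.Chart.Points.isSurjective_of_rep hk'.isStack.1 (RepOver.repByAlgSpWith_fpSnd z' hzs))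
  have := hs
  have : Flat f.left := AlgSp.locP_yon_map hf
  have : Flat (f.left ≫ g.left) := by rw [← Over.comp_left]; exact AlgSp.locP_yon_map hfg
  exact AlgSpMor.LocP.locP_of_repWith eF ((AlgSp.repWith_yon_map_iff _ _).2
    (Flat55.FlatDescend.flat_of_comp f.left g.left))

end Groth.Agent.Lib.Gerbe.PointStack
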