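import Groth.Agent.Lib.Gerbe.FieldImage
import Groth.Agent.Lib.AlgSpFpqc.FppfCover
import Groth.Agent.Lib.AlgSpFpqc.Affine
import Groth.Agent.Lib.AlgStack.ChartLift
import Groth.Agent.Lib.AlgStack.CompRep
import Groth.Agent.S10532

/-!
Morphisms of residual gerbes which are isomorphisms after pulling back to a field point.
-/

set_option autoImplicit false
set_option backward.isDefEq.respectTransparency false
set_option backward.isDefEq.respectTransparency.types false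

universe u

open CategoryTheory CategoryTheory.Limits AlgebraicGeometry

namespace Groth.Agent.Lib.Gerbe.ResMap

open Groth.Agent.Lib.AlgStack
open Groth.Agent.H14.Sep.Lft (vOf)
open FibCat (IsEquivOver fp fpFst fpSnd fpLift fpIso overCat IsFibGrpd diag)
open AlgSt (ofSp ofSpMap toOverCat ofOverCat spMapOfOver overMap RepByAlgSp1 RepByAlgSpWith IsAlgStack fullSub
  subIncl)
open AlgSp (Sp yon IsAlgSpace LocP RepWith IsSurjectiveMor)

variable {S : Scheme.{u}} {𝒳 𝒴 : AlgSt.Cat S}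

/-- The base change of `f` to `T` is an isomorphism. -/
def IsIsoAt {𝒵 : AlgSt.Cat S} (f : 𝒳 ⥤ᵇ 𝒵) {T : Over S} (x : overCat T ⥤ᵇ 𝒵) : Prop :=
  ∃ (G : AlgSp.Space S) (e : ofSp G.obj ⥤ᵇ fp x f), IsEquivOver e ∧
    IsIso (spMapOfOver (BasedFunctor.comp e (fpFst x f)))

/-- Equivalences are representable isomorphisms. -/
theorem rep_iso_of_isEquivOver {f : 𝒳 ⥤ᵇ 𝒴} (hf : IsEquivOver f) :
    RepByAlgSpWith (MorphismProperty.isomorphisms (Sp S)) f := by
  have hid : RepByAlgSpWith (MorphismProperty.isomorphisms (Sp S)) (BasedFunctor.id 𝒴) := by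
    intro T z
    let E : overCat T ⥤ᵇ fp z (BasedFunctor.id 𝒴) := fpLift (BasedFunctor.id _) z (Iso.refl _)
    have hfa : E.toFunctor.Faithful := ⟨fun {a b g g'} h => congrArg (fun m => m.hom.fst) h⟩
    have hfu : E.toFunctor.Full := ⟨fun {a b} g => ⟨g.hom.fst, Lib.Fibred.Fp.hom_ext rfl (by
      have w := Lib.Fibred.Fp.w g
      have w1 : z.map g.hom.fst ≫ 𝟙 _ = 𝟙 _ ≫ g.hom.snd := w
      rw [Category.comp_id, Category.id_comp] at w1
      exact w1)⟩⟩
    have hE : IsEquivOver E := by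
      refine BasedBasic.isEquivOver_of E fun η => ?_
      refine ⟨η.obj.fst, Lib.Fibred.Fp.isoMk (Iso.refl _) η.obj.iso ?_, ?_⟩
      · change z.map (𝟙 η.obj.fst) ≫ η.obj.iso.hom = 𝟙 _ ≫ η.obj.iso.hom
        rw [z.toFunctor.map_id]
      · exact (Lib.Fibred.Fp.isHomLift_iff _ _).2 (IsHomLift.id rfl)
    refine ⟨(AlgSp.ofScheme S).obj T, BasedFunctor.comp (toOverCat T) E,
      BasedBasic.IsEquivOver.comp (AlgStack.Rep.isEquivOver_toOverCat T) hE, ?_⟩
    have : spMapOfOver (BasedFunctor.comp (BasedFunctor.comp (toOverCat T) E)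
        (fpFst z (BasedFunctor.id 𝒴))) = 𝟙 _ := by
      change spMapOfOver (BasedFunctor.comp (toOverCat T) (BasedFunctor.id (overCat T))) = _
      rw [← (yon S).map_id]
      exact AlgStack.Rep.spMapOfOver_ofSpMap_toOverCat ((yon S).map (𝟙 T))
    show IsIso _
    rw [this]
    exact IsIso.id _
  exact (AlgStack.Rep.repByAlgSpWith_iff_of_isEquivOver (f := BasedFunctor.id 𝒴) (f' := f) hf
    BasedBasic.isEquivOver_id (Iso.refl _)).1 hid

theorem isIsoAt_of_iso {𝒵 : AlgSt.Cat S} {f : 𝒳 ⥤ᵇ 𝒵} {T : Over S} {x x' : overCat T ⥤ᵇ 𝒵}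
    (ε : x ≅ x') (h : IsIsoAt f x) : IsIsoAt f x' := by
  obtain ⟨G, e, he, hγ⟩ := h
  refine ⟨G, BasedFunctor.comp e (FibProd.congrLeft ε f),
    BasedBasic.IsEquivOver.comp he (FibProd.isEquivOver_congrLeft ε f), ?_⟩
  have : spMapOfOver (BasedFunctor.comp (BasedFunctor.comp e (FibProd.congrLeft ε f)) (fpFst x' f)) =
      spMapOfOver (BasedFunctor.comp e (fpFst x f)) := rfl
  rw [this]
  exact hγ

/-- Isomorphy descends along fpqc covers of the base. -/
theorem isIso_of_cover {G : Sp S} (hG : IsAlgSpace G) {T T' : Over S} (γ : G ⟶ (yon S).obj T) (s : T' ⟶ T)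
    (hs : AlgSp.IsFpqcCover (fun _ : PUnit.{u + 1} ↦ (yon S).obj T') (fun _ ↦ (yon S).map s))
    (h : IsIso (pullback.snd γ ((yon S).map s))) : IsIso γ :=
  (Groth.Agent.S10532.result S _ _ (IsAlgSpace.yon_obj T) (fun _ => IsAlgSpace.yon_obj T') hs γ hG
    (fun _ => pullback γ ((yon S).map s)) (fun _ => pullback.snd γ ((yon S).map s))
    (fun _ => pullback.fst γ ((yon S).map s))
    (fun _ => Lib.AlgSpace.isAlgSpace_of_isPullback (IsPullback.of_hasPullback γ ((yon S).map s))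
      (IsAlgSpace.yon_obj T).diag hG (IsAlgSpace.yon_obj T'))
    (fun _ => IsPullback.of_hasPullback _ _)).2 fun _ => h

/-- Isomorphy of base changes descends. -/
theorem isIsoAt_descend {𝒵 : AlgSt.Cat S} {f : 𝒳 ⥤ᵇ 𝒵} (hr : RepByAlgSp1 f) {T T' : Over S}
    (x : overCat T ⥤ᵇ 𝒵) (s : T' ⟶ T)
    (hs : AlgSp.IsFpqcCover (fun _ : PUnit.{u + 1} ↦ (yon S).obj T') (fun _ ↦ (yon S).map s))
    (h : IsIsoAt f (BasedFunctor.comp (vOf s) x)) : IsIsoAt f x := by
  obtain ⟨G, e, he⟩ := hr T x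
  refine ⟨G, e, he, isIso_of_cover G.property _ s hs ?_⟩
  obtain ⟨G', e', he', hγ'⟩ := h
  let γ := spMapOfOver (BasedFunctor.comp e (fpFst x f))
  have sq := IsPullback.of_hasPullback γ ((yon S).map s)
  have := BasedBasic.IsEquivOver.full (AlgStack.Rep.isEquivOver_toOverCat T)
  have := BasedBasic.IsEquivOver.faithful (AlgStack.Rep.isEquivOver_toOverCat T)
  have h1 := AlgStack.Space.isEquivOver_sqLift (sq.map (sheafToPresheaf _ _)).flip
  have h2 := FibProd.isEquivOver_fpMap (toOverCat T') e (toOverCat T)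
    (F := vOf s) (G := fpFst x f) (F' := ofSpMap ((yon S).map s)) (G' := ofSpMap γ)
    (Iso.refl _) (AlgStack.Rep.isoSpMapOfOver (BasedFunctor.comp e (fpFst x f)))
    (AlgStack.Rep.isEquivOver_toOverCat T') he
  obtain ⟨P, hP⟩ : ∃ P : ofSp (pullback γ ((yon S).map s)) ⥤ᵇ fp (BasedFunctor.comp (vOf s) x) f,
      IsEquivOver P ∧ spMapOfOver (BasedFunctor.comp P (fpFst (BasedFunctor.comp (vOf s) x) f)) =
        pullback.snd γ ((yon S).map s) :=
    ⟨BasedFunctor.comp (BasedFunctor.comp (Space.sqLift (sq.map (sheafToPresheaf _ _)).flip.w)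
        (FibProd.fpMap (toOverCat T') e (toOverCat T)
          (F := vOf s) (G := fpFst x f) (F' := ofSpMap ((yon S).map s)) (G' := ofSpMap γ)
          (Iso.refl _) (AlgStack.Rep.isoSpMapOfOver (BasedFunctor.comp e (fpFst x f)))))
        (AlgStack.Rep.pasteBase (vOf s) x f),
      BasedBasic.IsEquivOver.comp (BasedBasic.IsEquivOver.comp h1 h2)
        (AlgStack.Rep.isEquivOver_pasteBase _ _ _),
      AlgStack.Rep.spMapOfOver_ofSpMap_toOverCat _⟩
  obtain ⟨i, hi, -, ⟨ε⟩⟩ := BasedBasic.IsEquivOver.exists_inverse he'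
  have := AlgStack.Space.isIso_spHom (BasedBasic.IsEquivOver.comp hP.1 hi)
  have hγ'' := hγ'
  have key : pullback.snd γ ((yon S).map s) = AlgStack.Space.spHom (BasedFunctor.comp P i) ≫
      spMapOfOver (BasedFunctor.comp e' (fpFst (BasedFunctor.comp (vOf s) x) f)) := by
    rw [← hP.2, ← AlgStack.Rep.spMapOfOver_precomp]
    exact AlgStack.Rep.spMapOfOver_eq_of_iso
      ((BasedBasic.isoWhiskerRight
        ((BasedBasic.isoWhiskerRight (OfPsh.isoOfPshMap (BasedFunctor.comp P i)).symm e') ≪≫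
          BasedBasic.isoWhiskerLeft P ε) (fpFst (BasedFunctor.comp (vOf s) x) f)).symm)
  rw [key]
  infer_instance

variable (g : 𝒳 ⥤ᵇ 𝒴)

/-- The map between relative self-products of a chart. -/
abbrev selfMap {K : Over S} (q : overCat K ⥤ᵇ 𝒳) :
    fp q q ⥤ᵇ fp (BasedFunctor.comp q g) (BasedFunctor.comp q g) :=
  fpLift (fpFst q q) (fpSnd q q) (BasedBasic.isoWhiskerRight (fpIso q q) g)

/-- The map from the relative self-product to `𝒳 ×_𝒴 𝒳`. -/
abbrev rho {K : Over S} (q : overCat K ⥤ᵇ 𝒳) :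
    fp (BasedFunctor.comp q g) (BasedFunctor.comp q g) ⥤ᵇ fp g g :=
  fpLift (BasedFunctor.comp (fpFst (BasedFunctor.comp q g) (BasedFunctor.comp q g)) q)
    (BasedFunctor.comp (fpSnd (BasedFunctor.comp q g) (BasedFunctor.comp q g)) q)
    (fpIso (BasedFunctor.comp q g) (BasedFunctor.comp q g))

variable {g}

/-- If the self-products agree then the relative diagonal is an isomorphism over them. -/
theorem rep_iso_fpFst_rho {K : Over S} (q : overCat K ⥤ᵇ 𝒳) (h : IsEquivOver (selfMap g q)) :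
    RepByAlgSpWith (MorphismProperty.isomorphisms (Sp S)) (fpFst (rho g q) (diag g)) :=
  rep_iso_of_isEquivOver (BasedBasic.IsEquivOver.of_comp_left (CompRep.isEquivOver_toRelDiag g q q) h)

/-- Base changes of the relative diagonal along maps through the self-product are isomorphisms. -/
theorem isIsoAt_of_factor {K W : Over S} (q : overCat K ⥤ᵇ 𝒳) (h : IsEquivOver (selfMap g q))
    (w : overCat W ⥤ᵇ fp (BasedFunctor.comp q g) (BasedFunctor.comp q g)) :
    IsIsoAt (diag g) (BasedFunctor.comp w (rho g q)) := by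
  obtain ⟨G, e, he, hγ⟩ := rep_iso_fpFst_rho q h W w
  exact ⟨G, BasedFunctor.comp e (AlgStack.Rep.pasteBase w (rho g q) (diag g)),
    BasedBasic.IsEquivOver.comp he (AlgStack.Rep.isEquivOver_pasteBase _ _ _), hγ⟩

theorem fpqc_of_fppf {T T' : Over S} {s : T' ⟶ T} (hs : H14.Sep.Cover.Fppf s) :
    AlgSp.IsFpqcCover (fun _ : PUnit.{u + 1} ↦ (yon S).obj T') (fun _ ↦ (yon S).map s) := by
  refine AlgSpFpqc.FppfCover.isFpqcCover ⟨fun _ => ⟨?_, ?_⟩, fun τ => ?_⟩ (IsAlgSpace.yon_obj T)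
    (fun _ => IsAlgSpace.yon_obj T')
  · exact AlgSpMor.LocP.locP_of_repWith SourceDescent.Scheme.flat ((AlgSp.repWith_yon_map_iff _ _).2 hs.1)
  · exact AlgSpMor.LocP.locP_of_repWith SourceDescent.Scheme.locallyOfFinitePresentation
      ((AlgSp.repWith_yon_map_iff _ _).2 hs.2.1)
  · exact ⟨⟨⟩, Lib.AlgSpace.surjective_map ((AlgSp.repWith_yon_map_iff _ _).2 hs.2.2) τ⟩

theorem props_field_hom {k K : Type u} [Field k] [Field K]
    (f : Spec (CommRingCat.of K) ⟶ Spec (CommRingCat.of k)) :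
    IsAffineHom f ∧ Flat f ∧ Surjective f := by
  refine ⟨inferInstance, ?_, ⟨fun t => ⟨Classical.arbitrary (PrimeSpectrum K), ?_⟩⟩⟩
  · rw [← Spec.map_preimage f]
    refine (HasRingHomProperty.Spec_iff (P := @Flat)).2 ?_
    letI := (Spec.preimage f).hom.toAlgebra
    show Module.Flat (CommRingCat.of k) (CommRingCat.of K)
    exact inferInstanceAs (Module.Flat k K)
  · haveI : Subsingleton ↥(Spec (CommRingCat.of k)) := inferInstanceAs (Subsingleton (PrimeSpectrum k))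
    exact Subsingleton.elim _ _

/-- Two field points of a one-point stack have a common field point. -/
theorem exists_common_field (h : IsFibGrpd 𝒳.p) (hsub : Subsingleton (AlgSt.Points 𝒳))
    {k k' : Type u} [Field k] [Field k'] {a : Spec (CommRingCat.of k) ⟶ S}
    {a' : Spec (CommRingCat.of k') ⟶ S} (q : overCat (Over.mk a) ⥤ᵇ 𝒳)
    (q' : overCat (Over.mk a') ⥤ᵇ 𝒳) :
    ∃ (K : Over S) (c : K ⟶ Over.mk a) (c' : K ⟶ Over.mk a'),
      IsAffineHom c'.left ∧ Flat c'.left ∧ Surjective c'.left ∧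
        Nonempty (BasedFunctor.comp (overMap c) q ≅ BasedFunctor.comp (overMap c') q') := by
  obtain ⟨t⟩ : Nonempty ↥(Over.mk a).left := inferInstanceAs (Nonempty (PrimeSpectrum k))
  obtain ⟨t'⟩ : Nonempty ↥(Over.mk a').left := inferInstanceAs (Nonempty (PrimeSpectrum k'))
  obtain ⟨W, b, b', w, -, -, ⟨β⟩⟩ := H14.Chart.Points.exists_of_ofChart_eq h
    (x := q) (y := q') (u := t) (v := t') (Subsingleton.elim _ _)
  let K : Over S := Over.mk (W.left.fromSpecResidueField w ≫ W.hom)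
  let r : K ⟶ W := Over.homMk (W.left.fromSpecResidueField w) rfl
  have hp := props_field_hom (k := k') (K := ↥(W.left.residueField w)) (r ≫ b').left
  exact ⟨K, r ≫ b, r ≫ b', hp.1, hp.2.1, hp.2.2,
    ⟨(BasedBasic.isoWhiskerRight (ChartLift.overMapComp r b) q).symm ≪≫
      BasedBasic.isoWhiskerLeft (overMap r) β ≪≫
        BasedBasic.isoWhiskerRight (ChartLift.overMapComp r b') q'⟩⟩

/-- If `g` is an isomorphism on the self-product of a field point, then its diagonal is an isomorphism. -/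
theorem isIsoAt_diag (h𝒳 : IsAlgStack Scheme.fppfPrecoverage 𝒳)
    (h𝒴 : IsAlgStack Scheme.fppfPrecoverage 𝒴) (hsub : Subsingleton (AlgSt.Points 𝒳))
    {k : Type u} [Field k] {a : Spec (CommRingCat.of k) ⟶ S} (q : overCat (Over.mk a) ⥤ᵇ 𝒳)
    (hE : IsEquivOver (selfMap g q))
    {k' : Type u} [Field k'] {a' : Spec (CommRingCat.of k') ⟶ S} {q' : overCat (Over.mk a') ⥤ᵇ 𝒳}
    (hp : RepByAlgSpWith (LocP @LocallyOfFinitePresentation) q')
    (hs : RepByAlgSpWith IsSurjectiveMor q') (hf : RepByAlgSpWith (LocP @Flat) q')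
    {T : Over S} (z : overCat T ⥤ᵇ fp g g) : IsIsoAt (diag g) z := by
  have : (diag g).toFunctor.Faithful := ⟨fun {x y φ ψ} e => congrArg (fun m => m.hom.fst) e⟩
  have hr : RepByAlgSp1 (diag g) :=
    SetoidalApps.repByAlgSp1_of_faithful h𝒳 (H14.Chart.Basic.isAlgStack_fp h𝒴 h𝒳 h𝒳 g g) (diag g)
  obtain ⟨T₁, s₁, hs₁, z₁, ⟨α₁⟩⟩ := H14.Sep.Cover.exists_lift hf hp hs (BasedFunctor.comp z (fpFst g g))
  obtain ⟨T₂, s₂, hs₂, z₂, ⟨β₂⟩⟩ := H14.Sep.Cover.exists_lift hf hp hs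
    (BasedFunctor.comp (vOf s₁) (BasedFunctor.comp z (fpSnd g g)))
  obtain ⟨u₀, ⟨η₁⟩⟩ := H14.Chart.Points.exists_iso_overMap z₁
  obtain ⟨v, ⟨η₂⟩⟩ := H14.Chart.Points.exists_iso_overMap z₂
  obtain ⟨K, c, c', hca, hcf, hcs, ⟨θ⟩⟩ := exists_common_field h𝒳.isStack.1 hsub q q'
  let u := s₂ ≫ u₀
  let A := pullback u c'
  let B := pullback (pullback.fst u c' ≫ v) c'
  let d₁ : A ⟶ T₂ := pullback.fst u c'
  let d₂ : B ⟶ A := pullback.fst (d₁ ≫ v) c'
  have sqA := (IsPullback.of_hasPullback u c').map (Over.forget S)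
  have sqB := (IsPullback.of_hasPullback (d₁ ≫ v) c').map (Over.forget S)
  have : IsAffineHom d₁.left := MorphismProperty.of_isPullback (P := @IsAffineHom) sqA.flip hca
  have : Flat d₁.left := MorphismProperty.of_isPullback (P := @Flat) sqA.flip hcf
  have : Surjective d₁.left := MorphismProperty.of_isPullback (P := @Surjective) sqA.flip hcs
  have : IsAffineHom d₂.left := MorphismProperty.of_isPullback (P := @IsAffineHom) sqB.flip hca
  have : Flat d₂.left := MorphismProperty.of_isPullback (P := @Flat) sqB.flip hcf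
  have : Surjective d₂.left := MorphismProperty.of_isPullback (P := @Surjective) sqB.flip hcs
  refine isIsoAt_descend hr z s₁ (fpqc_of_fppf hs₁) (isIsoAt_descend hr _ s₂ (fpqc_of_fppf hs₂)
    (isIsoAt_descend hr _ d₁ (AlgSpFpqc.Affine.isFpqcCover_single d₁)
      (isIsoAt_descend hr _ d₂ (AlgSpFpqc.Affine.isFpqcCover_single d₂) ?_)))
  let uK : B ⟶ Over.mk a := (d₂ ≫ pullback.snd u c') ≫ c
  let vK : B ⟶ Over.mk a := pullback.snd (d₁ ≫ v) c' ≫ c
  have e₁ : (d₂ ≫ pullback.snd u c') ≫ c' = ((d₂ ≫ d₁) ≫ s₂) ≫ u₀ := by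
    rw [Category.assoc, ← pullback.condition, Category.assoc, Category.assoc]
  have e₂ : pullback.snd (d₁ ≫ v) c' ≫ c' = (d₂ ≫ d₁) ≫ v := by
    rw [← pullback.condition, Category.assoc]
  let Z := BasedFunctor.comp (vOf d₂) (BasedFunctor.comp (vOf d₁) (BasedFunctor.comp (vOf s₂)
    (BasedFunctor.comp (vOf s₁) z)))
  let ζ₁ : BasedFunctor.comp Z (fpFst g g) ≅ BasedFunctor.comp (overMap uK) q :=
    BasedBasic.isoWhiskerLeft (vOf d₂) (BasedBasic.isoWhiskerLeft (vOf d₁)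
        (BasedBasic.isoWhiskerLeft (vOf s₂) (α₁ ≪≫ BasedBasic.isoWhiskerRight η₁ q'))) ≪≫
      BasedBasic.isoWhiskerRight (ChartLift.overMapComp d₂ d₁)
        (BasedFunctor.comp (overMap s₂) (BasedFunctor.comp (overMap u₀) q')) ≪≫
      BasedBasic.isoWhiskerRight (ChartLift.overMapComp (d₂ ≫ d₁) s₂) (BasedFunctor.comp (overMap u₀) q') ≪≫
      BasedBasic.isoWhiskerRight (ChartLift.overMapComp ((d₂ ≫ d₁) ≫ s₂) u₀) q' ≪≫
      eqToIso (by rw [e₁]) ≪≫
      (BasedBasic.isoWhiskerRight (ChartLift.overMapComp (d₂ ≫ pullback.snd u c') c') q').symm ≪≫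
      BasedBasic.isoWhiskerLeft (overMap (d₂ ≫ pullback.snd u c')) θ.symm ≪≫
      BasedBasic.isoWhiskerRight (ChartLift.overMapComp (d₂ ≫ pullback.snd u c') c) q
  let ζ₂ : BasedFunctor.comp Z (fpSnd g g) ≅ BasedFunctor.comp (overMap vK) q :=
    BasedBasic.isoWhiskerLeft (vOf d₂) (BasedBasic.isoWhiskerLeft (vOf d₁)
        (β₂ ≪≫ BasedBasic.isoWhiskerRight η₂ q')) ≪≫
      BasedBasic.isoWhiskerRight (ChartLift.overMapComp d₂ d₁) (BasedFunctor.comp (overMap v) q') ≪≫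
      BasedBasic.isoWhiskerRight (ChartLift.overMapComp (d₂ ≫ d₁) v) q' ≪≫
      eqToIso (by rw [e₂]) ≪≫
      (BasedBasic.isoWhiskerRight (ChartLift.overMapComp (pullback.snd (d₁ ≫ v) c') c') q').symm ≪≫
      BasedBasic.isoWhiskerLeft (overMap (pullback.snd (d₁ ≫ v) c')) θ.symm ≪≫
      BasedBasic.isoWhiskerRight (ChartLift.overMapComp (pullback.snd (d₁ ≫ v) c') c) q
  let φ : BasedFunctor.comp (overMap uK) (BasedFunctor.comp q g) ≅
      BasedFunctor.comp (overMap vK) (BasedFunctor.comp q g) :=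
    (BasedBasic.isoWhiskerRight ζ₁ g).symm ≪≫ BasedBasic.isoWhiskerLeft Z (fpIso g g) ≪≫
      BasedBasic.isoWhiskerRight ζ₂ g
  let w : overCat B ⥤ᵇ fp (BasedFunctor.comp q g) (BasedFunctor.comp q g) :=
    fpLift (overMap uK) (overMap vK) φ
  let Ζ : Z ≅ BasedFunctor.comp w (rho g q) :=
    Lib.Fibred.Slice.fpIsoMk ζ₁ ζ₂ fun o => by
      let A := Lib.Fibred.EquivOver.appIso ζ₁ o
      let C := Lib.Fibred.EquivOver.appIso ζ₂ o
      change g.map A.hom ≫ (g.map A.inv ≫ (Z.obj o).obj.iso.hom ≫ g.map C.hom) =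
        (Z.obj o).obj.iso.hom ≫ g.map C.hom
      rw [← Category.assoc, ← g.toFunctor.map_comp, Iso.hom_inv_id, g.toFunctor.map_id, Category.id_comp]
  exact isIsoAt_of_iso Ζ.symm (isIsoAt_of_factor q hE w)

/-- With an isomorphic diagonal, `g` is fully faithful. -/
theorem fullyFaithful (h𝒳 : IsAlgStack Scheme.fppfPrecoverage 𝒳)
    (h𝒴 : IsAlgStack Scheme.fppfPrecoverage 𝒴)
    (H : ∀ (T : Over S) (z : overCat T ⥤ᵇ fp g g), IsIsoAt (diag g) z) :
    g.toFunctor.Full ∧ g.toFunctor.Faithful := by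
  have hX := h𝒳.isStack.1
  have hY := h𝒴.isStack.1
  have hP := FibProd.isFibGrpd_fp (F := g) (G := g) hX hX hY
  have hequiv : ∀ (T : Over S) (z : overCat T ⥤ᵇ fp g g), IsEquivOver (fpFst z (diag g)) := by
    intro T z
    obtain ⟨G, e, he, hγ⟩ := H T z
    exact BasedBasic.IsEquivOver.of_comp_left he (BasedBasic.IsEquivOver.of_iso
      (BasedBasic.IsEquivOver.comp (Space.isEquivOver_ofSpMap _) (AlgStack.Rep.isEquivOver_toOverCat T))
      (AlgStack.Rep.isoSpMapOfOver (BasedFunctor.comp e (fpFst z (diag g)))).symm)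
  -- vertical morphisms
  have full_vertical : ∀ (x y : 𝒳.obj) (ψ : g.obj x ⟶ g.obj y), 𝒳.p.obj y = 𝒳.p.obj x →
      𝒴.p.IsHomLift (𝟙 (𝒳.p.obj x)) ψ → ∃ θ : x ⟶ y, g.map θ = ψ := by
    intro x y ψ hy hψ
    have := BasedBasic.isIso_of_isHomLift_id hY (R := 𝒳.p.obj x) ψ
    let o : (fp g g).obj := Lib.Fibred.Fp.mkObj x y (asIso ψ) hψ
    have ho : (fp g g).p.obj o = 𝒳.p.obj x := rfl
    let z := Yoneda.fromObj hP ho
    obtain ⟨ε, -⟩ := Yoneda.exists_fromObj_iso hP ho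
    obtain ⟨η, δ, -⟩ := BasedBasic.IsEquivOver.exists_iso (hequiv _ z) (Over.mk (𝟙 (𝒳.p.obj x)))
    let i : (diag g).obj η.obj.snd ≅ o :=
      η.obj.iso.symm ≪≫ z.toFunctor.mapIso δ ≪≫ ε
    let i₁ : η.obj.snd ≅ x := (fpFst g g).toFunctor.mapIso i
    let i₂ : η.obj.snd ≅ y := (fpSnd g g).toFunctor.mapIso i
    have w : g.map i₁.hom ≫ ψ = 𝟙 _ ≫ g.map i₂.hom := Lib.Fibred.Fp.w i.hom
    refine ⟨i₁.inv ≫ i₂.hom, ?_⟩
    rw [Category.id_comp] at w
    rw [g.toFunctor.map_comp, ← w, ← Category.assoc, ← g.toFunctor.map_comp, Iso.inv_hom_id,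
      g.toFunctor.map_id, Category.id_comp]
  have hfa : g.toFunctor.Faithful := by
    refine Lib.Fibred.StackLocal.faithful_of_vertical g hX hY fun x θ hθ hgθ => ?_
    let T := 𝒳.p.obj x
    have := hθ
    have := BasedBasic.isIso_of_isHomLift_id hX (R := T) θ
    let D : (fp g g).obj := (diag g).obj x
    have hD : (fp g g).p.obj D = T := rfl
    let z := Yoneda.fromObj hP hD
    obtain ⟨ε, hε⟩ := Yoneda.exists_fromObj_iso hP hD
    let i : D ≅ D := Lib.Fibred.Fp.isoMk (Iso.refl x) (asIso θ) (by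
      change g.map (𝟙 x) ≫ 𝟙 _ = 𝟙 _ ≫ g.map θ
      rw [hgθ, g.toFunctor.map_id])
    have hi : (fp g g).p.IsHomLift (𝟙 T) i.hom :=
      (Lib.Fibred.Fp.isHomLift_iff _ _).2 (IsHomLift.id rfl)
    have hi' : (fp g g).p.IsHomLift (𝟙 T) (ε ≪≫ i).hom := by
      change (fp g g).p.IsHomLift (𝟙 T) (ε.hom ≫ i.hom)
      exact inferInstance
    let η : (fp z (diag g)).obj := Lib.Fibred.Fp.mkObj (Over.mk (𝟙 T)) x ε hε
    let η' : (fp z (diag g)).obj := Lib.Fibred.Fp.mkObj (Over.mk (𝟙 T)) x (ε ≪≫ i) hi'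
    have := BasedBasic.IsEquivOver.full (hequiv T z)
    obtain ⟨m, hm⟩ := (fpFst z (diag g)).toFunctor.map_surjective (X := η) (Y := η') (𝟙 _)
    have hm' : m.hom.fst = 𝟙 _ := hm
    have w := Lib.Fibred.Fp.w m
    have w' : z.map m.hom.fst ≫ (ε.hom ≫ i.hom) = ε.hom ≫ (diag g).map m.hom.snd := w
    rw [hm', z.toFunctor.map_id, Category.id_comp, cancel_epi] at w'
    have h1 : 𝟙 x = m.hom.snd := congrArg (fun k => k.hom.fst) w'
    have h2 : θ = m.hom.snd := congrArg (fun k => k.hom.snd) w'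
    rw [h2, ← h1]
  refine ⟨⟨fun {x y} ψ => ?_⟩, hfa⟩
  let s : 𝒳.p.obj x ⟶ 𝒳.p.obj y :=
    eqToHom (g.w_obj x).symm ≫ 𝒴.p.map ψ ≫ eqToHom (g.w_obj y)
  have hψ : 𝒴.p.IsHomLift s ψ := IsHomLift.of_fac 𝒴.p s ψ (g.w_obj x) (g.w_obj y) (by simp [s])
  obtain ⟨y', φ, hφ⟩ := Fibred.Descent.exists_lift hX (rfl : 𝒳.p.obj y = _) s
  obtain ⟨ν, hν, hνψ⟩ := Fibred.Descent.exists_factor hY (g.map φ) inferInstance ψ hψ
  obtain ⟨θ, hθ⟩ := full_vertical x y' ν (IsHomLift.domain_eq 𝒳.p s φ) hν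
  exact ⟨θ ≫ φ, by rw [g.toFunctor.map_comp, hθ, hνψ]⟩

end Groth.Agent.Lib.Gerbe.ResMap
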