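import Groth.Agent.Lib.Gerbe.Rigid1
import Groth.Agent.Lib.Gerbe.Criterion
import Groth.Agent.Lib.Gerbe.ResMap
import Groth.Agent.H14.Chart.QC2
import Groth.Agent.H14.Chart.SmLocal
import Groth.Agent.S13004
import Groth.Agent.S13007
import Groth.Agent.S13038

/-!
Flat inertia makes the self-product over the isomorphism classes a flat algebraic stack.
-/

set_option autoImplicit false
set_option backward.isDefEq.respectTransparency false
set_option backward.isDefEq.respectTransparency.types false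

universe u

open CategoryTheory CategoryTheory.Limits AlgebraicGeometry Opposite

namespace Groth.Agent.Lib.Gerbe.Rigid

open Groth.Agent.Lib.AlgStack
open Groth.Agent.Lib.SourceDescent.Scheme (EtaleLocalST)
open FibCat (IsEquivOver IsFibGrpd fp fpFst fpSnd fpLift fpIso overCat toSelf inertia inertiaToBase diag selfOver)
open AlgSt (ofSp RepByAlgSp1 RepByAlgSpWith IsAlgStack fullSub subIncl)
open AlgSp (Sp IsAlgSpace LocP RepWith IsSurjectiveMor)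

variable {S : Scheme.{u}} {𝒳 : AlgSt.Cat S}

/-- The inertia as the self-product of the diagonal. -/
def toDD : inertia (toSelf 𝒳) ⥤ᵇ fp (diag (toSelf 𝒳)) (diag (toSelf 𝒳)) :=
  fpLift (inertiaToBase (toSelf 𝒳)) (inertiaToBase (toSelf 𝒳))
    (BasedNatIso.mkNatIso (NatIso.ofComponents
      (fun z => Lib.Fibred.Fp.isoMk z.aut (Iso.refl z.pt) (by
        change 𝒳.p.map z.aut.hom ≫ 𝟙 _ = 𝟙 _ ≫ 𝒳.p.map (𝟙 z.pt)
        have h1 : 𝒳.p.map z.aut.hom = 𝟙 _ := z.map_aut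
        rw [h1, 𝒳.p.map_id]))
      (fun m => Lib.Fibred.Fp.hom_ext m.comm.symm ((Category.comp_id _).trans (Category.id_comp _).symm)))
      (fun z => (Lib.Fibred.Fp.isHomLift_iff _ _).2 (IsHomLift.of_fac' _ _ _ rfl rfl (by
        change 𝒳.p.map z.aut.hom = 𝟙 _ ≫ 𝟙 _ ≫ 𝟙 _
        have h1 : 𝒳.p.map z.aut.hom = 𝟙 _ := z.map_aut
        rw [h1, Category.id_comp, Category.id_comp]))))

theorem isEquivOver_toDD (h : IsFibGrpd 𝒳.p) : IsEquivOver (toDD (𝒳 := 𝒳)) := by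
  have hfa : (toDD (𝒳 := 𝒳)).toFunctor.Faithful :=
    ⟨fun {a b m m'} e => FibCat.InertiaObj.hom_ext (congrArg (fun k => k.hom.fst) e)⟩
  have hfu : (toDD (𝒳 := 𝒳)).toFunctor.Full := ⟨fun {a b} m => by
    have w := Lib.Fibred.Fp.w m
    have w1 : m.hom.fst ≫ b.aut.hom = a.aut.hom ≫ m.hom.snd := congrArg (fun k => k.hom.fst) w
    have w2 : m.hom.fst ≫ 𝟙 _ = 𝟙 _ ≫ m.hom.snd := congrArg (fun k => k.hom.snd) w
    have w3 : m.hom.fst = m.hom.snd := (Category.comp_id _).symm.trans (w2.trans (Category.id_comp _))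
    refine ⟨⟨m.hom.fst, ?_⟩, Lib.Fibred.Fp.hom_ext rfl w3⟩
    rw [w1, w3]⟩
  refine BasedBasic.isEquivOver_of _ fun η => ?_
  let x := η.obj.fst
  let y := η.obj.snd
  let T := 𝒳.p.obj x
  let i₁ : x ≅ y := (fpFst (toSelf 𝒳) (toSelf 𝒳)).toFunctor.mapIso η.obj.iso
  let i₂ : x ≅ y := (fpSnd (toSelf 𝒳) (toSelf 𝒳)).toFunctor.mapIso η.obj.iso
  have hη : (fp (toSelf 𝒳) (toSelf 𝒳)).p.IsHomLift (𝟙 T) η.obj.iso.hom := η.property
  have h1 : 𝒳.p.IsHomLift (𝟙 T) i₁.hom := BasedFunctor.preserves_isHomLift (fpFst (toSelf 𝒳) (toSelf 𝒳)) _ _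
  have h2 : 𝒳.p.IsHomLift (𝟙 T) i₂.hom := BasedFunctor.preserves_isHomLift (fpSnd (toSelf 𝒳) (toSelf 𝒳)) _ _
  have h3 : 𝒳.p.IsHomLift (𝟙 T) i₂.inv := IsHomLift.lift_id_inv 𝒳.p T i₂
  have h4 : 𝒳.p.IsHomLift (𝟙 T) (i₁ ≪≫ i₂.symm).hom := by
    change 𝒳.p.IsHomLift (𝟙 T) (i₁.hom ≫ i₂.inv)
    exact inferInstance
  let o : (inertia (toSelf 𝒳)).obj := ⟨x, i₁ ≪≫ i₂.symm, by
    change 𝒳.p.map (i₁ ≪≫ i₂.symm).hom = 𝟙 _
    have := IsHomLift.fac' 𝒳.p (𝟙 T) (i₁ ≪≫ i₂.symm).hom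
    simpa using this⟩
  refine ⟨o, Lib.Fibred.Fp.isoMk (Iso.refl x) i₂ ?_, ?_⟩
  · refine Lib.Fibred.Fp.hom_ext ?_ ?_
    · change 𝟙 x ≫ i₁.hom = (i₁.hom ≫ i₂.inv) ≫ i₂.hom
      rw [Category.id_comp, Category.assoc, Iso.inv_hom_id, Category.comp_id]
    · change 𝟙 x ≫ i₂.hom = 𝟙 x ≫ i₂.hom
      rfl
  · exact (Lib.Fibred.Fp.isHomLift_iff _ _).2 (IsHomLift.id rfl)

/-- An isomorphism of spaces has every local property holding for isomorphisms. -/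
theorem rep_locP_of_iso {P : MorphismProperty Scheme.{u}} (hP : EtaleLocalST P)
    (hiso : ∀ {A B : Scheme.{u}} (f : A ⟶ B) [IsIso f], P f) {𝒴 : AlgSt.Cat S} {f : 𝒳 ⥤ᵇ 𝒴}
    (hf : IsEquivOver f) : RepByAlgSpWith (LocP P) f :=
  AlgStack.Rep.repByAlgSpWith_mono (ResMap.rep_iso_of_isEquivOver hf) fun _ _ a _ _ (ha : IsIso a) =>
    AlgSpMor.LocP.locP_of_repWith hP (Lib.AlgSpace.repWith_mono ((AlgSpFpqc.Classes.isIso_iff_repWith a).1 ha)
      fun _ _ g (hg : IsIso g) => hiso g)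

variable (h𝒳 : IsAlgStack Scheme.fppfPrecoverage 𝒳)

include h𝒳 in
/-- The self-product of the chart composed with the diagonal inherits the properties of the inertia. -/
theorem rep_fpFst_chart {P : MorphismProperty Scheme.{u}} [P.IsStableUnderComposition] (hP : EtaleLocalST P)
    (hST : AlgSp.IsSmoothLocalST (LocP P : MorphismProperty (Sp S)))
    (hI : AlgSt.LocQ (LocP P) (inertiaToBase (toSelf 𝒳))) {U : Over S} {a : overCat U ⥤ᵇ 𝒳}
    (ha : RepByAlgSpWith (LocP P) a) :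
    RepByAlgSpWith (LocP P)
      (fpFst (BasedFunctor.comp a (diag (toSelf 𝒳))) (BasedFunctor.comp a (diag (toSelf 𝒳)))) := by
  let Δ := diag (toSelf 𝒳)
  let w := BasedFunctor.comp a Δ
  have hb : H14.Sep.SpProps.StableBC (LocP P (S := S)) := H14.Sep.SpProps.stableBC_locP hP
  have hPP := H14.Chart.Basic.isAlgStack_fp H14.Chart.QC2.isAlgStack_selfOver h𝒳 h𝒳 (toSelf 𝒳) (toSelf 𝒳)
  have hDD := H14.Chart.Basic.isAlgStack_fp hPP h𝒳 h𝒳 Δ Δ
  obtain ⟨i, hi, -, -⟩ := BasedBasic.IsEquivOver.exists_inverse (isEquivOver_toDD h𝒳.isStack.1)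
  have hA := IsAlg.isAlgStack_of_isEquivOver hi hDD
  have hr : RepByAlgSp1 (inertiaToBase (toSelf 𝒳)) :=
    (AlgStack.Rep.repByAlgSp1_iff_of_isEquivOver (f := fpFst Δ Δ) (f' := inertiaToBase (toSelf 𝒳))
      (isEquivOver_toDD h𝒳.isStack.1) BasedBasic.isEquivOver_id (Iso.refl _)).1
      (AlgStack.Rep.repByAlgSp1_fpFst Δ h𝒳.diag)
  have hD : RepByAlgSpWith (LocP P) (fpFst Δ Δ) :=
    (AlgStack.Rep.repByAlgSpWith_iff_of_isEquivOver (f := fpFst Δ Δ) (f' := inertiaToBase (toSelf 𝒳))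
      (isEquivOver_toDD h𝒳.isStack.1) BasedBasic.isEquivOver_id (Iso.refl _)).2
      (H14.Chart.LocQ.repByAlgSpWith_of_locQ hST hb hA h𝒳 hr hI)
  have h1 : RepByAlgSpWith (LocP P) (fpFst w Δ) :=
    (AlgStack.Rep.repByAlgSpWith_iff_of_isEquivOver (f := fpFst w Δ) (f' := fpFst a (fpFst Δ Δ))
      (AlgStack.Rep.isEquivOver_pasteBase a Δ Δ) BasedBasic.isEquivOver_id
      (eqToIso (AlgStack.Rep.pasteBase_fst a Δ Δ).symm)).2 (AlgStack.Rep.repByAlgSpWith_fpFst a hD)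
  have hU := Yoneda.isFibGrpd_overCat U
  have hP2 := FibProd.isFibGrpd_fp (F := w) (G := Δ) hU h𝒳.isStack.1 hPP.isStack.1
  have hP3 := FibProd.isFibGrpd_fp (F := fpSnd w Δ) (G := a) hP2 hU h𝒳.isStack.1
  exact (AlgStack.Rep.repByAlgSpWith_iff_of_isEquivOver (f := fpFst w w)
    (f' := BasedFunctor.comp (fpFst (fpSnd w Δ) a) (fpFst w Δ))
    (AlgStack.Rep.isEquivOver_pasteComp w Δ a) BasedBasic.isEquivOver_id
    (eqToIso (AlgStack.Rep.pasteComp_fst w Δ a).symm)).2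
    (IsAlgFp.comp_locP hP hP3 hP2 (AlgStack.Rep.repByAlgSpWith_fpFst (fpSnd w Δ) ha) h1)

variable (hI₁ : AlgSt.LocQ (LocP @Flat) (inertiaToBase (toSelf 𝒳)))
  (hI₂ : AlgSt.LocQ (LocP @LocallyOfFinitePresentation) (inertiaToBase (toSelf 𝒳)))

include hI₁ hI₂ in
/-- The self-product over the isomorphism classes: an algebraic stack, flat and lfp over each factor. -/
theorem self_product :
    IsAlgStack Scheme.fppfPrecoverage (fp (proj h𝒳.isStack.1) (proj h𝒳.isStack.1)) ∧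
      AlgSt.LocQ (LocP @Flat) (fpFst (proj h𝒳.isStack.1) (proj h𝒳.isStack.1)) ∧
      AlgSt.LocQ (LocP @LocallyOfFinitePresentation) (fpFst (proj h𝒳.isStack.1) (proj h𝒳.isStack.1)) := by
  have h := h𝒳.isStack.1
  obtain ⟨U, a, ha, has⟩ := h𝒳.atlas
  have haf := SliceEtale.flat_of_smooth ha
  have hap := SliceEtale.lfp_of_smooth ha
  have eF := SourceDescent.Scheme.flat.{u}
  have eP := SourceDescent.Scheme.locallyOfFinitePresentation.{u}
  have hSF := H14.Chart.SmLocal.isSmoothLocalST_flat (S := S)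
  have hSP := H14.Chart.SmLocal.isSmoothLocalST_lfp (S := S)
  let Δ := diag (toSelf 𝒳)
  let w := BasedFunctor.comp a Δ
  let π := proj h
  let PP := fp (toSelf 𝒳) (toSelf 𝒳)
  have hPP : IsAlgStack Scheme.fppfPrecoverage PP :=
    H14.Chart.Basic.isAlgStack_fp H14.Chart.QC2.isAlgStack_selfOver h𝒳 h𝒳 (toSelf 𝒳) (toSelf 𝒳)
  obtain ⟨-, hA, -, w', ⟨ω⟩, hwp, hws, hwf⟩ := ImageStack.main (w := w) hPP
    (rep_fpFst_chart h𝒳 eF hSF hI₁ haf) (rep_fpFst_chart h𝒳 eP hSP hI₂ hap)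
  let F : fp π π ⥤ᵇ PP :=
    fpLift (fpFst π π) (fpSnd π π) (BasedBasic.isoWhiskerRight (fpIso π π) (toSelf (ofSp (base h))))
  have hF : ∀ o, ImageStack.image w (F.obj o) := fun o => by
    have hb := locSurjHom_proj h o.obj.fst o.obj.snd o.obj.iso.hom o.property
    obtain ⟨R, hR, hl⟩ := hb
    refine (AlgSp.J S).transitive hR _ fun V f hf => ?_
    obtain ⟨z, φ, θ, hφ, hθ, e⟩ := hl f hf
    have hz : 𝒳.p.obj z = V := IsHomLift.domain_eq 𝒳.p f φ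
    have hlo := Criterion.locSurjObj_of_rep (Yoneda.isFibGrpd_overCat U) h haf hap has
    refine (AlgSp.J S).superset_covering ?_
      (Formal.objSieve_mem (AlgSp.J S) hlo (Yoneda.isFibGrpd_overCat U) hz)
    rintro V' k ⟨g, m, hm⟩
    have h1 : 𝒳.p.IsHomLift (k ≫ f) (m ≫ φ) := inferInstance
    have e' : 𝒳.p.map φ ≫ (ofSp (base h)).p.map o.obj.iso.hom = 𝒳.p.map θ :=
      ((ofSp (base h)).p.map_comp _ _).symm.trans (congrArg (ofSp (base h)).p.map e)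
    refine ⟨g, Lib.Fibred.Fp.mkHom (z := w.obj g) (w := F.obj o) (m ≫ φ) (m ≫ θ) ?_,
      (Lib.Fibred.Fp.isHomLift_iff _ _).2 h1⟩
    change 𝒳.p.map (m ≫ φ) ≫ (ofSp (base h)).p.map o.obj.iso.hom = 𝟙 _ ≫ 𝒳.p.map (m ≫ θ)
    rw [𝒳.p.map_comp, 𝒳.p.map_comp, Category.assoc, e', Category.id_comp]
  let E : fp π π ⥤ᵇ fullSub PP (ImageStack.image w) :=
    { toFunctor := ObjectProperty.lift _ F.toFunctor hF
      w := F.w }
  have hfa : E.toFunctor.Faithful := ⟨fun {x y m m'} e =>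
    Lib.Fibred.Fp.hom_ext (congrArg (fun k => k.hom.hom.fst) e) (congrArg (fun k => k.hom.hom.snd) e)⟩
  have hfu : E.toFunctor.Full := ⟨fun {x y} m =>
    ⟨Lib.Fibred.Fp.mkHom (F := π) (G := π) m.hom.hom.fst m.hom.hom.snd
      (Stk.EltObj.hom_ext (Lib.Fibred.Fp.w m.hom)),
      ObjectProperty.hom_ext _ (Lib.Fibred.Fp.hom_ext rfl rfl)⟩⟩
  have hE : IsEquivOver E := by
    refine BasedBasic.isEquivOver_of E fun η => ?_
    obtain ⟨η, hη⟩ := η
    let x := η.obj.fst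
    let y := η.obj.snd
    have hy : 𝒳.p.obj y = 𝒳.p.obj x := FibProd.snd_obj η
    have hcls : cls h x rfl = cls h y hy := by
      refine cls_eq_of_locally h rfl hy hη fun V f hf => ?_
      obtain ⟨g, m, hm⟩ := hf
      exact ⟨a.obj g, m.hom.fst, m.hom.snd, BasedFunctor.preserves_isHomLift (fpFst (toSelf 𝒳) (toSelf 𝒳)) _ m,
        BasedFunctor.preserves_isHomLift (fpSnd (toSelf 𝒳) (toSelf 𝒳)) _ m⟩
    obtain ⟨ψ, hψ⟩ := exists_proj_iso h hy hcls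
    refine ⟨Lib.Fibred.Fp.mkObj x y ψ hψ, ObjectProperty.isoMk _
      (Lib.Fibred.Fp.isoMk (Iso.refl x) (Iso.refl y) ?_), ?_⟩
    · change 𝒳.p.map (𝟙 x) ≫ η.obj.iso.hom = (ofSp (base h)).p.map ψ.hom ≫ 𝒳.p.map (𝟙 y)
      have h1 : (selfOver (Over S)).p.IsHomLift (𝟙 (𝒳.p.obj x)) η.obj.iso.hom := η.property
      have h2 := IsHomLift.fac' (selfOver (Over S)).p (𝟙 (𝒳.p.obj x)) η.obj.iso.hom
      have h3 := IsHomLift.fac' (ofSp (base h)).p (𝟙 (𝒳.p.obj x)) ψ.hom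
      rw [𝒳.p.map_id, 𝒳.p.map_id, Category.id_comp, h3]
      refine Eq.trans ?_ (Category.comp_id _).symm
      exact h2.trans rfl
    · refine IsHomLift.of_fac' _ _ _ rfl rfl ?_
      simp
      exact 𝒳.p.map_id x
  obtain ⟨i, hi, -, -⟩ := BasedBasic.IsEquivOver.exists_inverse hE
  have hK := IsAlg.isAlgStack_of_isEquivOver hi hA
  let g := BasedFunctor.comp (subIncl PP (ImageStack.image w)) (fpFst (toSelf 𝒳) (toSelf 𝒳))
  let υ : a ≅ BasedFunctor.comp w' g :=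
    (BasedBasic.isoWhiskerRight ω (fpFst (toSelf 𝒳) (toSelf 𝒳))).symm
  have hUs := H14.Chart.Basic.isAlgStack_overCat U
  have hsurj := H14.Chart.Points.isSurjective_of_rep hA.isStack.1 hws
  have hqf := H14.Chart.LocQ.locQ_of_repByAlgSpWith hSF.precomp hUs hA hwf
  have hqp := H14.Chart.LocQ.locQ_of_repByAlgSpWith hSP.precomp hUs hA hwp
  have hgf : AlgSt.LocQ (LocP @Flat) g := Groth.Agent.S13004.result S _ _ _ hUs hA h𝒳 w' g hqf hsurj
    (PointStack.locQ_of_iso υ (H14.Chart.LocQ.locQ_of_repByAlgSpWith hSF.precomp hUs h𝒳 haf))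
  have hgp : AlgSt.LocQ (LocP @LocallyOfFinitePresentation) g :=
    Groth.Agent.S13007.result S _ _ _ hUs hA h𝒳 w' g hqf hqp hsurj
      (PointStack.locQ_of_iso υ (H14.Chart.LocQ.locQ_of_repByAlgSpWith hSP.precomp hUs h𝒳 hap))
  refine ⟨hK, ?_, ?_⟩
  · exact Groth.Agent.S13038.result S _ hSF (fun _ _ _ hA hB hC _ _ ha hb => AlgSpMor.LocP.locP_comp eF hA hB hC ha hb)
      _ _ _ hK hA h𝒳 E g (H14.Chart.LocQ.locQ_of_repByAlgSpWith hSF.precomp hK hA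
        (rep_locP_of_iso eF (fun f _ => inferInstance) hE)) hgf
  · exact Groth.Agent.S13038.result S _ hSP (fun _ _ _ hA hB hC _ _ ha hb => AlgSpMor.LocP.locP_comp eP hA hB hC ha hb)
      _ _ _ hK hA h𝒳 E g (H14.Chart.LocQ.locQ_of_repByAlgSpWith hSP.precomp hK hA
        (rep_locP_of_iso eP (fun f _ => inferInstance) hE)) hgp

end Groth.Agent.Lib.Gerbe.Rigid
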