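import Groth.Agent.Lib.AlgStack.SliceArrows
import Groth.Agent.Lib.Bootstrap.Good
import Groth.Agent.Lib.Gerbe.Rigid2
import Groth.Agent.H14.Chart.Basic

/-!
Quasi-finiteness of a morphism to a scheme at a point of a stack.
-/

set_option autoImplicit false
set_option backward.isDefEq.respectTransparency false
set_option backward.isDefEq.respectTransparency.types false

universe u

open CategoryTheory CategoryTheory.Limits AlgebraicGeometry

namespace Groth.Agent.Lib.Gerbe.QF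

open Groth.Agent.Lib.AlgStack
open FibCat (IsEquivOver IsFibGrpd fp fpFst fpSnd fpLift fpIso overCat)
open AlgSt (ofSp ofSpMap overMap RepByAlgSp1 RepByAlgSpWith)
open AlgSp (Sp yon LocP RepWith IsEtaleMor)

variable {X Y X' Y' : Scheme.{u}}

theorem qfAt_iff (f : X ⟶ Y) [LocallyOfFiniteType f] (x : X) :
    f.QuasiFiniteAt x ↔ ∃ N : Set X, IsOpen N ∧ x ∈ N ∧ ∀ z ∈ N, f z = f x → z = x := by
  rw [Scheme.Hom.quasiFiniteAt_iff_isOpen_singleton_asFiber, ← (f.fiberHomeo (f x)).isOpen_image]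
  simp only [Set.image_singleton, Scheme.Hom.asFiber, Homeomorph.apply_symm_apply]
  rw [isOpen_induced_iff]
  constructor
  · rintro ⟨N, hN, e⟩
    refine ⟨N, hN, ?_, fun z hz hzx => ?_⟩
    · have : (⟨x, rfl⟩ : f ⁻¹' {f x}) ∈ (Subtype.val ⁻¹' N : Set (f ⁻¹' {f x})) := e ▸ rfl
      exact this
    · have : (⟨z, hzx⟩ : f ⁻¹' {f x}) ∈ (Subtype.val ⁻¹' N : Set (f ⁻¹' {f x})) := hz
      rw [e] at this
      exact congrArg Subtype.val this
  · rintro ⟨N, hN, hx, h⟩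
    refine ⟨N, hN, Set.ext fun ⟨z, hz⟩ => ⟨fun hzN => Subtype.ext (h z hzN hz), fun e => ?_⟩⟩
    rw [Set.mem_singleton_iff.1 e]
    exact hx

theorem qfAt_etale_comp_iff (a : X' ⟶ X) [Etale a] (f : X ⟶ Y) [LocallyOfFiniteType f] (x : X') :
    (a ≫ f).QuasiFiniteAt x ↔ f.QuasiFiniteAt (a x) := by
  rw [qfAt_iff, qfAt_iff]
  constructor
  · rintro ⟨N, hN, hx, h⟩
    refine ⟨a '' N, a.isOpenMap _ hN, ⟨x, hx, rfl⟩, ?_⟩
    rintro _ ⟨z, hz, rfl⟩ e
    rw [h z hz e]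
  · rintro ⟨N, hN, hx, h⟩
    have := SourceDescent.Scheme.locallyQuasiFinite_of_etale a
    obtain ⟨M, hM, hxM, hM'⟩ := (qfAt_iff a x).1 (a.quasiFiniteAt x)
    exact ⟨M ∩ a ⁻¹' N, hM.inter (hN.preimage a.continuous), ⟨hxM, hx⟩,
      fun z hz e => hM' z hz.1 (h _ hz.2 e)⟩

theorem qfAt_iff_of_isPullback {g : X' ⟶ X} {f' : X' ⟶ Y'} {f : X ⟶ Y} {h : Y' ⟶ Y}
    (sq : IsPullback g f' f h) [LocallyOfFiniteType f] (x : X') :
    f'.QuasiFiniteAt x ↔ f.QuasiFiniteAt (g x) := by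
  have hlft : LocallyOfFiniteType f' := MorphismProperty.of_isPullback sq inferInstance
  constructor
  · intro hx
    let m : f'.fiber (f' x) ⟶ f.fiber (h (f' x)) :=
      pullback.map _ _ _ _ g (Spec.map (h.residueFieldMap (f' x))) h sq.w.symm (by simp)
    have sqF := isPullback_fiberToSpecResidueField_of_isPullback sq (f' x)
    have : UniversallyOpen m := MorphismProperty.of_isPullback (P := @UniversallyOpen) sqF.flip
      (inferInstance : UniversallyOpen (Spec.map (h.residueFieldMap (f' x))))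
    have hopen := m.isOpenMap _ (Scheme.Hom.quasiFiniteAt_iff_isOpen_singleton_asFiber.1 hx)
    rw [Set.image_singleton] at hopen
    have hm : f.fiberι (h (f' x)) (m (f'.asFiber x)) = g x := by
      have hmι : m ≫ f.fiberι (h (f' x)) = f'.fiberι (f' x) ≫ g := pullback.lift_fst _ _ _
      rw [← Scheme.Hom.comp_apply, hmι, Scheme.Hom.comp_apply, Scheme.Hom.fiberι_asFiber]
    have := Bootstrap.quasiFiniteAt_of_isOpen_singleton f _ _ hopen
    rwa [hm] at this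
  · intro hx
    let O : X.Opens := f.quasiFiniteLocus
    have : LocallyQuasiFinite (O.ι ≫ f) := by
      rw [← Scheme.Hom.quasiFiniteLocus_eq_top_iff]
      exact top_le_iff.1 fun z _ => Scheme.Hom.quasiFiniteAt_comp_iff_of_isOpenImmersion.2 z.2
    have sq' := (isPullback_morphismRestrict g O).paste_vert sq
    have : LocallyQuasiFinite ((g ⁻¹ᵁ O).ι ≫ f') :=
      MorphismProperty.of_isPullback sq' ‹LocallyQuasiFinite (O.ι ≫ f)›
    have hxO : x ∈ g ⁻¹ᵁ O := hx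
    let x₀ : ((g ⁻¹ᵁ O) : Scheme.{u}) := (⟨x, hxO⟩ : (g ⁻¹ᵁ O))
    have h1 : ((g ⁻¹ᵁ O).ι ≫ f').QuasiFiniteAt x₀ := Scheme.Hom.quasiFiniteAt _ x₀
    exact (Scheme.Hom.quasiFiniteAt_comp_iff_of_isOpenImmersion (f := (g ⁻¹ᵁ O).ι) (g := f') (x := x₀)).1 h1

variable {S : Scheme.{u}} {𝒜 ℬ : AlgSt.Cat S} {T : Over S}

/-- `f` is quasi-finite at the point `q`. -/
def QFAt (f : 𝒜 ⥤ᵇ overCat T) (q : AlgSt.Points 𝒜) : Prop :=
  ∃ (E : Over S) (c : overCat E ⥤ᵇ 𝒜) (m : E ⟶ T) (e : ↥E.left),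
    RepByAlgSpWith IsEtaleMor c ∧ AlgSt.Points.ofChart c e = q ∧
    Nonempty (BasedFunctor.comp c f ≅ overMap m) ∧ LocallyOfFiniteType m.left ∧ m.left.QuasiFiniteAt e

/-- Two étale charts of the same point have a common refinement. -/
theorem exists_square (h𝒜 : IsFibGrpd 𝒜.p) {E E' : Over S} {c : overCat E ⥤ᵇ 𝒜} {c' : overCat E' ⥤ᵇ 𝒜}
    (hc : RepByAlgSpWith IsEtaleMor c) (hc' : RepByAlgSpWith IsEtaleMor c') {e : ↥E.left} {e' : ↥E'.left}
    (h : AlgSt.Points.ofChart c e = AlgSt.Points.ofChart c' e') :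
    ∃ (W : Over S) (a : W ⟶ E) (b : W ⟶ E') (w : ↥W.left), Etale a.left ∧ Etale b.left ∧
      a.left w = e ∧ b.left w = e' ∧
      Nonempty (BasedFunctor.comp (overMap a) c ≅ BasedFunctor.comp (overMap b) c') := by
  obtain ⟨W, a, b, k, -, hks, ⟨ea⟩, ⟨eb⟩, ha, -, -, hb, -, -⟩ :=
    ChartLift.exists_chart h𝒜 c (Rep.repByAlgSp1_of_repByAlgSpWith hc')
  obtain ⟨W', q₁, q₂, w', rfl, rfl, ⟨ι⟩⟩ := H14.Chart.Points.exists_of_ofChart_eq h𝒜 h
  obtain ⟨w, hw₁, hw₂⟩ := ChartLift.exists_point h𝒜 hks ea eb q₁ q₂ ι w'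
  exact ⟨W, a, b, w, ha hc', hb hc, hw₁, hw₂, ⟨BasedBasic.isoWhiskerRight ea.symm c ≪≫
    BasedBasic.isoWhiskerLeft k (fpIso c c') ≪≫ BasedBasic.isoWhiskerRight eb c'⟩⟩

/-- Quasi-finiteness at a point is read on any étale chart. -/
theorem QFAt.qf (h𝒜 : IsFibGrpd 𝒜.p) {f : 𝒜 ⥤ᵇ overCat T} {q : AlgSt.Points 𝒜} (h : QFAt f q)
    {E : Over S} {c : overCat E ⥤ᵇ 𝒜} (hc : RepByAlgSpWith IsEtaleMor c) {m : E ⟶ T}
    [LocallyOfFiniteType m.left] (ι : BasedFunctor.comp c f ≅ overMap m) {e : ↥E.left}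
    (he : AlgSt.Points.ofChart c e = q) : m.left.QuasiFiniteAt e := by
  obtain ⟨E', c', m', e', hc', he', ⟨ι'⟩, hm', hqf⟩ := h
  obtain ⟨W, a, b, w, ha, hb, rfl, rfl, ⟨σ⟩⟩ := exists_square h𝒜 hc hc' (he.trans he'.symm)
  have h1 : a ≫ m = b ≫ m' := ChartLift.eq_of_iso ((ChartLift.overMapComp a m).symm ≪≫
    BasedBasic.isoWhiskerLeft (overMap a) ι.symm ≪≫ BasedBasic.isoWhiskerRight σ f ≪≫
    BasedBasic.isoWhiskerLeft (overMap b) ι' ≪≫ ChartLift.overMapComp b m')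
  have h2 : a.left ≫ m.left = b.left ≫ m'.left := congrArg CommaMorphism.left h1
  rw [← qfAt_etale_comp_iff, h2, qfAt_etale_comp_iff]
  exact hqf

/-- Transport along an equivalence. -/
theorem QFAt.map {f : 𝒜 ⥤ᵇ overCat T} {g : ℬ ⥤ᵇ overCat T} {q : AlgSt.Points 𝒜} (h : QFAt f q)
    (h𝒜 : IsFibGrpd 𝒜.p) (hℬ : IsFibGrpd ℬ.p) {E : 𝒜 ⥤ᵇ ℬ} (hE : IsEquivOver E) (ε : BasedFunctor.comp E g ≅ f) :
    QFAt g (AlgSt.Points.map E q) := by
  obtain ⟨W, c, m, e, hc, rfl, ⟨ι⟩, hm, hqf⟩ := h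
  have eE := SourceDescent.Scheme.etale.{u}
  have hEe : RepByAlgSpWith (LocP @Etale) E := Rigid.rep_locP_of_iso eE (fun f _ => inferInstance) hE
  refine ⟨W, BasedFunctor.comp c E, m, e, SliceEtale.of_locP_etale
    (IsAlgFp.comp_locP eE (Yoneda.isFibGrpd_overCat W) h𝒜 (SliceEtale.etale_locP hc) hEe),
    (H14.Chart.Points.map_ofChart E c e).symm, ⟨BasedBasic.isoWhiskerLeft c ε ≪≫ ι⟩, hm, hqf⟩

theorem qfAt_map_iff {f : 𝒜 ⥤ᵇ overCat T} {g : ℬ ⥤ᵇ overCat T}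
    (h𝒜 : IsFibGrpd 𝒜.p) (hℬ : IsFibGrpd ℬ.p) {E : 𝒜 ⥤ᵇ ℬ} (hE : IsEquivOver E)
    (ε : BasedFunctor.comp E g ≅ f) (q : AlgSt.Points 𝒜) :
    QFAt g (AlgSt.Points.map E q) ↔ QFAt f q := by
  refine ⟨fun h => ?_, fun h => h.map h𝒜 hℬ hE ε⟩
  obtain ⟨i, hi, ⟨η₁⟩, ⟨η₂⟩⟩ := BasedBasic.IsEquivOver.exists_inverse hE
  have h' := h.map hℬ h𝒜 hi ((BasedBasic.isoWhiskerLeft i ε).symm ≪≫ BasedBasic.isoWhiskerRight η₂ g)
  rwa [← H14.Chart.Basic.map_comp, H14.Chart.Basic.map_iso η₁, H14.Chart.Basic.map_id] at h'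

/-- The pullback of slices. -/
theorem exists_sq {A B C : Over S} {a : overCat A ⥤ᵇ overCat B} {b : overCat C ⥤ᵇ overCat B}
    {v : A ⟶ B} {m : C ⟶ B} (ev : a ≅ overMap v) (em : b ≅ overMap m) :
    ∃ K : overCat (pullback v m) ⥤ᵇ fp a b, IsEquivOver K ∧
      Nonempty (BasedFunctor.comp K (fpFst a b) ≅ overMap (pullback.fst v m)) ∧
      Nonempty (BasedFunctor.comp K (fpSnd a b) ≅ overMap (pullback.snd v m)) := by
  let cell : BasedFunctor.comp (overMap (pullback.fst v m)) (overMap v) ≅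
      BasedFunctor.comp (overMap (pullback.snd v m)) (overMap m) :=
    ChartLift.overMapComp _ v ≪≫ eqToIso (congrArg overMap pullback.condition) ≪≫
      (ChartLift.overMapComp _ m).symm
  have h1 := SliceChart.isEquivOver_pullbackLift (IsPullback.of_hasPullback v m) cell
  exact ⟨_, BasedBasic.IsEquivOver.comp (BasedBasic.IsEquivOver.comp h1
    (FibProd.isEquivOver_congrLeft ev.symm (overMap m))) (FibProd.isEquivOver_congrRight a em.symm),
    ⟨Iso.refl _⟩, ⟨Iso.refl _⟩⟩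

/-- Quasi-finiteness at a point is insensitive to a change of the base scheme. -/
theorem qfAt_fpFst_iff (h𝒜 : IsFibGrpd 𝒜.p) {f : 𝒜 ⥤ᵇ overCat T} {T' : Over S}
    (a : overCat T' ⥤ᵇ overCat T) (q : AlgSt.Points (fp a f))
    {E : Over S} {c : overCat E ⥤ᵇ 𝒜} (hc : RepByAlgSpWith IsEtaleMor c) {m : E ⟶ T}
    [LocallyOfFiniteType m.left] (ι : BasedFunctor.comp c f ≅ overMap m) {e : ↥E.left}
    (he : AlgSt.Points.ofChart c e = AlgSt.Points.map (fpSnd a f) q) :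
    QFAt (fpFst a f) q ↔ m.left.QuasiFiniteAt e := by
  obtain ⟨v, ⟨ev⟩⟩ := H14.Chart.Points.exists_iso_overMap a
  have hT : IsFibGrpd (overCat T).p := Yoneda.isFibGrpd_overCat T
  have hE : IsFibGrpd (overCat E).p := Yoneda.isFibGrpd_overCat E
  have hA : IsFibGrpd (fp a f).p := FibProd.isFibGrpd_fp (Yoneda.isFibGrpd_overCat T') h𝒜 hT
  have hAc : IsFibGrpd (fp (fpSnd a f) c).p := FibProd.isFibGrpd_fp hA hE h𝒜
  obtain ⟨K, hK, ⟨k₁⟩, ⟨k₂⟩⟩ := exists_sq ev ι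
  let Pc := Rep.pasteComp a f c
  obtain ⟨i, hi, ⟨η₁⟩, ⟨η₂⟩⟩ := BasedBasic.IsEquivOver.exists_inverse (Rep.isEquivOver_pasteComp a f c)
  let J := BasedFunctor.comp K i
  have hJ : IsEquivOver J := BasedBasic.IsEquivOver.comp hK hi
  have eJ : BasedFunctor.comp J Pc ≅ K := BasedBasic.isoWhiskerLeft K η₂
  let c' := BasedFunctor.comp J (fpFst (fpSnd a f) c)
  have eE := SourceDescent.Scheme.etale.{u}
  have hc' : RepByAlgSpWith IsEtaleMor c' := SliceEtale.of_locP_etale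
    (IsAlgFp.comp_locP eE (Yoneda.isFibGrpd_overCat _) hAc
      (Rigid.rep_locP_of_iso eE (fun f _ => inferInstance) hJ)
      (Rep.repByAlgSpWith_fpFst (fpSnd a f) (SliceEtale.etale_locP hc)))
  have ι' : BasedFunctor.comp c' (fpFst a f) ≅ overMap (pullback.fst v m) :=
    BasedBasic.isoWhiskerRight eJ (fpFst a (BasedFunctor.comp c f)) ≪≫ k₁
  obtain ⟨r, hr₁, hr₂⟩ := H14.Chart.Basic.exists_points_fp (g := fpSnd a f) (f := c) hE h𝒜 hA
    (p := q) (q := AlgSt.Points.ofChart (BasedFunctor.id (overCat E)) e) he.symm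
  obtain ⟨s, hs⟩ := H14.Chart.Basic.surjective_map_of_isEquivOver hJ r
  obtain ⟨e', rfl⟩ : ∃ e', AlgSt.Points.ofChart (BasedFunctor.id (overCat (pullback v m))) e' = s := by
    obtain ⟨W, z, w, rfl⟩ := H14.Chart.Points.exists_ofChart_eq (Yoneda.isFibGrpd_overCat _) s
    obtain ⟨g, ⟨εg⟩⟩ := H14.Chart.Points.exists_iso_overMap z
    exact ⟨g.left w, (H14.Chart.Points.ofChart_iso εg w |>.trans
      (H14.Chart.Points.ofChart_overMap g (BasedFunctor.id _) w)).symm⟩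
  have hq : AlgSt.Points.ofChart c' e' = q := by
    rw [← hr₁, ← hs]
    rfl
  have hem : (pullback.snd v m).left e' = e := by
    have eS : BasedFunctor.comp J (fpSnd (fpSnd a f) c) ≅ overMap (pullback.snd v m) :=
      BasedBasic.isoWhiskerRight eJ (fpSnd a (BasedFunctor.comp c f)) ≪≫ k₂
    have h1 : AlgSt.Points.ofChart (overMap (pullback.snd v m)) e' =
        AlgSt.Points.ofChart (BasedFunctor.id (overCat E)) e := by
      rw [← H14.Chart.Points.ofChart_iso eS, ← hr₂, ← hs]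
      rfl
    obtain ⟨W, α, β, w, rfl, rfl, ⟨ε⟩⟩ := H14.Chart.Points.exists_of_ofChart_eq hE h1
    have := ChartLift.eq_of_iso ((ChartLift.overMapComp α (pullback.snd v m)).symm ≪≫ ε)
    rw [← Scheme.Hom.comp_apply, ← Over.comp_left, this]
  have sq : IsPullback (pullback.snd v m).left (pullback.fst v m).left m.left v.left :=
    ((IsPullback.of_hasPullback v m).map (Over.forget S)).flip
  have : LocallyOfFiniteType (pullback.fst v m).left :=
    MorphismProperty.of_isPullback sq ‹LocallyOfFiniteType m.left›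
  rw [← hem, ← qfAt_iff_of_isPullback sq]
  exact ⟨fun h => h.qf hA hc' ι' hq, fun h => ⟨_, c', _, e', hc', hq, ⟨ι'⟩, this, h⟩⟩

end Groth.Agent.Lib.Gerbe.QF
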