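import Groth.Agent.Lib.Gerbe.QF1

/-!
Quasi-finiteness of a chart at a point depends only on the point of the source.
-/

set_option autoImplicit false
set_option backward.isDefEq.respectTransparency false
set_option backward.isDefEq.respectTransparency.types false

universe u

open CategoryTheory CategoryTheory.Limits AlgebraicGeometry

namespace Groth.Agent.Lib.Gerbe.QF

open Groth.Agent.Lib.AlgStack
open FibCat (IsEquivOver IsFibGrpd fp fpFst fpSnd fpLift fpIso overCat)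
open AlgSt (overMap RepByAlgSp1 RepByAlgSpWith)
open AlgSp (LocP IsEtaleMor)

variable {S : Scheme.{u}} {𝒳 : AlgSt.Cat S} {T V D : Over S}

/-- An étale chart of a base change of a morphism locally of finite type, at a given point. -/
theorem exists_lft_chart (h𝒳 : IsFibGrpd 𝒳.p) (z : overCat T ⥤ᵇ 𝒳) {w : overCat V ⥤ᵇ 𝒳}
    (hw : RepByAlgSpWith (LocP @LocallyOfFiniteType) w) (q : AlgSt.Points (fp z w)) :
    ∃ (E : Over S) (c : overCat E ⥤ᵇ fp z w) (m : E ⟶ T) (e : ↥E.left),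
      RepByAlgSpWith IsEtaleMor c ∧ AlgSt.Points.ofChart c e = q ∧
      Nonempty (BasedFunctor.comp c (fpFst z w) ≅ overMap m) ∧ LocallyOfFiniteType m.left := by
  have hK : IsFibGrpd (fp z w).p :=
    FibProd.isFibGrpd_fp (Yoneda.isFibGrpd_overCat T) (Yoneda.isFibGrpd_overCat V) h𝒳
  obtain ⟨E, c, hce, hcs⟩ := ChartLift.exists_atlas z (Rep.repByAlgSp1_of_repByAlgSpWith hw)
  obtain ⟨e, he⟩ := H14.Chart.Points.surjective_ofChart hK hcs q
  obtain ⟨m, ⟨ι⟩⟩ := H14.Chart.Points.exists_iso_overMap (BasedFunctor.comp c (fpFst z w))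
  have eT := H14.Sep.SpProps.lft.{u}
  have hcl : RepByAlgSpWith (LocP @LocallyOfFiniteType) c :=
    Rep.repByAlgSpWith_mono (SliceEtale.etale_locP hce) fun _ _ _ _ _ h => H14.Chart.SmLocal.locP_mono
      (fun _ _ g (hg : Etale g) => by infer_instance) h
  have h1 := IsAlgFp.comp_locP eT (Yoneda.isFibGrpd_overCat E) hK hcl (Rep.repByAlgSpWith_fpFst z hw)
  exact ⟨E, c, m, e, hce, he, ⟨ι⟩, AlgSp.locP_yon_map (ChartLift.prop_overMap (IsAlgFp.respectsIsoSp_locP eT)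
    (IsAlgFp.detected_locP eT) (Rep.repByAlgSpWith_of_iso ι h1))⟩

/-- Quasi-finiteness at a point is read after pulling back to a scheme through it. -/
theorem qfAt_eta (h𝒳 : IsFibGrpd 𝒳.p) (z : overCat T ⥤ᵇ 𝒳) {w : overCat V ⥤ᵇ 𝒳}
    (hw : RepByAlgSpWith (LocP @LocallyOfFiniteType) w) (η : overCat D ⥤ᵇ fp z w) (x : ↥D.left) :
    QFAt (fpFst z w) (AlgSt.Points.ofChart η x) ↔
      QFAt (fpFst (BasedFunctor.comp (BasedFunctor.comp η (fpSnd z w)) w) w)
        (AlgSt.Points.ofChart (fpLift (F := BasedFunctor.comp (BasedFunctor.comp η (fpSnd z w)) w) (G := w)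
          (BasedFunctor.id _) (BasedFunctor.comp η (fpSnd z w)) (Iso.refl _)) x) := by
  have hT := Yoneda.isFibGrpd_overCat T
  have hV := Yoneda.isFibGrpd_overCat V
  have hD := Yoneda.isFibGrpd_overCat D
  have hK : IsFibGrpd (fp z w).p := FibProd.isFibGrpd_fp hT hV h𝒳
  let a := BasedFunctor.comp η (fpFst z w)
  let c₀ := BasedFunctor.comp η (fpSnd z w)
  let sec' : overCat D ⥤ᵇ fp a (fpFst z w) :=
    fpLift (F := a) (G := fpFst z w) (BasedFunctor.id _) η (Iso.refl _)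
  obtain ⟨E, c, m, e, hc, he, ⟨ι⟩, hm⟩ := exists_lft_chart h𝒳 z hw (AlgSt.Points.ofChart η x)
  have h1 : QFAt (fpFst z w) (AlgSt.Points.ofChart η x) ↔ m.left.QuasiFiniteAt e :=
    ⟨fun h => h.qf hK hc ι he, fun h => ⟨E, c, m, e, hc, he, ⟨ι⟩, hm, h⟩⟩
  have h2 : QFAt (fpFst a (fpFst z w)) (AlgSt.Points.ofChart sec' x) ↔ m.left.QuasiFiniteAt e :=
    qfAt_fpFst_iff hK a _ hc ι (he.trans rfl)
  let θ : BasedFunctor.comp a z ≅ BasedFunctor.comp c₀ w := BasedBasic.isoWhiskerLeft η (fpIso z w)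
  let Ψ := BasedFunctor.comp (Rep.pasteBase a z w) (FibProd.congrLeft θ w)
  have hΨ : IsEquivOver Ψ :=
    BasedBasic.IsEquivOver.comp (Rep.isEquivOver_pasteBase a z w) (FibProd.isEquivOver_congrLeft θ w)
  have h3 := qfAt_map_iff (f := fpFst a (fpFst z w)) (g := fpFst (BasedFunctor.comp c₀ w) w)
    (FibProd.isFibGrpd_fp hD hK hT) (FibProd.isFibGrpd_fp hD hV h𝒳) hΨ (eqToIso rfl)
    (AlgSt.Points.ofChart sec' x)
  let κ : BasedFunctor.comp sec' Ψ ≅
      fpLift (F := BasedFunctor.comp c₀ w) (G := w) (BasedFunctor.id _) c₀ (Iso.refl _) :=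
    SliceChart.fpIsoMk (F := BasedFunctor.comp c₀ w) (G := w) (Iso.refl _) (Iso.refl _) fun h => by
      change (BasedFunctor.comp c₀ w).map (𝟙 _) ≫ 𝟙 _ =
        ((BasedBasic.appIso θ h).inv ≫ (z.map (𝟙 _) ≫ (η.obj h).obj.iso.hom) ≫ 𝟙 _) ≫ w.map (𝟙 _)
      rw [z.toFunctor.map_id, w.toFunctor.map_id, (BasedFunctor.comp c₀ w).toFunctor.map_id]
      simp [θ]
      change 𝟙 _ = (η.obj h).obj.iso.inv ≫ 𝟙 _ ≫ (η.obj h).obj.iso.hom
      erw [Category.id_comp, Iso.inv_hom_id]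
  rw [h1, ← h2, ← h3, H14.Chart.Points.map_ofChart, H14.Chart.Points.ofChart_iso κ]

/-- The diagonal of a chart. -/
abbrev diagLift (w : overCat V ⥤ᵇ 𝒳) : overCat V ⥤ᵇ fp w w :=
  fpLift (F := w) (G := w) (BasedFunctor.id _) (BasedFunctor.id _) (Iso.refl w)

/-- Quasi-finiteness at a point depends only on its image in the source of the chart. -/
theorem qfAt_iff_diag (h𝒳 : IsFibGrpd 𝒳.p) (z : overCat T ⥤ᵇ 𝒳) {w : overCat V ⥤ᵇ 𝒳}
    (hw : RepByAlgSpWith (LocP @LocallyOfFiniteType) w) (η : overCat D ⥤ᵇ fp z w) (x : ↥D.left) :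
    QFAt (fpFst z w) (AlgSt.Points.ofChart η x) ↔
      QFAt (fpFst w w) (AlgSt.Points.map (diagLift w) (AlgSt.Points.map (fpSnd z w)
        (AlgSt.Points.ofChart η x))) := by
  rw [qfAt_eta h𝒳 z hw η x, H14.Chart.Points.map_ofChart, H14.Chart.Points.map_ofChart]
  exact (qfAt_eta h𝒳 w hw (BasedFunctor.comp (BasedFunctor.comp η (fpSnd z w)) (diagLift w)) x).symm

end Groth.Agent.Lib.Gerbe.QF
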