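import Groth.Agent.Lib.AlgStack.SetoidalApps
import Groth.Agent.Lib.AlgStack.SliceEtale
import Groth.Agent.Lib.AlgStack.ClosedSub
import Groth.Agent.H14.Chart.ImmDescent
import Groth.Agent.H14.Chart.OpenSub
import Groth.Agent.H14.Chart.SmLoc
import Groth.Agent.Lib.AlgSpFpqc.DescendSp
import Groth.Agent.Lib.AlgSpDecent.RedInduced

/-!
The reduced closed substack on a closed set of points.
-/

set_option autoImplicit false
set_option backward.isDefEq.respectTransparency false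
set_option backward.isDefEq.respectTransparency.types false

universe u

open CategoryTheory CategoryTheory.Limits AlgebraicGeometry

namespace Groth.Agent.Lib.Gerbe.RedSub

open Groth.Agent.Lib.AlgStack
open Groth.Agent.H14.Chart Groth.Agent.H14.Sep
open Groth.Agent.H14.Sep.Lft (vOf)
open Groth.Agent.Lib.SourceDescent.Scheme (EtaleLocalST)
open FibCat (IsEquivOver fp fpFst fpSnd fpLift fpIso overCat IsFibGrpd)
open AlgSt (ofSp ofSpMap ofOverCat toOverCat spMapOfOver overMap RepByAlgSpWith IsAlgStack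
  fullSub subIncl IsClosedImm IsClosedSubstack)
open AlgSp (Sp yon LocP RepWith IsSurjectiveMor)

/-- Factoring through a closed immersion is fppf local. -/
theorem exists_factor_of_cover {Z U W W' : Scheme.{u}} (i : Z ⟶ U) [IsClosedImmersion i] (f : W ⟶ U)
    (s : W' ⟶ W) [Surjective s] [Flat s] [LocallyOfFinitePresentation s] (k : W' ⟶ Z)
    (hk : k ≫ i = s ≫ f) : ∃ l : W ⟶ Z, l ≫ i = f := by
  have : IsIso (pullback.snd i f) :=
    ClosedSub.isIso_of_factor _ s (pullback.lift k s hk) (pullback.lift_snd _ _ _)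
  exact ⟨inv (pullback.snd i f) ≫ pullback.fst i f, by
    rw [Category.assoc, pullback.condition, IsIso.inv_hom_id_assoc]⟩

/-- Factoring through a closed immersion is local for fppf covering families. -/
theorem exists_factor_of_family {ι : Type u} {Z U W : Scheme.{u}} (i : Z ⟶ U) [IsClosedImmersion i]
    (f : W ⟶ U) (X : ι → Scheme.{u}) (c : ∀ j, X j ⟶ W) (hc : ∀ w : W, ∃ j x, c j x = w)
    (hfl : ∀ j, Flat (c j)) (hfp : ∀ j, LocallyOfFinitePresentation (c j))
    (hk : ∀ j, ∃ k : X j ⟶ Z, k ≫ i = c j ≫ f) : ∃ l : W ⟶ Z, l ≫ i = f := by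
  choose k hk using hk
  have : Flat (Sigma.desc c) := IsZariskiLocalAtSource.sigmaDesc hfl
  have : LocallyOfFinitePresentation (Sigma.desc c) := IsZariskiLocalAtSource.sigmaDesc hfp
  have : Surjective (Sigma.desc c) := ⟨fun w => by
    obtain ⟨j, x, rfl⟩ := hc w
    exact ⟨Sigma.ι X j x, by rw [← Scheme.Hom.comp_apply, Sigma.ι_desc]⟩⟩
  exact exists_factor_of_cover i f (Sigma.desc c) (Sigma.desc k)
    (Sigma.hom_ext _ _ fun j => by simp [hk j])

/-- Being reduced is smooth-local. -/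
theorem isSmLocal_reduced : SmLoc.IsSmLocal.{u} (fun X => IsReduced X) := fun U R hR => by
  constructor
  · intro hU V g hg
    have : Smooth g := hR.2 hg
    exact AlgSpFpqc.DescendSp.isReduced_of_smooth g
  · intro h
    have hx : ∀ x : U, ∃ (V : Scheme.{u}) (g : V ⟶ U), R g ∧ x ∈ Set.range g := fun x => by
      obtain ⟨_, _, ⟨hg⟩, hx⟩ := hR.1 x
      exact ⟨_, _, hg, hx⟩
    choose V g hg hx using hx
    refine (Groth.Agent.S9841.result g ?_).2 fun x => h (g x) (hg x)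
    rw [Scheme.ofArrows_mem_precoverage_iff]
    exact ⟨fun x => ⟨x, hx x⟩, fun x => hR.2 (hg x)⟩

variable {S : Scheme.{u}} {𝒳 : AlgSt.Cat S} {U : Over S} (a : overCat U ⥤ᵇ 𝒳) {Z : Over S}
  (i : Z ⟶ U)

/-- The objects lying in the substack cut out by a closed subscheme of an atlas. -/
def sub : 𝒳.obj → Prop :=
  fun y => ∀ g : Over U, (a.obj g ⟶ y) → ∃ k : g.left ⟶ Z, k ≫ i = g.hom

theorem sub_of_hom {y' y : 𝒳.obj} (φ : y' ⟶ y) (hy : sub a i y) : sub a i y' :=
  fun g ψ => hy g (ψ ≫ φ)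

theorem isClosedUnderIsomorphisms_sub : ObjectProperty.IsClosedUnderIsomorphisms (sub a i) :=
  ⟨fun e hy => sub_of_hom a i e.inv hy⟩

variable {a i} [IsClosedImmersion i.left] [IsReduced Z.left] (h𝒳 : IsAlgStack Scheme.fppfPrecoverage 𝒳)
  (ha : RepByAlgSpWith (LocP @Smooth) a) (has : RepByAlgSpWith IsSurjectiveMor a)
  {T : Set (AlgSt.Points 𝒳)} (hr : Set.range i.left = AlgSt.Points.ofChart a ⁻¹' T)

include h𝒳 ha hr in
/-- The key invariance: a chart value isomorphic to one in the closed subscheme is in it. -/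
theorem exists_factor (g g' : Over U) (θ : a.obj g ⟶ a.obj g')
    (hg' : ∃ k : g'.left ⟶ Z, k ≫ i = g'.hom) : ∃ k : g.left ⟶ Z, k ≫ i = g.hom := by
  have h := h𝒳.isStack.1
  obtain ⟨k, hk⟩ := hg'
  let s : g.left ⟶ g'.left :=
    eqToHom (a.w_obj g).symm ≫ 𝒳.p.map θ ≫ eqToHom (a.w_obj g')
  have hθ : 𝒳.p.IsHomLift s θ :=
    IsHomLift.of_fac 𝒳.p s θ (a.w_obj g) (a.w_obj g') (by simp [s])
  let g'' : Over U := Over.mk (s ≫ g'.hom)
  let m : g'' ⟶ g' := Over.homMk s rfl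
  have hm : 𝒳.p.IsHomLift s (a.map m) := Yoneda.map_isHomLift a m
  obtain ⟨ν, hν, -⟩ := Lib.Fibred.Descent.exists_factor h (a.map m) hm θ hθ
  have := Lib.Fibred.StackLemmas.isIso_of_vertical h ν hν
  have : 𝒳.p.IsHomLift (𝟙 g.left) (inv ν) := IsHomLift.lift_id_inv_isIso 𝒳.p g.left ν
  let x := BasedFunctor.comp (overMap i) a
  let W := g.left
  let k' : W ⟶ Z := s ≫ k
  let m₁ : (overMap i).obj ((overMap k').obj (Over.mk (𝟙 W))) ⟶ g'' :=
    Over.homMk (𝟙 W) (by
      change 𝟙 W ≫ s ≫ g'.hom = (𝟙 W ≫ k') ≫ i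
      simp [k', hk])
  let m₀ : g ⟶ (overMap g.hom).obj (Over.mk (𝟙 W)) := Over.homMk (𝟙 W) (by
    change 𝟙 W ≫ 𝟙 W ≫ g.hom = g.hom
    simp)
  let θ₀ : (BasedFunctor.comp (overMap k') x).obj (Over.mk (𝟙 W)) ⟶
      (BasedFunctor.comp (overMap g.hom) a).obj (Over.mk (𝟙 W)) := a.map m₁ ≫ inv ν ≫ a.map m₀
  have : 𝒳.p.IsHomLift (𝟙 W) θ₀ := by
    have h1 : 𝒳.p.IsHomLift (𝟙 W) (a.map m₁) := Yoneda.map_isHomLift a m₁
    have h2 : 𝒳.p.IsHomLift (𝟙 W) (a.map m₀) := Yoneda.map_isHomLift a m₀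
    exact inferInstance
  obtain ⟨β, -⟩ := Yoneda.exists_iso_of_id h _ _ θ₀
  obtain ⟨G, e, he, hsm⟩ := ha Z x
  obtain ⟨η, hη, ⟨ξ⟩⟩ := Points.exists_hom_of_iso he k' (overMap g.hom) β
  have hηδ : η ≫ spMapOfOver (BasedFunctor.comp e (fpSnd x a)) = (yon S).map g.hom := by
    rw [← Rep.spMapOfOver_precomp, Rep.spMapOfOver_eq_of_iso ξ, Points.spMap_toOverCat_overMap]
  obtain ⟨E, p, hp, hps⟩ := G.property.atlas
  obtain ⟨q, hq⟩ := (yon S).map_surjective (p ≫ spMapOfOver (BasedFunctor.comp e (fpFst x a)))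
  obtain ⟨r, hr'⟩ := (yon S).map_surjective (p ≫ spMapOfOver (BasedFunctor.comp e (fpSnd x a)))
  have : Smooth q.left :=
    hsm p (𝟙 _) q hp (AlgSp.repWith_id _ _) (by rw [Category.comp_id, hq])
  have : IsReduced E.left := AlgSpFpqc.DescendSp.isReduced_of_smooth q.left
  let η' : overCat E ⥤ᵇ fp x a := BasedFunctor.comp (ofOverCat E) (BasedFunctor.comp (ofSpMap p) e)
  have hv₁ : spMapOfOver (BasedFunctor.comp (ofSpMap p) (BasedFunctor.comp e (fpFst x a))) =
      (yon S).map q := by rw [Rep.spMapOfOver_precomp, hq]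
  have hv₂ : spMapOfOver (BasedFunctor.comp (ofSpMap p) (BasedFunctor.comp e (fpSnd x a))) =
      (yon S).map r := by rw [Rep.spMapOfOver_precomp, hr']
  let ι₁ : BasedFunctor.comp η' (fpFst x a) ≅ vOf q :=
    BasedBasic.isoWhiskerLeft (ofOverCat E)
      (Rep.isoSpMapOfOver (BasedFunctor.comp (ofSpMap p) (BasedFunctor.comp e (fpFst x a))) ≪≫
        eqToIso (by rw [hv₁]))
  let ι₂ : BasedFunctor.comp η' (fpSnd x a) ≅ vOf r :=
    BasedBasic.isoWhiskerLeft (ofOverCat E)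
      (Rep.isoSpMapOfOver (BasedFunctor.comp (ofSpMap p) (BasedFunctor.comp e (fpSnd x a))) ≪≫
        eqToIso (by rw [hv₂]))
  let α : BasedFunctor.comp (overMap q) x ≅ BasedFunctor.comp (overMap r) a :=
    (BasedBasic.isoWhiskerRight ι₁ x).symm ≪≫ BasedBasic.isoWhiskerLeft η' (fpIso x a) ≪≫
      BasedBasic.isoWhiskerRight ι₂ a
  have hsub : Set.range r.left ⊆ Set.range i.left := by
    rintro _ ⟨t, rfl⟩
    rw [hr, Set.mem_preimage, ← Points.ofChart_overMap r a t, ← Points.ofChart_iso α t,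
      Points.ofChart_overMap q x t, Points.ofChart_overMap i a]
    exact hr.subset ⟨q.left t, rfl⟩
  obtain ⟨rk, hrk⟩ := AlgSpDecent.RedInduced.exists_lift_over r i hsub
  obtain ⟨W', c, fst, sq, hc⟩ := Lib.AlgSpace.repWith_exists hp η
  have : Etale c.left := hc
  have : Surjective c.left := Lib.AlgSpace.repWith_property hps sq
  obtain ⟨m', hm'⟩ := (yon S).map_surjective fst
  have hcm : m' ≫ rk ≫ i = c ≫ g.hom := (yon S).map_injective (by
    rw [hrk, Functor.map_comp, Functor.map_comp, hr', hm', ← Category.assoc, sq.w, Category.assoc,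
      hηδ])
  obtain ⟨l, hl⟩ := exists_factor_of_cover i.left g.hom.left c.left (m' ≫ rk).left (by
    rw [← Over.comp_left, ← Over.comp_left, Category.assoc, hcm])
  refine ⟨Over.homMk l ?_, Over.OverMorphism.ext hl⟩
  rw [← Over.w i, ← Category.assoc, hl]
  exact Over.w g.hom

include h𝒳 ha hr in
theorem sub_obj_iff (g : Over U) : sub a i (a.obj g) ↔ ∃ k : g.left ⟶ Z, k ≫ i = g.hom :=
  ⟨fun hy => hy g (𝟙 _), fun hg g' θ => exists_factor h𝒳 ha hr g' g θ hg⟩

include h𝒳 in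
theorem isStack_sub : Stk.IsStack (AlgSp.J S) (fullSub 𝒳 (sub a i)) := by
  have h := h𝒳.isStack.1
  refine Lib.Fibred.StackLocal.isStack_sub (sub a i) (AlgSp.J S) h𝒳.isStack
    (fun y x φ hx => ⟨y, Iso.refl y, sub_of_hom a i φ hx, IsHomLift.id rfl⟩) ?_
  intro V R hR x hx hl
  refine ⟨x, Iso.refl x, fun g φ => ?_, IsHomLift.id hx⟩
  subst hx
  let s : g.left ⟶ 𝒳.p.obj x := eqToHom (a.w_obj g).symm ≫ 𝒳.p.map φ
  have hφ : 𝒳.p.IsHomLift s φ :=
    IsHomLift.of_fac 𝒳.p s φ (a.w_obj g) rfl (by simp [s])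
  have hR' := (AlgSp.J S).pullback_stable s hR
  rw [AlgSp.J_eq, GrothendieckTopology.mem_over_iff] at hR'
  haveI : MorphismProperty.IsMultiplicative @LocallyOfFinitePresentation.{u} :=
    { id_mem := fun X ↦ (inferInstance : LocallyOfFinitePresentation (𝟙 X)) }
  obtain ⟨𝒰, hle⟩ := Scheme.exists_cover_of_mem_grothendieckTopology
    (P := @Flat ⊓ @LocallyOfFinitePresentation) hR'
  choose j z hz using 𝒰.exists_eq
  have key : ∀ w : g.left.left, ∃ k : 𝒰.X (j w) ⟶ Z.left, k ≫ i.left = 𝒰.f (j w) ≫ g.hom.left := by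
    intro w
    let W' : Over S := Over.mk (𝒰.f (j w) ≫ g.left.hom)
    let c : W' ⟶ g.left := Over.homMk (𝒰.f (j w)) rfl
    have hf : R (c ≫ s) :=
      (Sieve.overEquiv_iff _ _).1 (hle _ _ (Presieve.ofArrows.mk (j w)))
    let gi : Over U := Over.mk (c ≫ g.hom)
    let m : gi ⟶ g := Over.homMk c rfl
    have h1 : 𝒳.p.IsHomLift c (a.map m) := Yoneda.map_isHomLift a m
    have h2 : 𝒳.p.IsHomLift (c ≫ s) (a.map m ≫ φ) := inferInstance
    obtain ⟨y', e, hy', -⟩ := hl (c ≫ s) hf _ (a.map m ≫ φ) h2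
    obtain ⟨k, hk⟩ := hy' gi e.hom
    exact ⟨k.left, congrArg CommaMorphism.left hk⟩
  obtain ⟨l, hl⟩ := exists_factor_of_family i.left g.hom.left _ (fun w => 𝒰.f (j w))
    (fun w => ⟨w, z w, hz w⟩) (fun w => (𝒰.map_prop (j w)).1) (fun w => (𝒰.map_prop (j w)).2) key
  refine ⟨Over.homMk l ?_, Over.OverMorphism.ext hl⟩
  rw [← Over.w i, ← Category.assoc, hl]
  exact Over.w g.hom

include h𝒳 ha has hr in
theorem main : IsClosedSubstack 𝒳 (sub a i) Scheme.fppfPrecoverage ∧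
    Set.range (AlgSt.Points.map (subIncl 𝒳 (sub a i))) = T ∧
    AlgSt.SmoothLocally (fun X => IsReduced X) (fullSub 𝒳 (sub a i)) := by
  have h := h𝒳.isStack.1
  let F := subIncl 𝒳 (sub a i)
  have hFfull : F.toFunctor.Full := inferInstanceAs (ObjectProperty.ι (sub a i)).Full
  have hFfaith : F.toFunctor.Faithful := inferInstanceAs (ObjectProperty.ι (sub a i)).Faithful
  let x := BasedFunctor.comp (overMap i) a
  have hc : ∀ g : Over Z, sub a i (x.obj g) := fun g =>
    (sub_obj_iff h𝒳 ha hr _).2 ⟨g.hom, rfl⟩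
  let z : overCat Z ⥤ᵇ fullSub 𝒳 (sub a i) :=
    { toFunctor := ObjectProperty.lift _ x.toFunctor hc
      w := x.w }
  let β : BasedFunctor.comp (overMap i) a ≅ BasedFunctor.comp z F := Iso.refl _
  let E := fpLift (overMap i) z β
  have hmono : Mono i.left := inferInstance
  have hfaith : E.toFunctor.Faithful := ⟨fun {p q f g} hfg => by
    have := congrArg (fun k => k.hom.fst.left) hfg
    exact Over.OverMorphism.ext this⟩
  have hfull : E.toFunctor.Full := ⟨fun {p q} f => by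
    let k : p.left ⟶ q.left := f.hom.fst.left
    have hk : k ≫ (q.hom ≫ i) = p.hom ≫ i := Over.w f.hom.fst
    have hk' : k ≫ q.hom = p.hom := by
      ext1
      rw [← cancel_mono i.left]
      simpa using congrArg CommaMorphism.left hk
    refine ⟨Over.homMk k hk', ?_⟩
    have e1 : (overMap i).map (Over.homMk k hk') = f.hom.fst := Over.OverMorphism.ext rfl
    refine Lib.Fibred.Fp.hom_ext e1 ?_
    apply (ObjectProperty.ι (sub a i)).map_injective
    have w := Lib.Fibred.Fp.w f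
    have w1 : a.map f.hom.fst ≫ 𝟙 _ = 𝟙 _ ≫ (ObjectProperty.ι (sub a i)).map f.hom.snd := w
    rw [Category.comp_id, Category.id_comp] at w1
    rw [← w1, ← e1]
    rfl⟩
  have hE : IsEquivOver E := by
    refine BasedBasic.isEquivOver_of E fun η => ?_
    obtain ⟨k, hk⟩ := η.obj.snd.property η.obj.fst η.obj.iso.hom
    let ξ : Over Z := Over.mk k
    let p : (overMap i).obj ξ ≅ η.obj.fst :=
      Over.isoMk (Iso.refl _) (by
        change 𝟙 _ ≫ η.obj.fst.hom = k ≫ i
        rw [Category.id_comp, hk])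
    let q : z.obj ξ ≅ η.obj.snd :=
      ObjectProperty.isoMk _ (a.toFunctor.mapIso p ≪≫ η.obj.iso)
    refine ⟨ξ, Lib.Fibred.Fp.isoMk p q (by
      change a.map p.hom ≫ η.obj.iso.hom = 𝟙 _ ≫ (a.map p.hom ≫ η.obj.iso.hom)
      rw [Category.id_comp]), ?_⟩
    refine (Lib.Fibred.Fp.isHomLift_iff _ _).2 ?_
    change (overCat U).p.IsHomLift (𝟙 η.obj.fst.left) p.hom
    exact IsHomLift.map (overCat U).p p.hom
  have hz₁ : RepByAlgSpWith (LocP @Smooth) (BasedFunctor.comp E (fpSnd a F)) :=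
    LocQ.rep_precomp_equiv hE (Rep.fpSnd_of _ ha)
  have hz₂ : RepByAlgSpWith IsSurjectiveMor (BasedFunctor.comp E (fpSnd a F)) :=
    LocQ.rep_precomp_equiv hE (Rep.fpSnd_of _ has)
  have hA : IsAlgStack Scheme.fppfPrecoverage (fullSub 𝒳 (sub a i)) :=
    Bootstrap.isAlgStack_of_stack_atlas (isStack_sub h𝒳) ⟨Z, _, hz₁, hz₂⟩
  have hi : IsClosedImm F := by
    have hP : SpProps.StableBC (RepWith @IsClosedImmersion (S := S)) :=
      SpProps2.stableBC_repWith @IsClosedImmersion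
    have hov : RepByAlgSpWith (RepWith @IsClosedImmersion) (overMap i) :=
      Basic.rep_overMap i (fun _ _ _ _ _ _ _ _ _ _ _ _ sq hh => Lib.AlgSpace.repWith_baseChange sq hh)
        ((AlgSp.repWith_yon_map_iff _ _).2 ‹IsClosedImmersion i.left›)
    have hf : RepByAlgSpWith (RepWith @IsClosedImmersion) (fpFst a F) :=
      (AlgStack.Rep.repByAlgSpWith_iff_of_isEquivOver (f := fpFst a F) (f' := overMap i) hE
        BasedBasic.isEquivOver_id (eqToIso rfl)).2 hov
    refine Cover.rep_descend hP (SpProps2.fromSchemes_repWith @IsClosedImmersion)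
      ImmDescent.descends_closedImm (SetoidalApps.repByAlgSp1_of_faithful hA h𝒳 F) fun V y => ?_
    obtain ⟨V', s, hs, v, ⟨α⟩⟩ :=
      Cover.exists_lift (SliceEtale.flat_of_smooth ha) (SliceEtale.lfp_of_smooth ha) has y
    exact ⟨V', s, hs, (AlgStack.Rep.repByAlgSpWith_iff_of_isEquivOver
      (f := fpFst (BasedFunctor.comp (vOf s) y) F) (f' := fpFst v (fpFst a F))
      (BasedBasic.IsEquivOver.comp (AlgStack.Rep.isEquivOver_pasteBase v a F)
        (FibProd.isEquivOver_congrLeft α.symm F))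
      BasedBasic.isEquivOver_id (eqToIso rfl)).2 (AlgStack.Rep.repByAlgSpWith_fpFst v hf)⟩
  refine ⟨⟨isClosedUnderIsomorphisms_sub a i, hA, hi⟩, ?_,
    (SmLoc.smoothLocally_iff_exists isSmLocal_reduced hA).2 ⟨Z, _, hz₁, hz₂, ‹IsReduced Z.left›⟩⟩
  have hsur := Points.surjective_ofChart hA.isStack.1 hz₂
  rw [← Set.image_univ, ← hsur.range_eq, ← Set.range_comp]
  ext p
  constructor
  · rintro ⟨t, rfl⟩
    change AlgSt.Points.ofChart (BasedFunctor.comp (overMap i) a) t ∈ T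
    rw [Points.ofChart_overMap]
    exact hr.subset ⟨t, rfl⟩
  · intro hp
    obtain ⟨t, rfl⟩ := Points.surjective_ofChart h has p
    obtain ⟨t', rfl⟩ := hr.symm.subset hp
    exact ⟨t', Points.ofChart_overMap i a t'⟩

end Groth.Agent.Lib.Gerbe.RedSub
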