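import Groth.Agent.Lib.Gerbe.ResMap

/-!
Transport of the self-product comparison to residual gerbes.
-/

set_option autoImplicit false
set_option backward.isDefEq.respectTransparency false
set_option backward.isDefEq.respectTransparency.types false

universe u

open CategoryTheory CategoryTheory.Limits AlgebraicGeometry

namespace Groth.Agent.Lib.Gerbe.ResMap

open Groth.Agent.Lib.AlgStack
open FibCat (IsEquivOver fp fpFst fpSnd fpLift fpIso overCat IsFibGrpd)
open AlgSt (fullSub subIncl)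
open Lib.Fibred.EquivOver (appIso appIso_isHomLift appIso_naturality)

variable {S : Scheme.{u}} {𝒳 𝒴 : AlgSt.Cat S} {Q : 𝒳.obj → Prop} {Q' : 𝒴.obj → Prop} {f : 𝒳 ⥤ᵇ 𝒴}
  {g : fullSub 𝒳 Q ⥤ᵇ fullSub 𝒴 Q'} {K : Over S} {q : overCat K ⥤ᵇ fullSub 𝒳 Q} {p : overCat K ⥤ᵇ 𝒳}

theorem isEquivOver_selfMap (δ : BasedFunctor.comp g (subIncl 𝒴 Q') ≅ BasedFunctor.comp (subIncl 𝒳 Q) f)
    (ε : BasedFunctor.comp q (subIncl 𝒳 Q) ≅ p)
    (e : BasedFunctor.comp (fpFst p p) (BasedFunctor.comp p f) ≅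
      BasedFunctor.comp (fpSnd p p) (BasedFunctor.comp p f))
    (he : ∀ c, e.hom.toNatTrans.app c = f.map c.obj.iso.hom)
    (hiso : IsEquivOver (fpLift (fpFst p p) (fpSnd p p) e)) : IsEquivOver (selfMap g q) := by
  let iX := subIncl 𝒳 Q
  let iY := subIncl 𝒴 Q'
  let Θ : BasedFunctor.comp (BasedFunctor.comp q g) iY ≅ BasedFunctor.comp p f :=
    BasedBasic.isoWhiskerLeft q δ ≪≫ BasedBasic.isoWhiskerRight ε f
  -- compatibility of the images
  have img : ∀ (u v : Over K) (a : q.obj u ⟶ q.obj v) (a' : p.obj u ⟶ p.obj v),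
      (appIso ε u).hom ≫ a' = iX.map a ≫ (appIso ε v).hom →
      iY.map (g.map a) ≫ (appIso Θ v).hom = (appIso Θ u).hom ≫ f.map a' := by
    intro u v a a' h
    change iY.map (g.map a) ≫ ((appIso δ (q.obj v)).hom ≫ f.map (appIso ε v).hom) =
      ((appIso δ (q.obj u)).hom ≫ f.map (appIso ε u).hom) ≫ f.map a'
    rw [Category.assoc, ← f.toFunctor.map_comp, h, f.toFunctor.map_comp, ← Category.assoc,
      ← Category.assoc]
    exact congrArg (· ≫ f.map (appIso ε v).hom) (appIso_naturality δ a)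
  have hP := BasedBasic.IsEquivOver.full hiso
  have hfa : (selfMap g q).toFunctor.Faithful := ⟨fun {A B m m'} h =>
    Lib.Fibred.Fp.hom_ext (congrArg (fun k => k.hom.fst) h) (congrArg (fun k => k.hom.snd) h)⟩
  let prim : (fp q q).obj → (fp p p).obj := fun A =>
    Lib.Fibred.Fp.mkObj A.obj.fst A.obj.snd
      ((appIso ε A.obj.fst).symm ≪≫ iX.toFunctor.mapIso A.obj.iso ≪≫ appIso ε A.obj.snd) (by
      let T := (overCat K).p.obj A.obj.fst
      have hsnd : (overCat K).p.obj A.obj.snd = T := FibProd.snd_obj A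
      have h1 := appIso_isHomLift ε A.obj.fst (S := T) rfl
      have h2 := appIso_isHomLift ε A.obj.snd (S := T) hsnd
      have h3 : 𝒳.p.IsHomLift (𝟙 T) (appIso ε A.obj.fst).inv := IsHomLift.lift_id_inv 𝒳.p T _
      have h4 : (fullSub 𝒳 Q).p.IsHomLift (𝟙 T) A.obj.iso.hom := A.property
      have h5 : 𝒳.p.IsHomLift (𝟙 T) (iX.map A.obj.iso.hom) := BasedFunctor.preserves_isHomLift iX _ _
      change 𝒳.p.IsHomLift (𝟙 T) ((appIso ε A.obj.fst).inv ≫ iX.map A.obj.iso.hom ≫ (appIso ε A.obj.snd).hom)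
      exact inferInstance)
  have hprim : ∀ A : (fp q q).obj,
      iY.map (g.map A.obj.iso.hom) ≫ (appIso Θ A.obj.snd).hom =
        (appIso Θ A.obj.fst).hom ≫ f.map (prim A).obj.iso.hom := fun A =>
    img _ _ _ _ (by
      change (appIso ε A.obj.fst).hom ≫ ((appIso ε A.obj.fst).inv ≫ iX.map A.obj.iso.hom ≫ (appIso ε A.obj.snd).hom) = _
      rw [Iso.hom_inv_id_assoc])
  have hfu : (selfMap g q).toFunctor.Full := ⟨fun {A B} m => by
    have w : g.map (q.map m.hom.fst) ≫ g.map B.obj.iso.hom = g.map A.obj.iso.hom ≫ g.map (q.map m.hom.snd) :=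
      Lib.Fibred.Fp.w m
    have w' : f.map (p.map m.hom.fst) ≫ f.map (prim B).obj.iso.hom =
        f.map (prim A).obj.iso.hom ≫ f.map (p.map m.hom.snd) := by
      rw [← cancel_epi (appIso Θ A.obj.fst).hom, ← Category.assoc, ← Category.assoc]
      erw [← hprim A, ← appIso_naturality Θ m.hom.fst]
      rw [Category.assoc, Category.assoc]
      erw [← hprim B, ← appIso_naturality Θ m.hom.snd]
      rw [← Category.assoc, ← Category.assoc]
      refine congrArg (· ≫ (appIso Θ B.obj.snd).hom) ?_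
      change iY.map (g.map (q.map m.hom.fst)) ≫ iY.map (g.map B.obj.iso.hom) =
        iY.map (g.map A.obj.iso.hom) ≫ iY.map (g.map (q.map m.hom.snd))
      rw [← iY.toFunctor.map_comp, ← iY.toFunctor.map_comp, w]
    let L := fpLift (fpFst p p) (fpSnd p p) e
    obtain ⟨r, hr⟩ := L.toFunctor.map_surjective (X := prim A) (Y := prim B)
      (Lib.Fibred.Fp.mkHom (z := L.obj (prim A)) (w := L.obj (prim B)) m.hom.fst m.hom.snd (by
        change f.map (p.map m.hom.fst) ≫ e.hom.toNatTrans.app (prim B) =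
          e.hom.toNatTrans.app (prim A) ≫ f.map (p.map m.hom.snd)
        rw [he, he]
        exact w'))
    have r1 : r.hom.fst = m.hom.fst := (congrArg (fun k => k.hom.fst) hr :)
    have r2 : r.hom.snd = m.hom.snd := (congrArg (fun k => k.hom.snd) hr :)
    have wr := Lib.Fibred.Fp.w r
    rw [r1, r2] at wr
    refine ⟨Lib.Fibred.Fp.mkHom (F := q) (G := q) m.hom.fst m.hom.snd ?_, Lib.Fibred.Fp.hom_ext rfl rfl⟩
    apply (ObjectProperty.ι Q).map_injective
    change iX.map (q.map m.hom.fst ≫ B.obj.iso.hom) = iX.map (A.obj.iso.hom ≫ q.map m.hom.snd)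
    rw [iX.toFunctor.map_comp, iX.toFunctor.map_comp, ← cancel_mono (appIso ε B.obj.snd).hom, Category.assoc,
      Category.assoc]
    erw [appIso_naturality ε m.hom.snd]
    have wr' : p.map m.hom.fst ≫ (appIso ε B.obj.fst).inv ≫ iX.map B.obj.iso.hom ≫ (appIso ε B.obj.snd).hom =
        ((appIso ε A.obj.fst).inv ≫ iX.map A.obj.iso.hom ≫ (appIso ε A.obj.snd).hom) ≫ p.map m.hom.snd := wr
    have nat : (appIso ε A.obj.fst).inv ≫ iX.map (q.map m.hom.fst) = p.map m.hom.fst ≫ (appIso ε B.obj.fst).inv := by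
      rw [Iso.inv_comp_eq, ← Category.assoc, Iso.eq_comp_inv]
      exact appIso_naturality ε m.hom.fst
    rw [← cancel_epi (appIso ε A.obj.fst).inv, ← Category.assoc, nat, Category.assoc, wr']
    simp only [Category.assoc]
    rfl⟩
  refine BasedBasic.isEquivOver_of (selfMap g q) fun η => ?_
  let U := η.obj.fst
  let V := η.obj.snd
  let T := (overCat K).p.obj U
  have hV : (overCat K).p.obj V = T := FibProd.snd_obj η
  let φ' : f.obj (p.obj U) ≅ f.obj (p.obj V) :=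
    (appIso Θ U).symm ≪≫ iY.toFunctor.mapIso η.obj.iso ≪≫ appIso Θ V
  have h1 := appIso_isHomLift Θ U (S := T) rfl
  have h2 := appIso_isHomLift Θ V (S := T) hV
  have h3 : 𝒴.p.IsHomLift (𝟙 T) (appIso Θ U).inv := IsHomLift.lift_id_inv 𝒴.p T _
  have h4 : (fullSub 𝒴 Q').p.IsHomLift (𝟙 T) η.obj.iso.hom := η.property
  have h5 : 𝒴.p.IsHomLift (𝟙 T) (iY.map η.obj.iso.hom) := BasedFunctor.preserves_isHomLift iY _ _
  have hφ' : 𝒴.p.IsHomLift (𝟙 T) φ'.hom := by
    change 𝒴.p.IsHomLift (𝟙 T) ((appIso Θ U).inv ≫ iY.map η.obj.iso.hom ≫ (appIso Θ V).hom)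
    exact inferInstance
  let L := fpLift (fpFst p p) (fpSnd p p) e
  let tgt : (fp (BasedFunctor.comp p f) (BasedFunctor.comp p f)).obj :=
    Lib.Fibred.Fp.mkObj (F := BasedFunctor.comp p f) (G := BasedFunctor.comp p f) U V φ' hφ'
  obtain ⟨C, κ, hκ⟩ := BasedBasic.IsEquivOver.exists_iso hiso tgt
  let m₁ : C.obj.fst ≅ U := (fpFst (BasedFunctor.comp p f) (BasedFunctor.comp p f)).toFunctor.mapIso κ
  let m₂ : C.obj.snd ≅ V := (fpSnd (BasedFunctor.comp p f) (BasedFunctor.comp p f)).toFunctor.mapIso κ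
  have hκ' : (fp (BasedFunctor.comp p f) (BasedFunctor.comp p f)).p.IsHomLift (𝟙 T) κ.hom := hκ
  have hm₁ : (overCat K).p.IsHomLift (𝟙 T) m₁.hom := BasedFunctor.preserves_isHomLift
    (fpFst (BasedFunctor.comp p f) (BasedFunctor.comp p f)) _ κ.hom
  have hm₂ : (overCat K).p.IsHomLift (𝟙 T) m₂.hom := BasedFunctor.preserves_isHomLift
    (fpSnd (BasedFunctor.comp p f) (BasedFunctor.comp p f)) _ κ.hom
  have hm₁' : (overCat K).p.IsHomLift (𝟙 T) m₁.inv := IsHomLift.lift_id_inv _ T _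
  have hc : 𝒳.p.IsHomLift (𝟙 T) C.obj.iso.hom := by
    have : 𝒳.p.IsHomLift (𝟙 ((overCat K).p.obj C.obj.fst)) C.obj.iso.hom := C.property
    rwa [show (overCat K).p.obj C.obj.fst = T from IsHomLift.domain_eq (overCat K).p (𝟙 T) m₁.hom] at this
  let a' : p.obj U ≅ p.obj V := p.toFunctor.mapIso m₁.symm ≪≫ C.obj.iso ≪≫ p.toFunctor.mapIso m₂
  have ha' : f.map a'.hom = φ'.hom := by
    have w : f.map (p.map m₁.hom) ≫ φ'.hom = e.hom.toNatTrans.app C ≫ f.map (p.map m₂.hom) :=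
      Lib.Fibred.Fp.w κ.hom
    rw [he] at w
    change f.map (p.map m₁.inv ≫ C.obj.iso.hom ≫ p.map m₂.hom) = _
    rw [f.toFunctor.map_comp, f.toFunctor.map_comp, ← w, ← Category.assoc, ← f.toFunctor.map_comp,
      ← p.toFunctor.map_comp, Iso.inv_hom_id, p.toFunctor.map_id, f.toFunctor.map_id]
    exact Category.id_comp _
  have := (inferInstanceAs (ObjectProperty.ι Q).Full : iX.toFunctor.Full)
  have := (inferInstanceAs (ObjectProperty.ι Q).Faithful : iX.toFunctor.Faithful)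
  let a : q.obj U ≅ q.obj V :=
    iX.toFunctor.preimageIso ((appIso ε U) ≪≫ a' ≪≫ (appIso ε V).symm)
  have ha : iX.map a.hom = (appIso ε U).hom ≫ a'.hom ≫ (appIso ε V).inv :=
    iX.toFunctor.map_preimage _
  have haη : g.map a.hom = η.obj.iso.hom := by
    apply (ObjectProperty.ι Q').map_injective
    change iY.map (g.map a.hom) = iY.map η.obj.iso.hom
    rw [← cancel_mono (appIso Θ V).hom]
    erw [img U V a.hom a'.hom (by rw [ha]; simp)]
    rw [ha']
    change (appIso Θ U).hom ≫ ((appIso Θ U).inv ≫ iY.map η.obj.iso.hom ≫ (appIso Θ V).hom) = _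
    rw [Iso.hom_inv_id_assoc]
  have hal : (fullSub 𝒳 Q).p.IsHomLift (𝟙 T) a.hom := by
    refine (iX.isHomLift_iff _ _).1 ?_
    rw [ha]
    have h6 := appIso_isHomLift ε U (S := T) rfl
    have h7 := appIso_isHomLift ε V (S := T) hV
    have h8 : 𝒳.p.IsHomLift (𝟙 T) (appIso ε V).inv := IsHomLift.lift_id_inv 𝒳.p T _
    have h9 : 𝒳.p.IsHomLift (𝟙 T) (p.map m₁.inv) := BasedFunctor.preserves_isHomLift p _ _
    have h10 : 𝒳.p.IsHomLift (𝟙 T) (p.map m₂.hom) := BasedFunctor.preserves_isHomLift p _ _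
    have h11 : 𝒳.p.IsHomLift (𝟙 T) a'.hom := by
      change 𝒳.p.IsHomLift (𝟙 T) (p.map m₁.inv ≫ C.obj.iso.hom ≫ p.map m₂.hom)
      exact inferInstance
    exact inferInstance
  refine ⟨Lib.Fibred.Fp.mkObj U V a hal, Lib.Fibred.Fp.isoMk (Iso.refl _) (Iso.refl _) ?_, ?_⟩
  · change g.map (q.map (𝟙 U)) ≫ η.obj.iso.hom = g.map a.hom ≫ g.map (q.map (𝟙 V))
    rw [q.toFunctor.map_id, q.toFunctor.map_id, g.toFunctor.map_id, g.toFunctor.map_id, haη]
    exact (Category.id_comp _).trans (Category.comp_id _).symm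
  · exact (Lib.Fibred.Fp.isHomLift_iff _ _).2 (IsHomLift.id rfl)

end Groth.Agent.Lib.Gerbe.ResMap
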