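import Groth.Agent.Lib.Gerbe.ImageStack
import Groth.Prelude.Def_StGerb
import Mathlib.CategoryTheory.Sites.LocallyBijective

/-!
The sheaf of isomorphism classes of a category fibred in groupoids.
-/

set_option autoImplicit false
set_option backward.isDefEq.respectTransparency false
set_option backward.isDefEq.respectTransparency.types false

universe u

open CategoryTheory CategoryTheory.Limits AlgebraicGeometry Opposite

namespace Groth.Agent.Lib.Gerbe.Rigid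

open Groth.Agent.Lib.AlgStack
open FibCat (IsFibGrpd)
open AlgSt (ofSp)
open AlgSp (Sp)

variable {S : Scheme.{u}} {𝒳 : AlgSt.Cat S} (h : IsFibGrpd 𝒳.p)

/-- The sheaf associated to the isomorphism classes. -/
noncomputable def base : Sp S :=
  (presheafToSheaf (AlgSp.J S) (Type (u + 1))).obj (Yoneda.isoPsh h)

/-- The map to the sheaf of isomorphism classes. -/
noncomputable def proj : 𝒳 ⥤ᵇ ofSp (base h) :=
  BasedFunctor.comp (Yoneda.toIsoPsh h) (Stk.ofPshMap (toSheafify (AlgSp.J S) (Yoneda.isoPsh h)))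

/-- The class of an object seen over a given base. -/
noncomputable def cls {T : Over S} (x : 𝒳.obj) (hx : 𝒳.p.obj x = T) : (base h).obj.obj (op T) :=
  (toSheafify (AlgSp.J S) (Yoneda.isoPsh h)).app (op T) (Quotient.mk _ ⟨x, hx⟩)

theorem cls_map {T T' : Over S} (f : T' ⟶ T) {x x' : 𝒳.obj} (hx : 𝒳.p.obj x = T) (φ : x' ⟶ x)
    (hφ : 𝒳.p.IsHomLift f φ) :
    (base h).obj.map f.op (cls h x hx) = cls h x' (IsHomLift.domain_eq 𝒳.p f φ) := by
  have := hφ
  have e := Yoneda.restrict_mk h f (IsHomLift.domain_eq 𝒳.p f φ) hx φ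
  refine Eq.trans (NatTrans.naturality_apply (toSheafify (AlgSp.J S) (Yoneda.isoPsh h)) f.op _).symm ?_
  exact congrArg ((toSheafify (AlgSp.J S) (Yoneda.isoPsh h)).app (op T')) e

/-- Objects which are locally isomorphic have the same class. -/
theorem cls_eq_of_locally {T : Over S} {x y : 𝒳.obj} (hx : 𝒳.p.obj x = T) (hy : 𝒳.p.obj y = T)
    {R : Sieve T} (hR : R ∈ AlgSp.J S T)
    (hl : ∀ ⦃T' : Over S⦄ (f : T' ⟶ T), R f →
      ∃ (z : 𝒳.obj) (φ : z ⟶ x) (ψ : z ⟶ y), 𝒳.p.IsHomLift f φ ∧ 𝒳.p.IsHomLift f ψ) :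
    cls h x hx = cls h y hy := by
  refine (((isSheaf_iff_isSheaf_of_type _ _).1 (base h).property) R hR).isSeparatedFor.ext ?_
  intro T' f hf
  obtain ⟨z, φ, ψ, hφ, hψ⟩ := hl f hf
  exact (cls_map h f hx φ hφ).trans (cls_map h f hy ψ hψ).symm

theorem proj_sec (x : 𝒳.obj) : ((proj h).obj x).sec = cls h x rfl := rfl

/-- Equality of classes gives a morphism between the images. -/
theorem exists_proj_iso {x y : 𝒳.obj} (hy : 𝒳.p.obj y = 𝒳.p.obj x)
    (e : cls h x rfl = cls h y hy) :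
    ∃ ψ : (proj h).obj x ≅ (proj h).obj y, (ofSp (base h)).p.IsHomLift (𝟙 (𝒳.p.obj x)) ψ.hom := by
  have key : ∀ (T : Over S) (hT : 𝒳.p.obj y = T) (s : (base h).obj.obj (op T)), s = cls h y hT →
      ∃ ψ : (⟨T, s⟩ : Stk.EltObj (base h).obj) ≅ (proj h).obj y,
        (ofSp (base h)).p.IsHomLift (𝟙 T) ψ.hom := by
    intro T hT s hs
    subst hT hs
    exact ⟨Iso.refl _, IsHomLift.id rfl⟩
  exact key _ hy _ e

theorem locSurjObj_proj : Gerb.LocSurjObj (QuotSh.J Scheme.fppfPrecoverage S) (proj h) := by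
  intro y
  refine ⟨_, Presheaf.imageSieve_mem (AlgSp.J S) (toSheafify (AlgSp.J S) (Yoneda.isoPsh h)) y.sec,
    fun V f hf => ?_⟩
  obtain ⟨t, ht⟩ := hf
  obtain ⟨⟨x, hx⟩, rfl⟩ := Quotient.exists_rep t
  change 𝒳.p.obj x = V at hx
  subst hx
  let g : (proj h).obj x ⟶ y := ⟨f, ht.symm⟩
  exact ⟨x, g, IsHomLift.of_fac' _ _ _ rfl rfl (by
    change f = 𝟙 _ ≫ f ≫ 𝟙 _
    simp)⟩

theorem locSurjHom_proj : Gerb.LocSurjHom (QuotSh.J Scheme.fppfPrecoverage S) (proj h) := by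
  intro x x' b hb
  have hx' : 𝒳.p.obj x' = 𝒳.p.obj x :=
    ((proj h).w_obj x').symm.trans (IsHomLift.codomain_eq (ofSp (base h)).p (𝟙 (𝒳.p.obj x)) b)
  have hs : cls h x rfl = cls h x' hx' := by
    have key : ∀ (T : Over S) (hT : 𝒳.p.obj x' = T) (s : (base h).obj.obj (op T))
        (m : (⟨T, s⟩ : Stk.EltObj (base h).obj) ⟶ (proj h).obj x'),
        (ofSp (base h)).p.IsHomLift (𝟙 T) m → s = cls h x' hT := by
      intro T hT s m hm
      subst hT
      have h1 : m.hom = 𝟙 (𝒳.p.obj x') := by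
        have := IsHomLift.fac' (ofSp (base h)).p (𝟙 (𝒳.p.obj x')) m
        refine this.trans ?_
        simp
      have h2 := m.map_sec
      rw [h1, op_id] at h2
      erw [CategoryTheory.Functor.map_id] at h2
      exact h2.symm
    exact key _ hx' _ b hb
  refine ⟨_, Presheaf.equalizerSieve_mem (AlgSp.J S) (toSheafify (AlgSp.J S) (Yoneda.isoPsh h))
    (Quotient.mk _ ⟨x, rfl⟩ : (Yoneda.isoPsh h).obj (op (𝒳.p.obj x))) (Quotient.mk _ ⟨x', hx'⟩) hs, fun V f hf => ?_⟩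
  obtain ⟨z, φ, hφ⟩ := Fibred.Descent.exists_lift h (rfl : 𝒳.p.obj x = _) f
  obtain ⟨z', φ', hφ'⟩ := Fibred.Descent.exists_lift h hx' f
  have := hφ; have := hφ'
  have e1 := Yoneda.restrict_mk h f (IsHomLift.domain_eq 𝒳.p f φ) rfl φ
  have e2 := Yoneda.restrict_mk h f (IsHomLift.domain_eq 𝒳.p f φ') hx' φ'
  have e3 : Yoneda.restrict h f (Quotient.mk _ ⟨x, rfl⟩) = Yoneda.restrict h f (Quotient.mk _ ⟨x', hx'⟩) := hf
  rw [e1, e2] at e3
  obtain ⟨θ, hθ⟩ := Quotient.exact e3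
  change 𝒳.p.IsHomLift (𝟙 V) θ at hθ
  refine ⟨z, φ, θ ≫ φ', hφ, inferInstance, ?_⟩
  apply Stk.EltObj.hom_ext
  have h1 : b.hom = eqToHom hx'.symm := by
    have := IsHomLift.fac' (ofSp (base h)).p (𝟙 (𝒳.p.obj x)) b
    refine this.trans ?_
    simp
  have h2 : 𝒳.p.IsHomLift f (θ ≫ φ') := inferInstance
  change 𝒳.p.map φ ≫ b.hom = 𝒳.p.map (θ ≫ φ')
  rw [h1, IsHomLift.fac' 𝒳.p f φ, IsHomLift.fac' 𝒳.p f (θ ≫ φ')]
  simp

theorem isGerbeOver_proj : Gerb.IsGerbeOver (QuotSh.J Scheme.fppfPrecoverage S) (proj h) :=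
  ⟨locSurjObj_proj h, locSurjHom_proj h⟩

end Groth.Agent.Lib.Gerbe.Rigid
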