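import Groth.Agent.Lib.AlgStack.AutSpace
import Groth.Agent.H14.Sep.Cover

/-!
The automorphism group of a section of a gerbe over a scheme, pulled back along local isomorphisms
with an atlas.
-/

set_option autoImplicit false
set_option backward.isDefEq.respectTransparency false
set_option backward.isDefEq.respectTransparency.types false

universe u

open CategoryTheory CategoryTheory.Limits AlgebraicGeometry Opposite

namespace Groth.Agent.Lib.Gerbe.SectionAut

open Groth.Agent.Lib.AlgStack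
open FibCat (IsEquivOver IsFibGrpd fp fpFst fpSnd fpLift overCat toSelf inertia inertiaToBase)
open AlgSt (ofSp ofSpMap toOverCat RepByAlgSpWith)
open AlgSp (Sp yon IsAlgSpace)
open BasedBasic
open H14.Sep.Lft (vOf)

variable {S : Scheme.{u}} {𝒳 : AlgSt.Cat S} {U Z : Over S}

theorem theta_isHomLift {y : overCat Z ⥤ᵇ 𝒳} (o : (fp y (inertiaToBase (toSelf 𝒳))).obj) {R : Over S}
    (hR : (overCat Z).p.obj o.obj.fst = R) : 𝒳.p.IsHomLift (𝟙 R) (AutSpace.theta o) := by
  subst hR
  exact IsHomLift.of_fac' _ _ _ (y.w_obj o.obj.fst) (y.w_obj o.obj.fst) (by rw [AutSpace.map_theta]; simp)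

theorem isIso_theta {y : overCat Z ⥤ᵇ 𝒳} (o : (fp y (inertiaToBase (toSelf 𝒳))).obj) :
    IsIso (AutSpace.theta o) := by
  delta AutSpace.theta; infer_instance

/-- The automorphism as a natural isomorphism. -/
noncomputable def thetaIso (x : overCat U ⥤ᵇ 𝒳) (k : Z ⟶ U) :
    BasedFunctor.comp (fpFst (BasedFunctor.comp (vOf k) x) (inertiaToBase (toSelf 𝒳)))
        (BasedFunctor.comp (vOf k) x) ≅
      BasedFunctor.comp (BasedFunctor.comp (fpFst (BasedFunctor.comp (vOf k) x) (inertiaToBase (toSelf 𝒳)))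
        (vOf k)) x :=
  BasedNatIso.mkNatIso
    (NatIso.ofComponents (fun o => haveI := isIso_theta o; asIso (AutSpace.theta o))
      (fun m => AutSpace.theta_natural m))
    (fun o => theta_isHomLift o rfl)

/-- The comparison of automorphisms with isomorphisms to a pullback of the section. -/
noncomputable def toSelfProd (x : overCat U ⥤ᵇ 𝒳) (k : Z ⟶ U) :
    fp (BasedFunctor.comp (vOf k) x) (inertiaToBase (toSelf 𝒳)) ⥤ᵇ fp (BasedFunctor.comp (vOf k) x) x :=
  fpLift (fpFst _ _) (BasedFunctor.comp (fpFst _ _) (vOf k)) (thetaIso x k)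

variable {x : overCat U ⥤ᵇ 𝒳} (π : 𝒳 ⥤ᵇ overCat U)
  (e : BasedFunctor.comp x π ≅ BasedFunctor.id (overCat U))

include e in
theorem map_injective {a b : Over U} {f g : a ⟶ b} (h : π.map (x.map f) = π.map (x.map g)) : f = g := by
  have h1 : π.map (x.map f) ≫ (appIso e b).hom = (appIso e a).hom ≫ f := e.hom.toNatTrans.naturality f
  have h2 : π.map (x.map g) ≫ (appIso e b).hom = (appIso e a).hom ≫ g := e.hom.toNatTrans.naturality g
  rw [h] at h1
  exact (cancel_epi _).1 (h1.symm.trans h2)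

include e in
theorem isEquivOver_toSelfProd (h : IsFibGrpd 𝒳.p) (k : Z ⟶ U) : IsEquivOver (toSelfProd x k) := by
  have : (toSelfProd x k).toFunctor.Faithful := ⟨fun {o o' m m'} hm => by
    have h1 : m.hom.fst = m'.hom.fst := congrArg (fun t => t.hom.fst) hm
    refine FibProd.hom_ext h1 (FibCat.InertiaObj.hom_ext ?_)
    have w : (BasedFunctor.comp (vOf k) x).map m.hom.fst ≫ o'.obj.iso.hom = o.obj.iso.hom ≫ m.hom.snd.hom :=
      m.hom.w
    have w' : (BasedFunctor.comp (vOf k) x).map m'.hom.fst ≫ o'.obj.iso.hom = o.obj.iso.hom ≫ m'.hom.snd.hom :=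
      m'.hom.w
    rw [h1, w'] at w
    exact ((cancel_epi o.obj.iso.hom).1 w).symm⟩
  have : (toSelfProd x k).toFunctor.Full := ⟨fun {o o'} m => by
    let q := (BasedFunctor.comp (vOf k) x)
    have w : q.map m.hom.fst ≫ AutSpace.theta o' = AutSpace.theta o ≫ x.map m.hom.snd := m.hom.w
    have hπ : ∀ p : (fp q (inertiaToBase (toSelf 𝒳))).obj, π.map (AutSpace.theta p) = 𝟙 _ := fun p => by
      apply Over.OverMorphism.ext
      have hl : (overCat U).p.IsHomLift (𝟙 (𝒳.p.obj (q.obj p.obj.fst))) (π.map (AutSpace.theta p)) := by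
        have := theta_isHomLift p (q.w_obj p.obj.fst).symm
        infer_instance
      refine (IsHomLift.fac' (overCat U).p (𝟙 (𝒳.p.obj (q.obj p.obj.fst))) (π.map (AutSpace.theta p))).trans ?_
      simp; rfl
    have hsnd : (vOf k).map m.hom.fst = m.hom.snd := by
      refine map_injective π e ?_
      have := congrArg π.map w
      rw [π.toFunctor.map_comp, π.toFunctor.map_comp, hπ, hπ] at this
      exact (Category.comp_id _).symm.trans (this.trans (Category.id_comp _))
    have w2 : q.map m.hom.fst ≫ AutSpace.theta o' = AutSpace.theta o ≫ q.map m.hom.fst := by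
      rw [w, ← hsnd]; rfl
    let sn : o.obj.snd ⟶ o'.obj.snd := ⟨o.obj.iso.inv ≫ q.map m.hom.fst ≫ o'.obj.iso.hom, by
      have := congrArg (fun t => o.obj.iso.inv ≫ t ≫ o'.obj.iso.hom) w2.symm
      simpa [AutSpace.theta] using this⟩
    refine ⟨FibProd.homMk m.hom.fst sn ?_, FibProd.hom_ext rfl hsnd⟩
    change q.map m.hom.fst ≫ o'.obj.iso.hom = o.obj.iso.hom ≫ o.obj.iso.inv ≫ q.map m.hom.fst ≫ o'.obj.iso.hom
    rw [Iso.hom_inv_id_assoc]⟩
  refine BasedBasic.isEquivOver_of _ fun η => ?_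
  let v := η.obj.fst
  let u := η.obj.snd
  let i : x.obj ((vOf k).obj v) ≅ x.obj u := η.obj.iso
  have hi : 𝒳.p.IsHomLift (𝟙 ((overCat Z).p.obj v)) i.hom := η.property
  let m : (vOf k).obj v ≅ u := (appIso e ((vOf k).obj v)).symm ≪≫ π.toFunctor.mapIso i ≪≫ appIso e u
  have hm : (overCat U).p.IsHomLift (𝟙 ((overCat Z).p.obj v)) m.hom := by
    have hu : (overCat U).p.obj u = (overCat Z).p.obj v := FibProd.snd_obj η
    have h1 : (overCat U).p.IsHomLift (𝟙 ((overCat Z).p.obj v)) (appIso e ((vOf k).obj v)).hom := by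
      rw [← (vOf k).w_obj v]; exact appIso_isHomLift e _
    have h1' : (overCat U).p.IsHomLift (𝟙 ((overCat Z).p.obj v)) (appIso e ((vOf k).obj v)).inv :=
      IsHomLift.lift_id_inv _ _ _
    have h2 : (overCat U).p.IsHomLift (𝟙 ((overCat Z).p.obj v)) (appIso e u).hom := by
      rw [← hu]; exact appIso_isHomLift e u
    have h3 : (overCat U).p.IsHomLift (𝟙 ((overCat Z).p.obj v)) (π.map i.hom) := inferInstance
    change (overCat U).p.IsHomLift (𝟙 ((overCat Z).p.obj v))
      ((appIso e ((vOf k).obj v)).inv ≫ π.map i.hom ≫ (appIso e u).hom)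
    infer_instance
  have hxm : 𝒳.p.IsHomLift (𝟙 ((overCat Z).p.obj v)) (x.mapIso m).inv := by
    have : 𝒳.p.IsHomLift (𝟙 ((overCat Z).p.obj v)) (x.mapIso m).hom :=
      BasedFunctor.preserves_isHomLift x (𝟙 ((overCat Z).p.obj v)) m.hom
    exact IsHomLift.lift_id_inv _ _ _
  let θ := i ≪≫ (x.mapIso m).symm
  let z : (inertia (toSelf 𝒳)).obj := ⟨x.obj ((vOf k).obj v), θ, by
    have : 𝒳.p.IsHomLift (𝟙 ((overCat Z).p.obj v)) θ.hom := by
      change 𝒳.p.IsHomLift _ (i.hom ≫ (x.mapIso m).inv); infer_instance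
    refine (IsHomLift.fac' 𝒳.p (𝟙 ((overCat Z).p.obj v)) θ.hom).trans ?_
    simp; rfl⟩
  let o : (fp (BasedFunctor.comp (vOf k) x) (inertiaToBase (toSelf 𝒳))).obj :=
    FibProd.objMk v z (Iso.refl _) (IsHomLift.id ((BasedFunctor.comp (vOf k) x).w_obj v))
  refine ⟨o, ?_⟩
  obtain ⟨j, hj⟩ := FibProd.exists_iso_over (x := (toSelfProd x k).obj o) (y := η) (Iso.refl v) m (by
    change x.map ((vOf k).map (𝟙 v)) ≫ i.hom = AutSpace.theta o ≫ x.map m.hom
    rw [(vOf k).toFunctor.map_id, x.toFunctor.map_id, Category.id_comp]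
    simp [AutSpace.theta, o, z, θ, Category.assoc]
    erw [Category.id_comp]
    rw [← Functor.map_comp, Iso.inv_hom_id, CategoryTheory.Functor.map_id]
    exact (Category.comp_id _).symm)
    (IsHomLift.id rfl)
  exact ⟨j, hj⟩

variable {G : Over U.left} [GrpObj G]

include e in
/-- The composite of the projection of the base change of the automorphism space with a map to the base has the
properties of the pullback of the section along that map. -/
theorem prop_pullback {P : MorphismProperty (Sp S)} (hP : Space.RespectsIsoSp P)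
    (hPs : H14.Sep.SpProps.FromSchemes P) (h : IsFibGrpd 𝒳.p)
    {A : AlgSp.Space S} (E : ofSp A.obj ⥤ᵇ fp x (inertiaToBase (toSelf 𝒳))) (hE : IsEquivOver E)
    (k : Z ⟶ U) (hw : RepByAlgSpWith P (BasedFunctor.comp (vOf k) x)) :
    P (pullback.snd (AutSpace.gam E) ((yon S).map k) ≫ (yon S).map k) := by
  let I := inertiaToBase (toSelf 𝒳)
  let y := BasedFunctor.comp (vOf k) x
  have h0 : RepByAlgSpWith P (BasedFunctor.comp (fpFst y I) (vOf k)) :=
    (Rep.repByAlgSpWith_iff_of_isEquivOver (f := fpSnd y x)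
      (f' := BasedFunctor.comp (fpFst y I) (vOf k))
      (isEquivOver_toSelfProd π e h k) BasedBasic.isEquivOver_id (Iso.refl _)).1
      (H14.Sep.Rep.fpSnd_of x hw)
  have sq := IsPullback.of_hasPullback (AutSpace.gam E) ((yon S).map k)
  have := BasedBasic.IsEquivOver.full (Rep.isEquivOver_toOverCat U)
  have := BasedBasic.IsEquivOver.faithful (Rep.isEquivOver_toOverCat U)
  have h1 := Space.isEquivOver_sqLift (sq.map (sheafToPresheaf _ _)).flip
  have h2 := FibProd.isEquivOver_fpMap (toOverCat Z) E (toOverCat U)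
    (F := vOf k) (G := fpFst x I) (F' := ofSpMap ((yon S).map k)) (G' := ofSpMap (AutSpace.gam E))
    (Iso.refl _) (AutSpace.iota E) (Rep.isEquivOver_toOverCat Z) hE
  have h3 : RepByAlgSpWith P (ofSpMap (pullback.snd (AutSpace.gam E) ((yon S).map k) ≫ (yon S).map k)) :=
    (Rep.repByAlgSpWith_iff_of_isEquivOver (f := BasedFunctor.comp (fpFst y I) (vOf k))
      (f' := ofSpMap (pullback.snd (AutSpace.gam E) ((yon S).map k) ≫ (yon S).map k))
      (BasedBasic.IsEquivOver.comp (BasedBasic.IsEquivOver.comp h1 h2) (Rep.isEquivOver_pasteBase (vOf k) x I))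
      (Rep.isEquivOver_toOverCat U) (Iso.refl _)).1 h0
  exact H14.Sep.Rep.prop_of_ofSpMap hP hPs
    (Lib.AlgSpace.isAlgSpace_of_isPullback sq (IsAlgSpace.yon_obj U).diag A.property
      (IsAlgSpace.yon_obj Z)) (IsAlgSpace.yon_obj U) _ h3

end Groth.Agent.Lib.Gerbe.SectionAut
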