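import Groth.Agent.H14.FppfDesc.Scheme
import Groth.Agent.Lib.Flat55.FlatDescend
import Groth.Agent.Lib.AlgSpMor.Cancel

/-!
Flatness of a morphism with a section from flatness of composites with a jointly surjective family.
-/

set_option autoImplicit false
set_option backward.isDefEq.respectTransparency false

universe u

open CategoryTheory CategoryTheory.Limits AlgebraicGeometry

namespace Groth.Agent.Lib.Gerbe.SectionScheme

/-- A retract of a flat module is flat, in terms of ring maps. -/
theorem ringHom_flat_of_retract {A B C : Type u} [CommRing A] [CommRing B] [CommRing C]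
    (f : A →+* B) (g : B →+* C) (r : C →+* B) (hr : r.comp g = RingHom.id B)
    (h : (g.comp f).Flat) : f.Flat := by
  algebraize [f, g.comp f]
  let g' : B →ₐ[A] C := { g with commutes' := fun a => rfl }
  let r' : C →ₐ[A] B := { r with commutes' := fun a => RingHom.congr_fun hr (f a) }
  refine Module.Flat.of_retract g'.toLinearMap r'.toLinearMap ?_
  ext b
  exact RingHom.congr_fun hr b

/-- If a morphism followed by a retraction is flat, the target map is flat. -/
theorem flat_of_section {P V U : Scheme.{u}} (η : V ⟶ P) (q : P ⟶ V) (k : V ⟶ U)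
    (hη : η ≫ q = 𝟙 V) [Flat (q ≫ k)] : Flat k := by
  refine Flat.of_stalkMap k fun v => ?_
  have hk : k = η ≫ q ≫ k := by rw [← Category.assoc, hη, Category.id_comp]
  have h1 := Flat.stalkMap (q ≫ k) (η v)
  rw [Scheme.Hom.stalkMap_comp, CommRingCat.hom_comp] at h1
  have e : q (η v) = v := by rw [← Scheme.Hom.comp_apply, hη]; rfl
  have h2 : (q.stalkMap (η v) ≫ η.stalkMap v) =
      (V.presheaf.stalkCongr (.of_eq e)).hom := by
    rw [← Scheme.Hom.stalkMap_comp, Scheme.Hom.stalkMap_congr_hom (η ≫ q) (𝟙 V) hη]
    simp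
  have key := ringHom_flat_of_retract (k.stalkMap (q (η v))).hom (q.stalkMap (η v)).hom
    ((η.stalkMap v) ≫ (V.presheaf.stalkCongr (.of_eq e)).inv).hom (by
      rw [← CommRingCat.hom_comp, ← Category.assoc, h2, Iso.hom_inv_id]; rfl) h1
  have h4 : RingHom.Flat (k.stalkMap (η ≫ q |>.base v)).hom := key
  rw [hη] at h4
  exact h4

theorem lfp_of_section {P V U : Scheme.{u}} (η : V ⟶ P) (q : P ⟶ V) (k : V ⟶ U)
    (hη : η ≫ q = 𝟙 V) [LocallyOfFinitePresentation (q ≫ k)] : LocallyOfFinitePresentation k := by
  have : LocallyOfFiniteType q := locallyOfFiniteType_of_comp q k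
  have : LocallyOfFinitePresentation (η ≫ q) := by rw [hη]; infer_instance
  have : LocallyOfFinitePresentation η := AlgSpMor.Cancel.locallyOfFinitePresentation_of_comp (g := q) inferInstance inferInstance
  have hk : k = η ≫ q ≫ k := by rw [← Category.assoc, hη, Category.id_comp]
  rw [hk]; infer_instance

/-- A morphism whose base changes along a jointly surjective flat family, locally of finite presentation,
have flat, locally finitely presented composites to the base is flat and locally of finite presentation. -/
theorem flat_lfp_of_flat_family {Y U : Scheme.{u}} (g : Y ⟶ U)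
    {ι : Type u} (Z : ι → Scheme.{u}) (k : ∀ i, Z i ⟶ U)
    (hs : ∀ u : U, ∃ i, ∃ z : Z i, k i z = u)
    [∀ i, Flat (k i)] [∀ i, LocallyOfFinitePresentation (k i)]
    (hfl : ∀ i, Flat (pullback.snd g (k i) ≫ k i))
    (hfp : ∀ i, LocallyOfFinitePresentation (pullback.snd g (k i) ≫ k i)) :
    Flat g ∧ LocallyOfFinitePresentation g := by
  let κ : ∐ Z ⟶ U := Sigma.desc k
  have : Flat κ := IsZariskiLocalAtSource.sigmaDesc (P := @Flat) fun i => inferInstance
  have : LocallyOfFinitePresentation κ :=
    IsZariskiLocalAtSource.sigmaDesc (P := @LocallyOfFinitePresentation) fun i => inferInstance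
  have : Surjective κ := ⟨fun u => by
    obtain ⟨i, z, rfl⟩ := hs u
    exact ⟨Sigma.ι Z i z, by rw [← Scheme.Hom.comp_apply, Sigma.ι_desc]⟩⟩
  let 𝒰 := (sigmaOpenCover Z).pullback₁ (pullback.snd g κ)
  have hloc : ∀ (P : MorphismProperty Scheme.{u}) [IsZariskiLocalAtSource P],
      (∀ i, P (pullback.snd g (k i) ≫ k i)) → P (pullback.snd g κ ≫ κ) := by
    intro P _ hP
    refine IsZariskiLocalAtSource.of_openCover 𝒰 fun i => ?_
    change P (pullback.fst (pullback.snd g κ) (Sigma.ι Z i) ≫ pullback.snd g κ ≫ κ)
    have sq : IsPullback (pullback.fst (pullback.snd g κ) (Sigma.ι Z i) ≫ pullback.fst g κ)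
        (pullback.snd (pullback.snd g κ) (Sigma.ι Z i)) g (k i) := by
      have := (IsPullback.of_hasPullback (pullback.snd g κ) (Sigma.ι Z i)).paste_horiz
        (IsPullback.of_hasPullback g κ)
      rwa [show Sigma.ι Z i ≫ κ = k i from Sigma.ι_desc _ _] at this
    rw [pullback.condition_assoc, show Sigma.ι Z i ≫ κ = k i from Sigma.ι_desc _ _,
      ← sq.isoPullback_hom_snd, Category.assoc]
    exact (P.cancel_left_of_respectsIso _ _).2 (hP i)
  have a1 : Flat (pullback.fst g κ ≫ g) := by
    rw [pullback.condition]; exact hloc @Flat hfl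
  have a2 : LocallyOfFinitePresentation (pullback.fst g κ ≫ g) := by
    rw [pullback.condition]; exact hloc @LocallyOfFinitePresentation hfp
  exact ⟨Flat55.FlatDescend.flat_of_comp (pullback.fst g κ) g,
    H14.FppfDesc.Scheme.locallyOfFinitePresentation_of_comp (pullback.fst g κ) g a2⟩

/-- A morphism with a section whose base changes along a jointly surjective family have flat, locally
finitely presented composites to the base is flat and locally of finite presentation. -/
theorem flat_lfp_of_family {Y U : Scheme.{u}} (g : Y ⟶ U) (one : U ⟶ Y) (h1 : one ≫ g = 𝟙 U)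
    {ι : Type u} (Z : ι → Scheme.{u}) (k : ∀ i, Z i ⟶ U)
    (hs : ∀ u : U, ∃ i, ∃ z : Z i, k i z = u)
    (hfl : ∀ i, Flat (pullback.snd g (k i) ≫ k i))
    (hfp : ∀ i, LocallyOfFinitePresentation (pullback.snd g (k i) ≫ k i)) :
    Flat g ∧ LocallyOfFinitePresentation g := by
  have hη : ∀ i, pullback.lift (k i ≫ one) (𝟙 (Z i)) (by rw [Category.assoc, h1]; simp) ≫
      pullback.snd g (k i) = 𝟙 _ := fun i => pullback.lift_snd _ _ _
  have : ∀ i, Flat (k i) := fun i => have := hfl i; flat_of_section _ _ (k i) (hη i)
  have : ∀ i, LocallyOfFinitePresentation (k i) := fun i => have := hfp i; lfp_of_section _ _ (k i) (hη i)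
  exact flat_lfp_of_flat_family g Z k hs hfl hfp

end Groth.Agent.Lib.Gerbe.SectionScheme
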