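import Groth.Agent.Lib.Gerbe.SectionAut
import Groth.Agent.Lib.Gerbe.SectionScheme
import Groth.Agent.Lib.AlgStack.SliceEtale
import Groth.Agent.Lib.AlgSpace.QuotGrpd
import Groth.Agent.Lib.GrpdQuot.Quotient
import Groth.Agent.H14.Chart.LocQ
import Groth.Prelude.Def_StGerb

/-!
The automorphism group of a section of a gerbe over a scheme is flat and locally of finite presentation.
-/

set_option autoImplicit false
set_option backward.isDefEq.respectTransparency false
set_option backward.isDefEq.respectTransparency.types false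

universe u

open CategoryTheory CategoryTheory.Limits AlgebraicGeometry Opposite

namespace Groth.Agent.Lib.Gerbe.SectionFlat

open Groth.Agent.Lib.AlgStack
open FibCat (IsEquivOver IsFibGrpd fp fpFst fpSnd overCat toSelf inertia inertiaToBase diag)
open AlgSt (ofSp ofSpMap toOverCat RepByAlgSpWith IsAlgStack)
open AlgSp (Sp yon IsAlgSpace LocP RepWith)
open BasedBasic
open H14.Sep.Lft (vOf)

variable {S : Scheme.{u}} {𝒳 : AlgSt.Cat S} {U Z V : Over S}

/-- Maps of schemes give functors of slices with the same property. -/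
theorem locP_vOf {W : MorphismProperty Scheme.{u}} (hW : SourceDescent.Scheme.EtaleLocalST W) (g : Z ⟶ V)
    (hg : W g.left) : RepByAlgSpWith (LocP W) (vOf g) := by
  have := hW.baseChange
  have h0 : LocP W ((yon S).map g) :=
    AlgSpMor.LocP.locP_of_repWith hW ((AlgSp.repWith_yon_map_iff W g).2 hg)
  have h1 : RepByAlgSpWith (LocP W) (ofSpMap ((yon S).map g)) :=
    H14.Sep.Rep.ofSpMap_of (IsAlgSpace.yon_obj Z) (IsAlgSpace.yon_obj V) _ fun T ξ P' p q sq =>
      AlgSpMor.LocP.locP_of_isPullback hW (IsAlgSpace.yon_obj Z) (IsAlgSpace.yon_obj V)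
        (IsAlgSpace.yon_obj T) sq h0
  have h2 : RepByAlgSpWith (LocP W) (BasedFunctor.comp (ofSpMap ((yon S).map g)) (toOverCat V)) :=
    H14.Chart.LocQ.rep_postcomp_equiv (Rep.isEquivOver_toOverCat V) h1
  exact H14.Chart.LocQ.rep_precomp_equiv (E := AlgSt.ofOverCat Z)
    (f := BasedFunctor.comp (ofSpMap ((yon S).map g)) (toOverCat V)) (Rep.isEquivOver_ofOverCat Z) h2

/-- The statement read on schemes. -/
theorem prop_left {W : MorphismProperty Scheme.{u}} {G : Over U.left} [GrpObj G] {A : AlgSp.Space S}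
    {γ : A.obj ⟶ (yon S).obj U} (i : A.obj ≅ (yon S).obj (AutSpace.tot U G))
    (hi : i.hom ≫ (yon S).map (AutSpace.totπ U G) = γ) (k : Z ⟶ U)
    (h : LocP W (pullback.snd γ ((yon S).map k) ≫ (yon S).map k)) :
    W (pullback.snd G.hom k.left ≫ k.left) := by
  let P : Over S := Over.mk (pullback.snd G.hom k.left ≫ Z.hom)
  let p₁ : P ⟶ AutSpace.tot U G := Over.homMk (pullback.fst G.hom k.left) (by
    change _ ≫ G.hom ≫ U.hom = pullback.snd G.hom k.left ≫ Z.hom
    rw [pullback.condition_assoc, Over.w k])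
  let p₂ : P ⟶ Z := Over.homMk (pullback.snd G.hom k.left) rfl
  have sq : IsPullback ((yon S).map p₁) ((yon S).map p₂) ((yon S).map (AutSpace.totπ U G)) ((yon S).map k) :=
    (show IsPullback p₁ p₂ (AutSpace.totπ U G) k from IsPullback.of_map (Over.forget S)
      (Over.OverMorphism.ext pullback.condition) (IsPullback.of_hasPullback G.hom k.left)).map (yon S)
  have sq' : IsPullback ((yon S).map p₁ ≫ i.inv) ((yon S).map p₂) γ ((yon S).map k) :=
    sq.of_iso (Iso.refl _) i.symm (Iso.refl _) (Iso.refl _) (by simp) (by simp) (by simp [← hi]) (by simp)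
  exact h sq'.isoPullback.hom (𝟙 _) (p₂ ≫ k) (AlgSpace.repWith_of_isIso _ _)
    (AlgSpace.repWith_of_isIso _ _) (by simp)

variable (π : 𝒳 ⥤ᵇ overCat U) {x : overCat U ⥤ᵇ 𝒳} (e : BasedFunctor.comp x π ≅ BasedFunctor.id (overCat U))

include e in
/-- Local isomorphism between a chart and the section. -/
theorem exists_local_iso (h : IsFibGrpd 𝒳.p) (a : overCat V ⥤ᵇ 𝒳)
    (hπ : Gerb.LocSurjHom (QuotSh.J Scheme.fppfPrecoverage S) π) :
    ∃ (ι : Type u) (Zs : ι → Over S) (g : ∀ i, Zs i ⟶ V) (k₀ : V ⟶ U),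
      (∀ i, Flat (g i).left ∧ LocallyOfFinitePresentation (g i).left) ∧
      (∀ v : V.left, ∃ i z, (g i).left z = v) ∧
      (∀ i, Nonempty (BasedFunctor.comp (vOf (g i)) a ≅ BasedFunctor.comp (vOf (g i ≫ k₀)) x)) ∧
      ∀ (T : Over S) (c : Over V) (u : Over U) (θ : a.obj c ⟶ x.obj u), c.left = T →
        𝒳.p.IsHomLift (𝟙 T) θ → ∀ hu : u.left = c.left, eqToHom hu ≫ c.hom ≫ k₀ = u.hom := by
  let a₀ := a.obj (Over.mk (𝟙 V))
  let u₀ : Over U := π.obj a₀
  have hV : u₀.left = V := (π.w_obj a₀).trans (a.w_obj _)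
  let k₀ : V ⟶ U := eqToHom hV.symm ≫ u₀.hom
  let x₀ := x.obj u₀
  have hp : 𝒳.p.obj a₀ = V := a.w_obj _
  let b : π.obj a₀ ⟶ π.obj x₀ := (appIso e u₀).inv
  have hb : (overCat U).p.IsHomLift (𝟙 (𝒳.p.obj a₀)) b := by
    have h1 : (overCat U).p.IsHomLift (𝟙 (𝒳.p.obj a₀)) (appIso e u₀).hom := by
      rw [← π.w_obj a₀]; exact appIso_isHomLift e u₀
    exact IsHomLift.lift_id_inv _ _ _
  obtain ⟨R, hR, hl⟩ := hπ a₀ x₀ b hb
  obtain ⟨ι, Zs, g, p, hpc, hpg, hσ⟩ := AlgSpace.exists_fppfCover_of_mem hR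
  refine ⟨ι, Zs, fun i => g i ≫ eqToHom hp, k₀, fun i => ?_, fun v => ?_, fun i => ?_, ?_⟩
  · have hpf : Flat p.left := hpc.1.2
    have hpl : LocallyOfFinitePresentation p.left := hpc.2
    have : IsOpenImmersion (AlgSpace.sigmaOverι Zs i).left := inferInstanceAs (IsOpenImmersion (Sigma.ι _ _))
    dsimp only
    rw [← hpg i, Over.comp_left, Over.comp_left]
    constructor <;> infer_instance
  · obtain ⟨z, hz⟩ := hpc.1.1.surj ((eqToHom hp.symm).left v)
    obtain ⟨i, y, rfl⟩ := (sigmaOpenCover (fun i => (Zs i).left)).exists_eq z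
    refine ⟨i, y, ?_⟩
    change (g i ≫ eqToHom hp).left y = v
    rw [← hpg i, Over.comp_left, Over.comp_left, Scheme.Hom.comp_apply, Scheme.Hom.comp_apply]
    refine (congrArg (eqToHom hp).left hz).trans ?_
    rw [← Scheme.Hom.comp_apply, ← Over.comp_left, eqToHom_trans, eqToHom_refl]
    rfl
  · obtain ⟨x₁, φ, ψ, hφ, hψ, -⟩ := hl (g i) (hσ i)
    have hg' : 𝒳.p.IsHomLift (g i ≫ eqToHom hp) φ := by
      refine IsHomLift.of_fac' _ _ _ (IsHomLift.domain_eq 𝒳.p (g i) φ) hp ?_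
      rw [IsHomLift.fac' 𝒳.p (g i) φ]; simp
    have hx₀ : 𝒳.p.obj x₀ = V := (x.w_obj u₀).trans hV
    have hψ' : 𝒳.p.IsHomLift (g i ≫ eqToHom hp) ψ := by
      refine IsHomLift.of_fac' _ _ _ (IsHomLift.domain_eq 𝒳.p (g i) ψ) hx₀ ?_
      rw [IsHomLift.fac' 𝒳.p (g i) ψ]; simp
    let q : Over.mk ((g i ≫ eqToHom hp) ≫ k₀) ⟶ u₀ := Over.homMk ((g i ≫ eqToHom hp) ≫ eqToHom hV.symm) (by
      simp [k₀])
    have hq : 𝒳.p.IsHomLift (g i ≫ eqToHom hp) (x.map q) := by
      have : (overCat U).p.IsHomLift (g i ≫ eqToHom hp) q :=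
        IsHomLift.of_fac' _ _ _ rfl hV (by simp [q]; rfl)
      infer_instance
    let c : Over V := Over.mk (g i ≫ eqToHom hp)
    have hc : 𝒳.p.IsHomLift (g i ≫ eqToHom hp) (a.map (Yoneda.toId c)) :=
      Yoneda.map_toId_isHomLift a c
    obtain ⟨α₁, hα₁, -⟩ := Fibred.Descent.exists_factor h (a.map (Yoneda.toId c)) hc φ hg'
    obtain ⟨α₂, hα₂, -⟩ := Fibred.Descent.exists_factor h (x.map q) hq ψ hψ'
    have := isIso_of_isHomLift_id h (R := Zs i) α₁
    have hinv : 𝒳.p.IsHomLift (𝟙 (Zs i)) (inv α₁) :=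
      haveI : 𝒳.p.IsHomLift (𝟙 (Zs i)) (asIso α₁).hom := hα₁
      IsHomLift.lift_id_inv _ _ (asIso α₁)
    let θ : (BasedFunctor.comp (vOf (g i ≫ eqToHom hp)) a).obj (Over.mk (𝟙 (Zs i))) ⟶
        (BasedFunctor.comp (vOf ((g i ≫ eqToHom hp) ≫ k₀)) x).obj (Over.mk (𝟙 (Zs i))) :=
      eqToHom (congrArg a.obj (congrArg Over.mk
          (show 𝟙 (Zs i) ≫ (g i ≫ eqToHom hp) = g i ≫ eqToHom hp from Category.id_comp _))) ≫ (inv α₁ ≫ α₂) ≫
        eqToHom (congrArg x.obj (congrArg Over.mk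
          (show 𝟙 (Zs i) ≫ ((g i ≫ eqToHom hp) ≫ k₀) = (g i ≫ eqToHom hp) ≫ k₀ from Category.id_comp _))).symm
    have : 𝒳.p.IsHomLift (𝟙 (Zs i)) (inv α₁ ≫ α₂) := inferInstance
    have : 𝒳.p.IsHomLift (𝟙 (Zs i)) θ := by simp only [θ]; infer_instance
    obtain ⟨β, -⟩ := Yoneda.exists_iso_of_id h _ _ θ
    exact ⟨β⟩
  · intro T c u θ hc hθ hu
    subst hc
    have h1 : (overCat U).p.IsHomLift (𝟙 c.left) (π.map θ) := inferInstance
    have h2 : 𝒳.p.IsHomLift c.hom (a.map (Yoneda.toId c)) := Yoneda.map_toId_isHomLift a c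
    have h3 : (overCat U).p.IsHomLift c.hom (π.map (a.map (Yoneda.toId c))) := inferInstance
    have hx : 𝒳.p.obj (x.obj u) = c.left := (x.w_obj u).trans hu
    have h4 : (overCat U).p.IsHomLift (𝟙 c.left) (appIso e u).hom := by
      rw [← hu]; exact appIso_isHomLift e u
    have := isIso_of_isHomLift_id h (R := c.left) θ
    have f1 := IsHomLift.fac' (overCat U).p c.hom (π.map (a.map (Yoneda.toId c)))
    have f2 := IsHomLift.fac' (overCat U).p (𝟙 c.left) (π.map θ ≫ (appIso e u).hom)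
    have w1 : (π.map (a.map (Yoneda.toId c))).left ≫ u₀.hom = (π.obj (a.obj c)).hom := Over.w _
    have w2 : (π.map θ ≫ (appIso e u).hom).left ≫ u.hom = (π.obj (a.obj c)).hom := Over.w _
    change (π.map (a.map (Yoneda.toId c))).left = _ at f1
    change (π.map θ ≫ (appIso e u).hom).left = _ at f2
    rw [f1] at w1; rw [f2] at w2
    rw [← w2] at w1
    simp only [Category.assoc, Category.id_comp] at w1
    rw [cancel_epi, ← Category.assoc] at w1
    simp [k₀] at w1 ⊢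
    rw [w1]; simp

end Groth.Agent.Lib.Gerbe.SectionFlat

namespace Groth.Agent.Lib.Gerbe.SectionFlat

open Groth.Agent.Lib.AlgStack
open FibCat (IsEquivOver IsFibGrpd fp fpFst fpSnd overCat toSelf inertia inertiaToBase diag)
open AlgSt (ofSp ofSpMap toOverCat RepByAlgSpWith IsAlgStack)
open AlgSp (Sp yon IsAlgSpace LocP RepWith)
open BasedBasic
open H14.Sep.Lft (vOf)

variable {S : Scheme.{u}} {𝒳 : AlgSt.Cat S} {U : Over S}

/-- The automorphism group scheme of a section of a gerbe over a scheme is flat and locally of finite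
presentation. -/
theorem flat_lfp (h𝒳 : IsAlgStack Scheme.fppfPrecoverage 𝒳) (π : 𝒳 ⥤ᵇ overCat U)
    (hπ : Gerb.IsGerbeOver (QuotSh.J Scheme.fppfPrecoverage S) π) (x : overCat U ⥤ᵇ 𝒳)
    (e : BasedFunctor.comp x π ≅ BasedFunctor.id (overCat U)) (G : Over U.left) [GrpObj G]
    (r : Gerb.AutRep x (Gerb.ptsGrp U G)) : Flat G.hom ∧ LocallyOfFinitePresentation G.hom := by
  have hfib := h𝒳.isStack.1
  obtain ⟨V, a, has, ha⟩ := h𝒳.atlas
  have hfl := SliceEtale.flat_of_smooth has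
  have hfp := SliceEtale.lfp_of_smooth has
  obtain ⟨I, Zs, g, k₀, hg, hcov, hiso, hk⟩ := exists_local_iso π e hfib a hπ.2
  obtain ⟨A, E, hE, -⟩ := H14.Sep.Inertia.inertiaToBase_of_diag (Rep.repByAlgSpWith_top_iff.2 h𝒳.diag) U x
  obtain ⟨i, hi⟩ := AutSpace.exists_iso E r hfib hE
  have hprop : ∀ j, Flat (pullback.snd G.hom (g j ≫ k₀).left ≫ (g j ≫ k₀).left) ∧
      LocallyOfFinitePresentation (pullback.snd G.hom (g j ≫ k₀).left ≫ (g j ≫ k₀).left) := fun j => by
    obtain ⟨β⟩ := hiso j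
    have t1 : RepByAlgSpWith (LocP @Flat) (BasedFunctor.comp (vOf (g j ≫ k₀)) x) :=
      Rep.repByAlgSpWith_of_iso β (IsAlgFp.comp_locP SourceDescent.Scheme.flat (Yoneda.isFibGrpd_overCat _)
        (Yoneda.isFibGrpd_overCat _) (locP_vOf SourceDescent.Scheme.flat _ (hg j).1) hfl)
    have t2 : RepByAlgSpWith (LocP @LocallyOfFinitePresentation) (BasedFunctor.comp (vOf (g j ≫ k₀)) x) :=
      Rep.repByAlgSpWith_of_iso β (IsAlgFp.comp_locP SourceDescent.Scheme.locallyOfFinitePresentation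
        (Yoneda.isFibGrpd_overCat _) (Yoneda.isFibGrpd_overCat _)
        (locP_vOf SourceDescent.Scheme.locallyOfFinitePresentation _ (hg j).2) hfp)
    exact ⟨prop_left i hi _ (SectionAut.prop_pullback π e (IsAlgFp.respectsIsoSp_locP SourceDescent.Scheme.flat)
        (H14.Sep.SpProps.fromSchemes_locP SourceDescent.Scheme.flat) hfib E hE _ t1),
      prop_left i hi _ (SectionAut.prop_pullback π e
        (IsAlgFp.respectsIsoSp_locP SourceDescent.Scheme.locallyOfFinitePresentation)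
        (H14.Sep.SpProps.fromSchemes_locP SourceDescent.Scheme.locallyOfFinitePresentation) hfib E hE _ t2)⟩
  refine SectionScheme.flat_lfp_of_family G.hom (MonObj.one (X := G)).left (Over.w (MonObj.one (X := G))) (fun j => (Zs j).left)
    (fun j => (g j ≫ k₀).left) (fun q => ?_) (fun j => (hprop j).1) fun j => (hprop j).2
  obtain ⟨T, s, hs, u, ⟨α⟩⟩ := H14.Sep.Cover.exists_lift hfl hfp ha x
  have := hs.2.2
  obtain ⟨t, rfl⟩ := s.left.surjective q
  let o : Over T := Over.mk (𝟙 T)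
  let c : Over V := u.obj o
  have hc : c.left = T := u.w_obj o
  have hθ : 𝒳.p.IsHomLift (𝟙 T) (appIso α o).inv :=
    haveI : 𝒳.p.IsHomLift (𝟙 T) (appIso α o).hom := appIso_isHomLift α o
    IsHomLift.lift_id_inv _ _ _
  have key := hk T c ((vOf s).obj o) (appIso α o).inv hc hθ hc.symm
  obtain ⟨j, z, hz⟩ := hcov (c.hom.left ((eqToHom hc.symm).left t))
  refine ⟨j, z, ?_⟩
  rw [Over.comp_left, Scheme.Hom.comp_apply, hz, ← Scheme.Hom.comp_apply, ← Scheme.Hom.comp_apply,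
    ← Over.comp_left, ← Over.comp_left, key]
  change ((𝟙 T) ≫ s).left t = _
  rw [Category.id_comp]

end Groth.Agent.Lib.Gerbe.SectionFlat
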