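import Groth.Agent.Lib.Gerbe.SectionFlat
import Groth.Agent.Lib.AlgSpace.Diag
import Groth.Agent.Lib.SpQuot.Space
import Groth.Agent.Lib.AlgSpMor.RepBySp
import Groth.Agent.H14.IsoNat.Main

/-!
Sections of gerbes over schemes are flat, locally of finite presentation and surjective.
-/

set_option autoImplicit false
set_option backward.isDefEq.respectTransparency false
set_option backward.isDefEq.respectTransparency.types false

universe u

open CategoryTheory CategoryTheory.Limits AlgebraicGeometry Opposite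

namespace Groth.Agent.Lib.Gerbe.SectionSpace

open Groth.Agent.Lib.AlgStack
open Groth.Agent.Lib.AlgSpace
open AlgSp (Sp yon IsAlgSpace LocP RepWith)

variable {S : Scheme.{u}} {U Z : Over S}

/-- A map to the base is flat and locally of finite presentation if the composite from a space with a
section is. -/
theorem flat_lfp_of_section {P' : Sp S} (hP' : IsAlgSpace P') (q : P' ⟶ (yon S).obj Z)
    (σ : (yon S).obj Z ⟶ P') (hσ : σ ≫ q = 𝟙 _) (k : Z ⟶ U)
    (hfl : LocP @Flat (q ≫ (yon S).map k)) (hfp : LocP @LocallyOfFinitePresentation (q ≫ (yon S).map k)) :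
    Flat k.left ∧ LocallyOfFinitePresentation k.left := by
  obtain ⟨W, p, hp, hps⟩ := hP'.atlas
  obtain ⟨W', ω, q', sq⟩ := exists_isPullback_yon hP'.diag p σ
  have : Etale q'.left := repWith_property hp sq
  have : Surjective q'.left := repWith_property hps sq
  obtain ⟨l, hl⟩ := (yon S).map_surjective (p ≫ q)
  have hωl : ω ≫ l = q' := (yon S).map_injective (by
    rw [Functor.map_comp, hl, reassoc_of% sq.w, hσ, Category.comp_id])
  let pr : pullback l.left q'.left ⟶ W'.left := pullback.snd _ _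
  have hsec : pullback.lift ω.left (𝟙 _) (by rw [← Over.comp_left, hωl]; simp) ≫ pr = 𝟙 W'.left :=
    pullback.lift_snd _ _ _
  have e : pr ≫ q'.left ≫ k.left = pullback.fst l.left q'.left ≫ (l ≫ k).left := by
    rw [Over.comp_left]; exact (pullback.condition_assoc _).symm
  have w : p ≫ q ≫ (yon S).map k = (yon S).map (l ≫ k) ≫ 𝟙 _ := by
    rw [Category.comp_id, Functor.map_comp, hl, Category.assoc]
  have : Flat (l ≫ k).left := hfl p (𝟙 _) (l ≫ k) hp (repWith_of_isIso _ _) w
  have : LocallyOfFinitePresentation (l ≫ k).left := hfp p (𝟙 _) (l ≫ k) hp (repWith_of_isIso _ _) w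
  have : Flat (pr ≫ q'.left ≫ k.left) := by rw [e]; infer_instance
  have : LocallyOfFinitePresentation (pr ≫ q'.left ≫ k.left) := by rw [e]; infer_instance
  have : Flat (q'.left ≫ k.left) := SectionScheme.flat_of_section _ pr _ hsec
  have h2 : LocallyOfFinitePresentation (q'.left ≫ k.left) := SectionScheme.lfp_of_section _ pr _ hsec
  exact ⟨Flat55.FlatDescend.flat_of_comp q'.left k.left,
    H14.FppfDesc.Scheme.locallyOfFinitePresentation_of_comp q'.left k.left h2⟩

/-- A space over a scheme is flat and locally of finite presentation if its base changes along a jointly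
surjective family through which it has sections have flat, locally finitely presented composites. -/
theorem locP_of_family {A : Sp S} (hA : IsAlgSpace A) (γ : A ⟶ (yon S).obj U)
    {I : Type u} (Zs : I → Over S) (k : ∀ i, Zs i ⟶ U) (hk : ∀ q : U.left, ∃ i z, (k i).left z = q)
    (hsec : ∀ i, ∃ c : (yon S).obj (Zs i) ⟶ A, c ≫ γ = (yon S).map (k i))
    (hfl : ∀ i, LocP @Flat (pullback.snd γ ((yon S).map (k i)) ≫ (yon S).map (k i)))
    (hfp : ∀ i, LocP @LocallyOfFinitePresentation (pullback.snd γ ((yon S).map (k i)) ≫ (yon S).map (k i))) :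
    LocP @Flat γ ∧ LocP @LocallyOfFinitePresentation γ := by
  have hkl : ∀ i, Flat (k i).left ∧ LocallyOfFinitePresentation (k i).left := fun i => by
    obtain ⟨c, hc⟩ := hsec i
    exact flat_lfp_of_section
      (isAlgSpace_of_isPullback (IsPullback.of_hasPullback γ ((yon S).map (k i)))
        (IsAlgSpace.yon_obj U).diag hA (IsAlgSpace.yon_obj (Zs i)))
      (pullback.snd γ ((yon S).map (k i))) (pullback.lift c (𝟙 _) (by simp [hc])) (pullback.lift_snd _ _ _)
      (k i) (hfl i) (hfp i)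
  have := fun i => (hkl i).1
  have := fun i => (hkl i).2
  obtain ⟨W, p, hp, hps⟩ := hA.atlas
  obtain ⟨g, hg⟩ := (yon S).map_surjective (p ≫ γ)
  have key : ∀ i, Flat (pullback.snd g.left (k i).left ≫ (k i).left) ∧
      LocallyOfFinitePresentation (pullback.snd g.left (k i).left ≫ (k i).left) := fun i => by
    let P : Over S := Over.mk (pullback.snd g.left (k i).left ≫ (Zs i).hom)
    let p₁ : P ⟶ W := Over.homMk (pullback.fst g.left (k i).left) (by
      change _ ≫ W.hom = pullback.snd g.left (k i).left ≫ (Zs i).hom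
      rw [← Over.w g, pullback.condition_assoc, Over.w (k i)])
    let p₂ : P ⟶ Zs i := Over.homMk (pullback.snd g.left (k i).left) rfl
    have sq : IsPullback ((yon S).map p₁) ((yon S).map p₂) ((yon S).map g) ((yon S).map (k i)) :=
      (show IsPullback p₁ p₂ g (k i) from IsPullback.of_map (Over.forget S)
        (Over.OverMorphism.ext pullback.condition) (IsPullback.of_hasPullback g.left (k i).left)).map (yon S)
    rw [hg] at sq
    let a : (yon S).obj P ⟶ pullback γ ((yon S).map (k i)) :=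
      pullback.lift ((yon S).map p₁ ≫ p) ((yon S).map p₂) (by rw [Category.assoc]; exact sq.w)
    have sqa : IsPullback a ((yon S).map p₁) (pullback.fst γ ((yon S).map (k i))) p :=
      IsPullback.of_right (by simpa [a] using sq.flip) (by simp [a]) (IsPullback.of_hasPullback γ _).flip
    have ha : RepWith @Etale a := repWith_baseChange sqa.flip hp
    have w : a ≫ pullback.snd γ ((yon S).map (k i)) ≫ (yon S).map (k i) = (yon S).map (p₂ ≫ k i) ≫ 𝟙 _ := by
      simp [a]
    exact ⟨hfl i a (𝟙 _) (p₂ ≫ k i) ha (repWith_of_isIso _ _) w,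
      hfp i a (𝟙 _) (p₂ ≫ k i) ha (repWith_of_isIso _ _) w⟩
  obtain ⟨g1, g2⟩ := SectionScheme.flat_lfp_of_flat_family g.left (fun i => (Zs i).left) (fun i => (k i).left)
    hk (fun i => (key i).1) fun i => (key i).2
  have w : p ≫ γ = (yon S).map g ≫ 𝟙 _ := by rw [Category.comp_id, hg]
  exact ⟨AlgSpMor.LocP.locP_of_chart SourceDescent.Scheme.flat hA.diag (IsAlgSpace.yon_obj U).diag hp hps
      (repWith_of_isIso _ _) w g1,
    AlgSpMor.LocP.locP_of_chart SourceDescent.Scheme.locallyOfFinitePresentation hA.diag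
      (IsAlgSpace.yon_obj U).diag hp hps (repWith_of_isIso _ _) w g2⟩

/-- A property of maps to a scheme which descends along fppf covers may be checked on a jointly surjective
flat family, locally of finite presentation. -/
theorem locP_local {P : MorphismProperty Scheme.{u}} (hP : SourceDescent.Scheme.EtaleLocalST P)
    [IsZariskiLocalAtTarget P]
    [P.DescendsAlong (@Surjective ⊓ @Flat ⊓ @LocallyOfFinitePresentation : MorphismProperty Scheme.{u})]
    {A : Sp S} (hA : IsAlgSpace A) {V : Over S} (γ : A ⟶ (yon S).obj V)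
    {I : Type u} (Zs : I → Over S) (g : ∀ i, Zs i ⟶ V)
    (hg : ∀ i, Flat (g i).left ∧ LocallyOfFinitePresentation (g i).left)
    (hcov : ∀ v : V.left, ∃ i z, (g i).left z = v)
    (h : ∀ i, LocP P (pullback.snd γ ((yon S).map (g i)))) : LocP P γ := by
  obtain ⟨W, p, hp, hps⟩ := hA.atlas
  obtain ⟨m, hm⟩ := (yon S).map_surjective (p ≫ γ)
  have key : ∀ i, P (pullback.snd m.left (g i).left) := fun i => by
    let Q : Over S := Over.mk (pullback.snd m.left (g i).left ≫ (Zs i).hom)
    let p₁ : Q ⟶ W := Over.homMk (pullback.fst m.left (g i).left) (by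
      change _ ≫ W.hom = pullback.snd m.left (g i).left ≫ (Zs i).hom
      rw [← Over.w m, pullback.condition_assoc, Over.w (g i)])
    let p₂ : Q ⟶ Zs i := Over.homMk (pullback.snd m.left (g i).left) rfl
    have sq : IsPullback ((yon S).map p₁) ((yon S).map p₂) ((yon S).map m) ((yon S).map (g i)) :=
      (show IsPullback p₁ p₂ m (g i) from IsPullback.of_map (Over.forget S)
        (Over.OverMorphism.ext pullback.condition) (IsPullback.of_hasPullback m.left (g i).left)).map (yon S)
    rw [hm] at sq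
    let a : (yon S).obj Q ⟶ pullback γ ((yon S).map (g i)) :=
      pullback.lift ((yon S).map p₁ ≫ p) ((yon S).map p₂) (by rw [Category.assoc]; exact sq.w)
    have sqa : IsPullback a ((yon S).map p₁) (pullback.fst γ ((yon S).map (g i))) p :=
      IsPullback.of_right (by simpa [a] using sq.flip) (by simp [a]) (IsPullback.of_hasPullback γ _).flip
    exact h i a (𝟙 _) p₂ (repWith_baseChange sqa.flip hp) (repWith_of_isIso _ _) (by simp [a])
  let κ : ∐ (fun i => (Zs i).left) ⟶ V.left := Sigma.desc fun i => (g i).left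
  have hf : Flat κ := IsZariskiLocalAtSource.sigmaDesc (P := @Flat) fun i => (hg i).1
  have hl : LocallyOfFinitePresentation κ :=
    IsZariskiLocalAtSource.sigmaDesc (P := @LocallyOfFinitePresentation) fun i => (hg i).2
  have hs : Surjective κ := ⟨fun v => by
    obtain ⟨i, z, rfl⟩ := hcov v
    exact ⟨Sigma.ι (fun i => (Zs i).left) i z, by rw [← Scheme.Hom.comp_apply, Sigma.ι_desc]⟩⟩
  have h2 : P (pullback.snd m.left κ) := IsZariskiLocalAtTarget.of_openCover (sigmaOpenCover _) fun i => by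
    change P (pullback.snd (pullback.snd m.left κ) (Sigma.ι (fun i => (Zs i).left) i))
    have sq : IsPullback (pullback.fst (pullback.snd m.left κ) (Sigma.ι (fun i => (Zs i).left) i) ≫ pullback.fst m.left κ)
        (pullback.snd (pullback.snd m.left κ) (Sigma.ι (fun i => (Zs i).left) i)) m.left (g i).left := by
      have := (IsPullback.of_hasPullback (pullback.snd m.left κ) (Sigma.ι (fun i => (Zs i).left) i)).paste_horiz
        (IsPullback.of_hasPullback m.left κ)
      rwa [show Sigma.ι (fun i => (Zs i).left) i ≫ κ = (g i).left from Sigma.ι_desc _ _] at this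
    rw [← sq.isoPullback_hom_snd]
    exact (P.cancel_left_of_respectsIso _ _).2 (key i)
  have h3 : P m.left := MorphismProperty.of_pullback_snd_of_descendsAlong
    (Q := (@Surjective ⊓ @Flat ⊓ @LocallyOfFinitePresentation : MorphismProperty Scheme.{u}))
    (f := m.left) (g := κ) ⟨⟨hs, hf⟩, hl⟩ h2
  exact AlgSpMor.LocP.locP_of_chart hP hA.diag (IsAlgSpace.yon_obj V).diag hp hps
    (repWith_of_isIso _ _) (show p ≫ γ = (yon S).map m ≫ 𝟙 _ by rw [Category.comp_id, hm]) h3

end Groth.Agent.Lib.Gerbe.SectionSpace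

namespace Groth.Agent.Lib.Gerbe.SectionSpace

open Groth.Agent.Lib.AlgStack
open Groth.Agent.Lib.AlgSpace
open FibCat (IsEquivOver IsFibGrpd fp fpFst fpSnd fpLift overCat toSelf inertia inertiaToBase inertiaNeutral)
open AlgSt (ofSp ofSpMap toOverCat spMapOfOver RepByAlgSpWith RepByAlgSp1 IsAlgStack)
open AlgSp (Sp yon IsAlgSpace LocP RepWith Points)
open BasedBasic
open H14.Sep.Lft (vOf)
open H14.Sep.SpProps (StableBC FromSchemes)

variable {S : Scheme.{u}} {𝒳 : AlgSt.Cat S} {U V : Over S} {P : MorphismProperty (Sp S)}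

/-- The unit section of the automorphism space. -/
theorem exists_unit {x : overCat U ⥤ᵇ 𝒳} {A : AlgSp.Space S}
    (E : ofSp A.obj ⥤ᵇ fp x (inertiaToBase (toSelf 𝒳))) (hE : IsEquivOver E) :
    ∃ σ : (yon S).obj U ⟶ A.obj, σ ≫ AutSpace.gam E = 𝟙 _ := by
  obtain ⟨i, hi, -, ⟨η⟩⟩ := BasedBasic.IsEquivOver.exists_inverse hE
  let Φ : overCat U ⥤ᵇ fp x (inertiaToBase (toSelf 𝒳)) :=
    fpLift (BasedFunctor.id (overCat U)) (BasedFunctor.comp x (inertiaNeutral (toSelf 𝒳))) (Iso.refl x)
  let Ψ := BasedFunctor.comp (toOverCat U) (BasedFunctor.comp Φ i)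
  refine ⟨Space.spHom Ψ, ?_⟩
  rw [AutSpace.gam, ← Rep.spMapOfOver_precomp]
  refine (Rep.spMapOfOver_eq_of_iso (Φ' := toOverCat U) ?_).trans ?_
  · exact isoWhiskerRight (OfPsh.isoOfPshMap Ψ).symm _ ≪≫
      isoWhiskerRight (isoWhiskerLeft (BasedFunctor.comp (toOverCat U) Φ) η) (fpFst x (inertiaToBase (toSelf 𝒳)))
  · refine Eq.trans ?_ (Rep.spMapOfOver_ofSpMap_toOverCat (𝟙 ((yon S).obj U)))
    exact congrArg spMapOfOver rfl

/-- A property read on the base change of a fibre product with a scheme gives it for the pullback. -/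
theorem prop_snd (hP : StableBC P) (hPs : FromSchemes P) {Z : Over S} {y : overCat V ⥤ᵇ 𝒳}
    {f : overCat U ⥤ᵇ 𝒳} {W : AlgSp.Space S} (e : ofSp W.obj ⥤ᵇ fp y f) (he : IsEquivOver e) (g : Z ⟶ V)
    (h : RepByAlgSpWith P (fpFst (BasedFunctor.comp (vOf g) y) f)) :
    P (pullback.snd (spMapOfOver (BasedFunctor.comp e (fpFst y f))) ((yon S).map g)) := by
  set γ := spMapOfOver (BasedFunctor.comp e (fpFst y f))
  have sq := IsPullback.of_hasPullback γ ((yon S).map g)
  have := BasedBasic.IsEquivOver.full (Rep.isEquivOver_toOverCat V)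
  have := BasedBasic.IsEquivOver.faithful (Rep.isEquivOver_toOverCat V)
  have h1 := Space.isEquivOver_sqLift (sq.map (sheafToPresheaf _ _)).flip
  have h2 := FibProd.isEquivOver_fpMap (toOverCat Z) e (toOverCat V)
    (F := vOf g) (G := fpFst y f) (F' := ofSpMap ((yon S).map g)) (G' := ofSpMap γ)
    (Iso.refl _) (Rep.isoSpMapOfOver (BasedFunctor.comp e (fpFst y f))) (Rep.isEquivOver_toOverCat Z) he
  exact H14.Sep.Rep.prop_of_ofSpMap (H14.Sep.Rep.respectsIsoSp hP) hPs
    (isAlgSpace_of_isPullback sq (IsAlgSpace.yon_obj V).diag W.property (IsAlgSpace.yon_obj Z))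
    (IsAlgSpace.yon_obj Z) _
    ((Rep.repByAlgSpWith_iff_of_isEquivOver (f := fpFst (BasedFunctor.comp (vOf g) y) f)
      (f' := ofSpMap (pullback.snd γ ((yon S).map g)))
      (BasedBasic.IsEquivOver.comp (BasedBasic.IsEquivOver.comp h1 h2) (Rep.isEquivOver_pasteBase (vOf g) y f))
      (Rep.isEquivOver_toOverCat Z) (Iso.refl _)).1 h)

/-- A property of the map of a representing space is one of the projection. -/
theorem rep_fpFst (hP : StableBC P) {𝒵 : AlgSt.Cat S} {y : overCat V ⥤ᵇ 𝒳}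
    {f : 𝒵 ⥤ᵇ 𝒳} {W : AlgSp.Space S} (e : ofSp W.obj ⥤ᵇ fp y f) (he : IsEquivOver e)
    (h : P (spMapOfOver (BasedFunctor.comp e (fpFst y f)))) : RepByAlgSpWith P (fpFst y f) :=
  (Rep.repByAlgSpWith_iff_of_isEquivOver (f := fpFst y f)
    (f' := ofSpMap (spMapOfOver (BasedFunctor.comp e (fpFst y f))))
    he (Rep.isEquivOver_toOverCat V) (Rep.isoSpMapOfOver _).symm).2
    (H14.Sep.Rep.ofSpMap_of W.property (IsAlgSpace.yon_obj V) _ fun T ξ P' p q sq =>
      hP W.property (IsAlgSpace.yon_obj V)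
        (isAlgSpace_of_isPullback sq (IsAlgSpace.yon_obj V).diag W.property (IsAlgSpace.yon_obj T))
        (IsAlgSpace.yon_obj T) _ _ _ _ sq h)

/-- The properties of the section from those of its automorphisms, along a family. -/
theorem rep_of_family (hP : StableBC P) (hPs : FromSchemes P) (hd : H14.Sep.Cover.Descends P)
    (hloc : ∀ {W : Sp S} (_ : IsAlgSpace W) (γ : W ⟶ (yon S).obj V) {I : Type u} (Zs : I → Over S)
      (g : ∀ i, Zs i ⟶ V), (∀ i, Flat (g i).left ∧ LocallyOfFinitePresentation (g i).left) →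
        (∀ v : V.left, ∃ i z, (g i).left z = v) → (∀ i, P (pullback.snd γ ((yon S).map (g i)))) → P γ)
    (h𝒳 : IsAlgStack Scheme.fppfPrecoverage 𝒳) (π : 𝒳 ⥤ᵇ overCat U) (x : overCat U ⥤ᵇ 𝒳)
    (e : BasedFunctor.comp x π ≅ BasedFunctor.id (overCat U))
    (a : overCat V ⥤ᵇ 𝒳) (hfl : RepByAlgSpWith (LocP @Flat) a)
    (hfp : RepByAlgSpWith (LocP @LocallyOfFinitePresentation) a)
    (ha : RepByAlgSpWith AlgSp.IsSurjectiveMor a)
    {I : Type u} (Zs : I → Over S) (g : ∀ i, Zs i ⟶ V) (k₀ : V ⟶ U)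
    (hg : ∀ i, Flat (g i).left ∧ LocallyOfFinitePresentation (g i).left)
    (hcov : ∀ v : V.left, ∃ i z, (g i).left z = v)
    (hiso : ∀ i, Nonempty (BasedFunctor.comp (vOf (g i)) a ≅ BasedFunctor.comp (vOf (g i ≫ k₀)) x))
    {A : AlgSp.Space S} (E : ofSp A.obj ⥤ᵇ fp x (inertiaToBase (toSelf 𝒳))) (hE : IsEquivOver E)
    (hA : P (AutSpace.gam E)) : RepByAlgSpWith P x := by
  let J := inertiaToBase (toSelf 𝒳)
  have hx : RepByAlgSp1 x := Diag.repByAlgSp1_diag_iff.1 h𝒳.diag U x
  have hI := rep_fpFst hP E hE hA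
  have hk : ∀ {Z : Over S} (k : Z ⟶ U), RepByAlgSpWith P (fpFst (BasedFunctor.comp (vOf k) x) x) := fun k => by
    have h1 : RepByAlgSpWith P (fpFst (BasedFunctor.comp (vOf k) x) J) :=
      (Rep.repByAlgSpWith_iff_of_isEquivOver (f := fpFst (BasedFunctor.comp (vOf k) x) J)
        (f' := fpFst (vOf k) (fpFst x J))
        (Rep.isEquivOver_pasteBase (vOf k) x J) BasedBasic.isEquivOver_id
        (eqToIso (Rep.pasteBase_fst (vOf k) x J).symm)).2 (Rep.repByAlgSpWith_fpFst (vOf k) hI)
    exact (Rep.repByAlgSpWith_iff_of_isEquivOver (f := fpFst (BasedFunctor.comp (vOf k) x) x)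
      (f' := fpFst (BasedFunctor.comp (vOf k) x) J)
      (SectionAut.isEquivOver_toSelfProd π e h𝒳.isStack.1 k) BasedBasic.isEquivOver_id (Iso.refl _)).2 h1
  obtain ⟨W, w, hw⟩ := hx V a
  have hγ : P (spMapOfOver (BasedFunctor.comp w (fpFst a x))) := hloc W.property _ Zs g hg hcov fun i => by
    obtain ⟨β⟩ := hiso i
    refine prop_snd hP hPs w hw (g i) ?_
    exact (Rep.repByAlgSpWith_iff_of_isEquivOver (f := fpFst (BasedFunctor.comp (vOf (g i)) a) x)
      (f' := fpFst (BasedFunctor.comp (vOf (g i ≫ k₀)) x) x)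
      (FibProd.isEquivOver_congrLeft β.symm x) BasedBasic.isEquivOver_id
      (eqToIso (FibProd.congrLeft_fst β.symm x).symm)).2 (hk _)
  have hWx := rep_fpFst hP w hw hγ
  refine H14.Sep.Cover.rep_descend hP hPs hd hx fun T z => ?_
  obtain ⟨T', s, hs, u, ⟨α⟩⟩ := H14.Sep.Cover.exists_lift hfl hfp ha z
  refine ⟨T', s, hs, ?_⟩
  have hA' : RepByAlgSpWith P (fpFst (BasedFunctor.comp u a) x) :=
    (Rep.repByAlgSpWith_iff_of_isEquivOver (f := fpFst (BasedFunctor.comp u a) x)
      (f' := fpFst u (fpFst a x))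
      (Rep.isEquivOver_pasteBase u a x) BasedBasic.isEquivOver_id
      (eqToIso (Rep.pasteBase_fst u a x).symm)).2 (Rep.repByAlgSpWith_fpFst u hWx)
  exact (Rep.repByAlgSpWith_iff_of_isEquivOver (f := fpFst (BasedFunctor.comp (vOf s) z) x)
    (f' := fpFst (BasedFunctor.comp u a) x)
    (FibProd.isEquivOver_congrLeft α.symm x) BasedBasic.isEquivOver_id
    (eqToIso (FibProd.congrLeft_fst α.symm x).symm)).2 hA'

/-- The automorphisms of a section of a gerbe over a scheme are flat, locally of finite presentation and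
surjective over it. -/
theorem gam_props (h𝒳 : IsAlgStack Scheme.fppfPrecoverage 𝒳) (π : 𝒳 ⥤ᵇ overCat U)
    (hπ : Gerb.LocSurjHom (QuotSh.J Scheme.fppfPrecoverage S) π) (x : overCat U ⥤ᵇ 𝒳)
    (e : BasedFunctor.comp x π ≅ BasedFunctor.id (overCat U))
    (A : AlgSp.Space S) (E : ofSp A.obj ⥤ᵇ fp x (inertiaToBase (toSelf 𝒳))) (hE : IsEquivOver E) :
    LocP @Flat (AutSpace.gam E) ∧ LocP @LocallyOfFinitePresentation (AutSpace.gam E) ∧
      AlgSp.IsSurjectiveMor (AutSpace.gam E) := by
  have hfib := h𝒳.isStack.1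
  obtain ⟨V, a, has, ha⟩ := h𝒳.atlas
  have hfl := SliceEtale.flat_of_smooth has
  have hfp := SliceEtale.lfp_of_smooth has
  obtain ⟨I, Zs, g, k₀, hg, hcov, hiso, hk⟩ := SectionFlat.exists_local_iso π e hfib a hπ
  obtain ⟨σ, hσ⟩ := exists_unit E hE
  have eF := SourceDescent.Scheme.flat.{u}
  have eP := SourceDescent.Scheme.locallyOfFinitePresentation.{u}
  have hks : ∀ q : U.left, ∃ i z, (g i ≫ k₀).left z = q := fun q => by
    obtain ⟨T, s, hs, u, ⟨α⟩⟩ := H14.Sep.Cover.exists_lift hfl hfp ha x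
    have := hs.2.2
    obtain ⟨t, rfl⟩ := s.left.surjective q
    let o : Over T := Over.mk (𝟙 T)
    let c : Over V := u.obj o
    have hc : c.left = T := u.w_obj o
    have hθ : 𝒳.p.IsHomLift (𝟙 T) (appIso α o).inv :=
      haveI : 𝒳.p.IsHomLift (𝟙 T) (appIso α o).hom := appIso_isHomLift α o
      IsHomLift.lift_id_inv _ _ _
    have key := hk T c ((vOf s).obj o) (appIso α o).inv hc hθ hc.symm
    obtain ⟨j, z, hz⟩ := hcov (c.hom.left ((eqToHom hc.symm).left t))
    refine ⟨j, z, ?_⟩
    rw [Over.comp_left, Scheme.Hom.comp_apply, hz, ← Scheme.Hom.comp_apply, ← Scheme.Hom.comp_apply,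
      ← Over.comp_left, ← Over.comp_left, key]
    change ((𝟙 T) ≫ s).left t = _
    rw [Category.id_comp]
  have hw : ∀ {W : MorphismProperty Scheme.{u}} (hW : SourceDescent.Scheme.EtaleLocalST W),
      (∀ i, W (g i).left) → RepByAlgSpWith (LocP W) a →
      ∀ i, LocP W (pullback.snd (AutSpace.gam E) ((yon S).map (g i ≫ k₀)) ≫ (yon S).map (g i ≫ k₀)) := by
    intro W hW hgW haW i
    obtain ⟨β⟩ := hiso i
    exact SectionAut.prop_pullback π e (IsAlgFp.respectsIsoSp_locP hW)
      (H14.Sep.SpProps.fromSchemes_locP hW) hfib E hE _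
      (Rep.repByAlgSpWith_of_iso β (IsAlgFp.comp_locP hW (Yoneda.isFibGrpd_overCat _)
        (Yoneda.isFibGrpd_overCat _) (SectionFlat.locP_vOf hW _ (hgW i)) haW))
  obtain ⟨hA1, hA2⟩ := locP_of_family A.property (AutSpace.gam E) Zs (fun i => g i ≫ k₀) hks
    (fun i => ⟨(yon S).map (g i ≫ k₀) ≫ σ, by rw [Category.assoc, hσ, Category.comp_id]⟩)
    (hw eF (fun i => (hg i).1) hfl) (hw eP (fun i => (hg i).2) hfp)
  have hA3 : AlgSp.IsSurjectiveMor (AutSpace.gam E) := fun q =>
    ⟨AlgSp.Points.map σ q, by rw [← Points.map_comp, hσ, Points.map_id]⟩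
  exact ⟨hA1, hA2, hA3⟩

/-- A section of a gerbe over a scheme is flat, locally of finite presentation and surjective. -/
theorem section_props (h𝒳 : IsAlgStack Scheme.fppfPrecoverage 𝒳) (π : 𝒳 ⥤ᵇ overCat U)
    (hπ : Gerb.LocSurjHom (QuotSh.J Scheme.fppfPrecoverage S) π) (x : overCat U ⥤ᵇ 𝒳)
    (e : BasedFunctor.comp x π ≅ BasedFunctor.id (overCat U)) :
    RepByAlgSpWith (LocP @Flat) x ∧ RepByAlgSpWith (LocP @LocallyOfFinitePresentation) x ∧
      RepByAlgSpWith AlgSp.IsSurjectiveMor x := by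
  have hfib := h𝒳.isStack.1
  obtain ⟨V, a, has, ha⟩ := h𝒳.atlas
  have hfl := SliceEtale.flat_of_smooth has
  have hfp := SliceEtale.lfp_of_smooth has
  obtain ⟨I, Zs, g, k₀, hg, hcov, hiso, -⟩ := SectionFlat.exists_local_iso π e hfib a hπ
  obtain ⟨A, E, hE, -⟩ := H14.Sep.Inertia.inertiaToBase_of_diag (Rep.repByAlgSpWith_top_iff.2 h𝒳.diag) U x
  obtain ⟨hA1, hA2, hA3⟩ := gam_props h𝒳 π hπ x e A E hE
  have eF := SourceDescent.Scheme.flat.{u}
  have eP := SourceDescent.Scheme.locallyOfFinitePresentation.{u}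
  have : MorphismProperty.DescendsAlong @Flat.{u}
      (@Surjective ⊓ @Flat ⊓ @LocallyOfFinitePresentation) :=
    AlgSpMor.RepBySp.descendsAlong_fppf _ inferInstance inferInstance
  have : MorphismProperty.DescendsAlong @LocallyOfFinitePresentation.{u}
      (@Surjective ⊓ @Flat ⊓ @LocallyOfFinitePresentation) :=
    AlgSpMor.RepBySp.descendsAlong_fppf _ inferInstance inferInstance
  refine ⟨?_, ?_, ?_⟩
  · refine rep_of_family (H14.Sep.SpProps.stableBC_locP eF) (H14.Sep.SpProps.fromSchemes_locP eF) ?_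
      (fun hW γ _ Zs g hg hcov h => locP_local eF hW γ Zs g hg hcov h) h𝒳 π x e a hfl hfp ha Zs g k₀ hg hcov hiso E hE hA1
    exact fun G T' T γ s hG hs h => H14.Sep.Cover.locP_descend eF hG hs
      (fun _ _ _ _ _ _ _ g sq f1 f2 f3 h' => MorphismProperty.of_isPullback_of_descendsAlong (P := @Flat)
        (Q := (@Surjective ⊓ @Flat ⊓ @LocallyOfFinitePresentation : MorphismProperty Scheme.{u}))
        sq.flip ⟨⟨f3, f1⟩, f2⟩ h') h
  · exact rep_of_family (H14.Sep.SpProps.stableBC_locP eP) (H14.Sep.SpProps.fromSchemes_locP eP)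
      H14.IsoNat.Main.descends_lfp
      (fun hW γ _ Zs g hg hcov h => locP_local eP hW γ Zs g hg hcov h) h𝒳 π x e a hfl hfp ha Zs g k₀ hg hcov hiso E hE hA2
  · refine rep_of_family SliceEtale.stableBC_surjective IsAlgFp.detected_surjective
      SliceEtale.descends_surjective ?_ h𝒳 π x e a hfl hfp ha Zs g k₀ hg hcov hiso E hE hA3
    intro X _ γ I Zs g _ hcov h q
    obtain ⟨v, rfl⟩ := (Points.schemeHomeo V).surjective q
    obtain ⟨i, z, rfl⟩ := hcov v
    obtain ⟨m, hm⟩ := h i (Points.schemeHomeo (Zs i) z)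
    exact ⟨AlgSp.Points.map (pullback.fst γ ((yon S).map (g i))) m, by
      rw [← Points.map_comp, pullback.condition, Points.map_comp, hm, Points.map_yon_map_apply]⟩

end Groth.Agent.Lib.Gerbe.SectionSpace
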