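import Groth.Agent.Lib.Gerbe.SectionOverSpace
import Groth.Agent.H14.Chart.LocQ2
import Groth.Agent.H14.FppfDesc.Scheme

/-!
Gerbes are smooth and surjective.
-/

set_option autoImplicit false
set_option backward.isDefEq.respectTransparency false
set_option backward.isDefEq.respectTransparency.types false

universe u

open CategoryTheory CategoryTheory.Limits AlgebraicGeometry Opposite

namespace Groth.Agent.Lib.Gerbe.Smooth

open Groth.Agent.Lib.AlgStack
open Groth.Agent.Lib.AlgSpace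
open FibCat (IsEquivOver IsFibGrpd fp fpFst fpSnd fpLift fpIso overCat toSelf)
open AlgSt (ofSp ofSpMap ofOverCat toOverCat spMapOfOver overMap RepByAlgSpWith IsAlgStack)
open AlgSp (Sp yon IsAlgSpace LocP RepWith Points)
open BasedBasic
open H14.Sep.Lft (vOf)

variable {S : Scheme.{u}} {𝒳 𝒴 : AlgSt.Cat S} {V W T : Over S}

theorem spMapOfOver_overMap {F : Sp S} {U V : Over S} (Φ : ofSp F ⥤ᵇ overCat U) (g : U ⟶ V) :
    spMapOfOver (BasedFunctor.comp Φ (overMap g)) = spMapOfOver Φ ≫ (yon S).map g := by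
  apply ObjectProperty.hom_ext
  ext T x
  rfl

/-- The property of a functor from the category of a space read on its map to the base. -/
theorem prop_spMapOfOver {P : MorphismProperty (Sp S)} (hP : H14.Sep.SpProps.StableBC P)
    (hPs : H14.Sep.SpProps.FromSchemes P) {G : AlgSp.Space S} {U : Over S} {Φ : ofSp G.obj ⥤ᵇ overCat U}
    (h : RepByAlgSpWith P Φ) : P (spMapOfOver Φ) :=
  H14.Sep.Rep.prop_of_ofSpMap (H14.Sep.Rep.respectsIsoSp hP) hPs G.property (IsAlgSpace.yon_obj U) _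
    ((Rep.repByAlgSpWith_iff_of_isEquivOver (f := Φ) (f' := ofSpMap (spMapOfOver Φ))
      BasedBasic.isEquivOver_id (Rep.isEquivOver_toOverCat U) (Rep.isoSpMapOfOver Φ).symm).1 h)

/-- A smooth chart of a gerbe with a section over a scheme is smooth over the scheme. -/
theorem smooth_of_section (h𝒳 : IsAlgStack Scheme.fppfPrecoverage 𝒳) (π : 𝒳 ⥤ᵇ overCat V)
    (hπ : Gerb.LocSurjHom (QuotSh.J Scheme.fppfPrecoverage S) π) (x : overCat V ⥤ᵇ 𝒳)
    (e : BasedFunctor.comp x π ≅ BasedFunctor.id (overCat V))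
    (a : overCat W ⥤ᵇ 𝒳) (ha : RepByAlgSpWith (LocP @Smooth) a) (k : W ⟶ V)
    (ι : BasedFunctor.comp a π ≅ overMap k) : Smooth k.left := by
  obtain ⟨hx1, hx2, hx3⟩ := SectionSpace.section_props h𝒳 π hπ x e
  obtain ⟨G, E, hE, hγ⟩ := ha V x
  let Φ₁ := BasedFunctor.comp E (fpFst x a)
  let Φ₂ := BasedFunctor.comp E (fpSnd x a)
  have hw : spMapOfOver Φ₁ = spMapOfOver Φ₂ ≫ (yon S).map k := by
    rw [← spMapOfOver_overMap]
    exact Rep.spMapOfOver_eq_of_iso ((isoWhiskerLeft Φ₁ e).symm ≪≫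
      isoWhiskerRight (isoWhiskerLeft E (fpIso x a)) π ≪≫ isoWhiskerLeft Φ₂ ι)
  have h₂ : ∀ {P : MorphismProperty (Sp S)}, H14.Sep.SpProps.StableBC P → H14.Sep.SpProps.FromSchemes P →
      RepByAlgSpWith P x → P (spMapOfOver Φ₂) := fun hP hPs hxP =>
    prop_spMapOfOver hP hPs (H14.Chart.LocQ.rep_precomp_equiv hE (H14.Sep.Rep.fpSnd_of a hxP))
  have eF := SourceDescent.Scheme.flat.{u}
  have eP := SourceDescent.Scheme.locallyOfFinitePresentation.{u}
  have g1 := h₂ (H14.Sep.SpProps.stableBC_locP eF) (H14.Sep.SpProps.fromSchemes_locP eF) hx1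
  have g2 := h₂ (H14.Sep.SpProps.stableBC_locP eP) (H14.Sep.SpProps.fromSchemes_locP eP) hx2
  have g3 := h₂ SliceEtale.stableBC_surjective IsAlgFp.detected_surjective hx3
  obtain ⟨P, p, hp, hps⟩ := G.property.atlas
  obtain ⟨l, hl⟩ := (yon S).map_surjective (p ≫ spMapOfOver Φ₂)
  have h1 : p ≫ spMapOfOver Φ₁ = (yon S).map (l ≫ k) ≫ 𝟙 _ := by
    rw [Category.comp_id, Functor.map_comp, hl, hw, Category.assoc]
  have h2 : p ≫ spMapOfOver Φ₂ = (yon S).map l ≫ 𝟙 _ := by rw [Category.comp_id, hl]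
  have : Smooth (l ≫ k).left := hγ p (𝟙 _) (l ≫ k) hp (repWith_of_isIso _ _) h1
  have : Flat l.left := g1 p (𝟙 _) l hp (repWith_of_isIso _ _) h2
  have : LocallyOfFinitePresentation l.left := g2 p (𝟙 _) l hp (repWith_of_isIso _ _) h2
  have : Surjective l.left := ⟨fun w => by
    obtain ⟨y, hy⟩ := g3 (Points.schemeHomeo W w)
    obtain ⟨z, rfl⟩ := surjective_map hps y
    obtain ⟨z', rfl⟩ := (Points.schemeHomeo P).surjective z
    refine ⟨z', (Points.schemeHomeo W).injective ?_⟩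
    rw [← Points.map_yon_map_apply, ← hy, hl, Points.map_comp]⟩
  exact H14.FppfDesc.Scheme.smooth_of_comp l.left k.left (by rw [← Over.comp_left]; infer_instance)

/-- The base change of a chart of the source along a map to the target. -/
theorem exists_chart_fp {P : MorphismProperty (Sp S)} (f : 𝒳 ⥤ᵇ 𝒴) (a : overCat W ⥤ᵇ 𝒳)
    (ha : RepByAlgSpWith P a) (z : overCat T ⥤ᵇ 𝒴) {G : Sp S} (e : ofSp G ⥤ᵇ fp (BasedFunctor.comp a f) z)
    (he : IsEquivOver e) :
    ∃ b : ofSp G ⥤ᵇ fp f z, RepByAlgSpWith P b ∧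
      Nonempty (BasedFunctor.comp b (fpSnd f z) ≅ BasedFunctor.comp e (fpSnd (BasedFunctor.comp a f) z)) := by
  obtain ⟨i, hi, -, ⟨ε⟩⟩ := BasedBasic.IsEquivOver.exists_inverse (Rep.isEquivOver_pasteBase a f z)
  exact ⟨BasedFunctor.comp (BasedFunctor.comp e i) (fpSnd a (fpFst f z)),
    H14.Chart.LocQ.rep_precomp_equiv (BasedBasic.IsEquivOver.comp he hi) (H14.Sep.Rep.fpSnd_of _ ha),
    ⟨isoWhiskerRight (isoWhiskerLeft e ε) (fpSnd (BasedFunctor.comp a f) z)⟩⟩

/-- A smooth chart of a gerbe over a scheme is smooth over the scheme. -/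
theorem smooth_of_gerbe (h𝒳 : IsAlgStack Scheme.fppfPrecoverage 𝒳) (π : 𝒳 ⥤ᵇ overCat V)
    (hπ : Gerb.IsGerbeOver (QuotSh.J Scheme.fppfPrecoverage S) π)
    (a : overCat W ⥤ᵇ 𝒳) (ha : RepByAlgSpWith (LocP @Smooth) a) (k : W ⟶ V)
    (ι : BasedFunctor.comp a π ≅ overMap k) : Smooth k.left := by
  let y₀ : (overCat V).obj := Over.mk (𝟙 V)
  obtain ⟨R, hR, hl⟩ := hπ.1 y₀
  obtain ⟨I, Zs, g, p, hpc, hpg, hσ⟩ := AlgSpace.exists_fppfCover_of_mem (T := V) (σ := R) hR
  have hfib := h𝒳.isStack.1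
  have key : ∀ i, Smooth (pullback.snd k.left (g i).left) := fun i => by
    obtain ⟨o, m, hm⟩ := hl (g i) (hσ i)
    have ho : 𝒳.p.obj o = Zs i := (π.w_obj o).symm.trans (IsHomLift.domain_eq (overCat V).p (g i) m)
    let x' := Yoneda.fromObj hfib ho
    obtain ⟨ε, hε⟩ := Yoneda.exists_fromObj_iso hfib ho
    have hπε : (overCat V).p.IsHomLift (𝟙 (Zs i)) (π.map ε.hom) :=
      BasedFunctor.preserves_isHomLift π (𝟙 (Zs i)) ε.hom
    let q : (BasedFunctor.comp x' π).obj (Over.mk (𝟙 (Zs i))) ⟶ y₀ := π.map ε.hom ≫ m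
    have hq : (overCat V).p.IsHomLift (g i) q := by
      have : (overCat V).p.IsHomLift (𝟙 (Zs i) ≫ g i) q := inferInstance
      rwa [Category.id_comp] at this
    let o' : Over V := (BasedFunctor.comp x' π).obj (Over.mk (𝟙 (Zs i)))
    have f1 := IsHomLift.fac' (overCat V).p (g i) q
    change q.left = _ at f1
    have f2 : q.left ≫ 𝟙 V = o'.hom := Over.w q
    let θ₀ : o' ⟶ (vOf (g i)).obj (Over.mk (𝟙 (Zs i))) :=
      Over.homMk (eqToHom ((BasedFunctor.comp x' π).w_obj _)) (by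
        change _ ≫ (𝟙 (Zs i) ≫ g i) = o'.hom
        rw [← f2, f1]; simp; rfl)
    have hθ₀ : (overCat V).p.IsHomLift (𝟙 (Zs i)) θ₀ :=
      IsHomLift.of_fac' _ _ _ ((BasedFunctor.comp x' π).w_obj _) rfl (by simp [θ₀]; rfl)
    obtain ⟨α, -⟩ := Yoneda.exists_iso_of_id (Yoneda.isFibGrpd_overCat V) (BasedFunctor.comp x' π) (vOf (g i)) θ₀
    let sec : overCat (Zs i) ⥤ᵇ fp π (vOf (g i)) := fpLift x' (BasedFunctor.id _) α
    have hi : IsAlgStack Scheme.fppfPrecoverage (fp π (vOf (g i))) :=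
      H14.Chart.Basic.isAlgStack_fp (H14.Chart.Basic.isAlgStack_overCat V) h𝒳
        (H14.Chart.Basic.isAlgStack_overCat (Zs i)) π (vOf (g i))
    have hgi : Gerb.IsGerbeOver (QuotSh.J Scheme.fppfPrecoverage S) (fpSnd π (vOf (g i))) :=
      Formal.isGerbeOver_comp (QuotSh.J Scheme.fppfPrecoverage S) (F := FibProd.swap π (vOf (g i)))
        (G := fpFst (vOf (g i)) π) hi.isStack.1
        (FibProd.isFibGrpd_fp (Yoneda.isFibGrpd_overCat _) hfib (Yoneda.isFibGrpd_overCat V))
        (Formal.isGerbeOver_of_isEquivOver _ hi.isStack.1 (FibProd.isEquivOver_swap π (vOf (g i))))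
        (Formal.isGerbeOver_fpFst _ (vOf (g i)) hfib (Yoneda.isFibGrpd_overCat V) (Yoneda.isFibGrpd_overCat _) hπ)
    let P : Over S := Over.mk (pullback.snd k.left (g i).left ≫ (Zs i).hom)
    let p₁ : P ⟶ W := Over.homMk (pullback.fst k.left (g i).left) (by
      change _ ≫ W.hom = pullback.snd k.left (g i).left ≫ (Zs i).hom
      rw [← Over.w k, pullback.condition_assoc, Over.w (g i)])
    let p₂ : P ⟶ Zs i := Over.homMk (pullback.snd k.left (g i).left) rfl
    have sq : IsPullback ((yon S).map p₁) ((yon S).map p₂) ((yon S).map k) ((yon S).map (g i)) :=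
      (show IsPullback p₁ p₂ k (g i) from IsPullback.of_map (Over.forget S)
        (Over.OverMorphism.ext pullback.condition) (IsPullback.of_hasPullback k.left (g i).left)).map (yon S)
    have := BasedBasic.IsEquivOver.full (Rep.isEquivOver_toOverCat V)
    have := BasedBasic.IsEquivOver.faithful (Rep.isEquivOver_toOverCat V)
    have h1 := Space.isEquivOver_sqLift (sq.map (sheafToPresheaf _ _))
    have h2 := FibProd.isEquivOver_fpMap (toOverCat W) (toOverCat (Zs i)) (toOverCat V)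
      (F := overMap k) (G := vOf (g i)) (F' := ofSpMap ((yon S).map k)) (G' := ofSpMap ((yon S).map (g i)))
      (Iso.refl _) (Iso.refl _) (Rep.isEquivOver_toOverCat W) (Rep.isEquivOver_toOverCat (Zs i))
    have h3 := FibProd.isEquivOver_congrLeft ι.symm (vOf (g i))
    obtain ⟨b, hb, ⟨β⟩⟩ := exists_chart_fp π a ha (vOf (g i)) _
      (BasedBasic.IsEquivOver.comp (BasedBasic.IsEquivOver.comp h1 h2) h3)
    refine smooth_of_section hi (fpSnd π (vOf (g i))) hgi.2 sec (Iso.refl _) (BasedFunctor.comp (ofOverCat P) b)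
      (H14.Chart.LocQ.rep_precomp_equiv (Rep.isEquivOver_ofOverCat P) hb) p₂ ?_
    exact isoWhiskerLeft (ofOverCat P) β ≪≫ Iso.refl _
  let κ : ∐ (fun i => (Zs i).left) ⟶ V.left := Sigma.desc fun i => (g i).left
  have hκ : p.left = κ := Sigma.hom_ext _ _ fun i => by
    have := congrArg (fun t => t.left) (hpg i)
    simp [κ]
    exact this
  have h2 : Smooth (pullback.snd k.left κ) := IsZariskiLocalAtTarget.of_openCover (sigmaOpenCover _) fun i => by
    change Smooth (pullback.snd (pullback.snd k.left κ) (Sigma.ι (fun i => (Zs i).left) i))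
    have sq : IsPullback (pullback.fst (pullback.snd k.left κ) (Sigma.ι (fun i => (Zs i).left) i) ≫ pullback.fst k.left κ)
        (pullback.snd (pullback.snd k.left κ) (Sigma.ι (fun i => (Zs i).left) i)) k.left (g i).left := by
      have := (IsPullback.of_hasPullback (pullback.snd k.left κ) (Sigma.ι (fun i => (Zs i).left) i)).paste_horiz
        (IsPullback.of_hasPullback k.left κ)
      rwa [show Sigma.ι (fun i => (Zs i).left) i ≫ κ = (g i).left from Sigma.ι_desc _ _] at this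
    rw [← sq.isoPullback_hom_snd]
    exact (MorphismProperty.cancel_left_of_respectsIso @Smooth _ _).2 (key i)
  have := H14.Sep.Descend.descendsAlong_fpqcCover @Smooth
  have hcov : Lib.FFDesc.fpqcCover κ := by
    have : Flat κ := hκ ▸ hpc.1.2
    have : LocallyOfFinitePresentation κ := hκ ▸ hpc.2
    have : Surjective κ := hκ ▸ hpc.1.1
    exact Lib.FFDesc.fpqcCover_of_lfp κ
  exact MorphismProperty.of_pullback_snd_of_descendsAlong (P := @Smooth) (Q := Lib.FFDesc.fpqcCover)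
    (f := k.left) (g := κ) hcov h2

end Groth.Agent.Lib.Gerbe.Smooth
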