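import Groth.Agent.Lib.Gerbe.GenFlat
import Groth.Agent.Lib.Gerbe.RedSub
import Groth.Agent.Lib.Gerbe.Formal
import Groth.Agent.Lib.AlgStack.ImageSub
import Groth.Agent.H14.Chart.OpenSub2
import Groth.Agent.H14.Chart.Top
import Groth.Agent.S16861
import Groth.Agent.S12870
import Mathlib.SetTheory.Cardinal.Basic

/-!
Strata of a stack with quasi-compact inertia: on every nonempty closed set of points a gerbe is open.
-/

set_option autoImplicit false
set_option backward.isDefEq.respectTransparency false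
set_option backward.isDefEq.respectTransparency.types false

universe u

open CategoryTheory CategoryTheory.Limits AlgebraicGeometry

namespace Groth.Agent.Lib.Gerbe.Strata

open Groth.Agent.Lib.AlgStack
open FibCat (IsEquivOver fp fpFst toSelf inertia inertiaToBase overCat)
open AlgSt (overMap RepByAlgSpWith IsAlgStack fullSub subIncl IsClosedSubstack IsLocClosedSubstack SmoothLocally)
open AlgSp (Sp yon LocP)

variable {S : Scheme.{u}} {𝒳 𝒴 : AlgSt.Cat S}

theorem isAlgStack_inertia (h : IsAlgStack Scheme.fppfPrecoverage 𝒳) :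
    IsAlgStack Scheme.fppfPrecoverage (inertia (toSelf 𝒳)) :=
  RepOver.isAlgStack_of_repByAlgSp1
    (Lib.Fibred.SelfOver.inertia_grpd h.isStack.1 Lib.Fibred.SelfOver.selfOver_grpd) h
    (Rep.repByAlgSp1_of_repByAlgSpWith
      (H14.Sep.Inertia.inertiaToBase_of_diag (H14.Sep.Lft.diag_toSelf_lft h)))

/-- The inertia of a substack is quasi-compact when that of the stack is. -/
theorem qc_inertia_sub (h𝒳 : IsAlgStack Scheme.fppfPrecoverage 𝒳)
    (hI : AlgSt.IsQuasiCompactMor Scheme.fppfPrecoverage (inertiaToBase (toSelf 𝒳)))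
    {Q : 𝒳.obj → Prop} (hQ : ObjectProperty.IsClosedUnderIsomorphisms Q)
    (hA : IsAlgStack Scheme.fppfPrecoverage (fullSub 𝒳 Q)) :
    AlgSt.IsQuasiCompactMor Scheme.fppfPrecoverage (inertiaToBase (toSelf (fullSub 𝒳 Q))) := by
  obtain ⟨Ψ, hΨ, ⟨eΨ⟩⟩ := GenFlat.exists_inertia_equiv (𝒳 := 𝒳) hQ
  exact H14.Chart.QC.isQuasiCompactMor_of_source
    (H14.Chart.Basic.isAlgStack_fp h𝒳 hA (isAlgStack_inertia h𝒳) (subIncl 𝒳 Q) (inertiaToBase (toSelf 𝒳)))
    (isAlgStack_inertia hA) hA hΨ eΨ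
    (H14.Chart.QC.isQuasiCompactMor_fpFst (isAlgStack_inertia h𝒳) h𝒳 hA (subIncl 𝒳 Q) hI)

/-- A substack of a gerbe is a gerbe. -/
theorem isAlgGerbe_sub (h𝒳 : IsAlgStack Scheme.fppfPrecoverage 𝒳)
    (hG : Gerb.IsAlgGerbe Scheme.fppfPrecoverage 𝒳)
    {Q : 𝒳.obj → Prop} (hQ : ObjectProperty.IsClosedUnderIsomorphisms Q)
    (hA : IsAlgStack Scheme.fppfPrecoverage (fullSub 𝒳 Q)) :
    Gerb.IsAlgGerbe Scheme.fppfPrecoverage (fullSub 𝒳 Q) := by
  obtain ⟨h1, h2⟩ := (S16861.result S 𝒳 h𝒳).1 hG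
  obtain ⟨Ψ, hΨ, ⟨eΨ⟩⟩ := GenFlat.exists_inertia_equiv (𝒳 := 𝒳) hQ
  have hI := isAlgStack_inertia h𝒳
  have hP := H14.Chart.Basic.isAlgStack_fp h𝒳 hA hI (subIncl 𝒳 Q) (inertiaToBase (toSelf 𝒳))
  have eF := SourceDescent.Scheme.flat.{u}
  have eP := SourceDescent.Scheme.locallyOfFinitePresentation.{u}
  obtain ⟨F, hF, -, ⟨η⟩⟩ := BasedBasic.IsEquivOver.exists_inverse hΨ
  let eF' : BasedFunctor.comp F (inertiaToBase (toSelf (fullSub 𝒳 Q))) ≅
      fpFst (subIncl 𝒳 Q) (inertiaToBase (toSelf 𝒳)) :=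
    BasedBasic.isoWhiskerLeft F eΨ.symm ≪≫
      BasedBasic.isoWhiskerRight η (fpFst (subIncl 𝒳 Q) (inertiaToBase (toSelf 𝒳)))
  refine (S16861.result S _ hA).2 ⟨?_, ?_⟩
  · exact Rigid.locQ_of_equiv eF H14.Chart.SmLocal.isSmoothLocalST_flat (fun f _ => inferInstance)
      hP hA hF eF'
      (H14.Chart.LocQ.locQ_fpFst H14.Chart.SmLocal.isSmoothLocalST_flat
        (H14.Sep.SpProps.stableBC_locP eF) hI h𝒳 hA _ h1)
  · exact Rigid.locQ_of_equiv eP H14.Chart.SmLocal.isSmoothLocalST_lfp (fun f _ => inferInstance)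
      hP hA hF eF'
      (H14.Chart.LocQ.locQ_fpFst H14.Chart.SmLocal.isSmoothLocalST_lfp
        (H14.Sep.SpProps.stableBC_locP eP) hI h𝒳 hA _ h2)

/-- The reduced substack on a closed set, with its points. -/
theorem exists_redSub (h𝒳 : IsAlgStack Scheme.fppfPrecoverage 𝒳) {T : Set (AlgSt.Points 𝒳)}
    (hT : IsClosed T) :
    ∃ Q : 𝒳.obj → Prop, IsClosedSubstack 𝒳 Q Scheme.fppfPrecoverage ∧
      SmoothLocally (fun X => IsReduced X) (fullSub 𝒳 Q) ∧
      Set.range (AlgSt.Points.map (subIncl 𝒳 Q)) = T ∧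
      Topology.IsClosedEmbedding (AlgSt.Points.map (subIncl 𝒳 Q)) := by
  obtain ⟨U, a, ha, has⟩ := h𝒳.atlas
  have hg := h𝒳.isStack.1
  let C : TopologicalSpace.Closeds ↥U.left :=
    ⟨AlgSt.Points.ofChart a ⁻¹' T, hT.preimage (H14.Chart.Points.continuous_ofChart h𝒳 a)⟩
  let I := Scheme.IdealSheafData.vanishingIdeal C
  let Z : Over S := Over.mk (I.subschemeι ≫ U.hom)
  let i : Z ⟶ U := Over.homMk I.subschemeι rfl
  have : IsClosedImmersion i.left := inferInstanceAs (IsClosedImmersion I.subschemeι)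
  have : IsReduced Z.left := H75.RedSub.isReduced_vanishingIdeal C
  have hr : Set.range i.left = AlgSt.Points.ofChart a ⁻¹' T := by
    show Set.range I.subschemeι = _
    rw [Scheme.IdealSheafData.range_subschemeι, Scheme.IdealSheafData.coe_support_vanishingIdeal]
    rfl
  obtain ⟨⟨hiso, hA, hci⟩, hrange, hred⟩ := RedSub.main h𝒳 ha has hr
  let Q := RedSub.sub a i
  let ι := subIncl 𝒳 Q
  have : ι.toFunctor.Full := inferInstanceAs (ObjectProperty.ι Q).Full
  have hinj : Function.Injective (AlgSt.Points.map ι) := Points.injective_map hA.isStack.1 hg ι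
  let z : overCat Z ⥤ᵇ fullSub 𝒳 Q :=
    { toFunctor := ObjectProperty.lift _ (BasedFunctor.comp (overMap i) a).toFunctor fun g =>
        (RedSub.sub_obj_iff h𝒳 ha hr _).2 ⟨g.hom, rfl⟩
      w := (BasedFunctor.comp (overMap i) a).w }
  have hz : ∀ w, AlgSt.Points.map ι (AlgSt.Points.ofChart z w) = AlgSt.Points.ofChart a (i.left w) :=
    fun w => (H14.Chart.Points.map_ofChart ι z w).trans (H14.Chart.Points.ofChart_overMap i a w)
  refine ⟨Q, ⟨hiso, hA, hci⟩, hred, hrange,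
    .of_continuous_injective_isClosedMap (H14.Chart.Basic.continuous_map h𝒳 ι) hinj fun D hD => ?_⟩
  have hpre : AlgSt.Points.ofChart a ⁻¹' (AlgSt.Points.map ι '' D) =
      i.left '' (AlgSt.Points.ofChart z ⁻¹' D) := by
    ext t
    constructor
    · rintro ⟨p, hp, hpt⟩
      obtain ⟨w, rfl⟩ : t ∈ Set.range i.left :=
        hr.symm.subset (show AlgSt.Points.ofChart a t ∈ T from hpt ▸ hrange.subset ⟨p, rfl⟩)
      have hw : AlgSt.Points.ofChart z w = p := hinj ((hz w).trans hpt.symm)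
      exact ⟨w, show AlgSt.Points.ofChart z w ∈ D from hw.symm ▸ hp, rfl⟩
    · rintro ⟨w, hw, rfl⟩
      exact ⟨_, hw, hz w⟩
  have hc : IsClosed (AlgSt.Points.ofChart a ⁻¹' (AlgSt.Points.map ι '' D)) := by
    rw [hpre]
    exact i.left.isClosedEmbedding.isClosedMap _
      (hD.preimage (H14.Chart.Points.continuous_ofChart hA z))
  rw [← isOpen_compl_iff, ← (H14.Chart.Points.surjective_ofChart hg has).image_preimage
    (AlgSt.Points.map ι '' D)ᶜ]
  exact H14.Chart.Points.isOpenMap_ofChart hg ha _ hc.isOpen_compl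

/-- A stratum inside a nonempty closed set. -/
structure IsStratum (T : Set (AlgSt.Points 𝒳)) (Q : 𝒳.obj → Prop) : Prop where
  locClosed : IsLocClosedSubstack 𝒳 Q Scheme.fppfPrecoverage
  reduced : SmoothLocally (fun X => IsReduced X) (fullSub 𝒳 Q)
  gerbe : Gerb.IsAlgGerbe Scheme.fppfPrecoverage (fullSub 𝒳 Q)
  subset : Set.range (AlgSt.Points.map (subIncl 𝒳 Q)) ⊆ T
  isOpen : IsOpen ((Subtype.val : T → AlgSt.Points 𝒳) ⁻¹' Set.range (AlgSt.Points.map (subIncl 𝒳 Q)))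
  nonempty : T.Nonempty → (Set.range (AlgSt.Points.map (subIncl 𝒳 Q))).Nonempty

/-- An open gerbe in a reduced closed substack gives a stratum. -/
theorem exists_stratum_of_open (h𝒳 : IsAlgStack Scheme.fppfPrecoverage 𝒳) {T : Set (AlgSt.Points 𝒳)}
    {Q : 𝒳.obj → Prop} (hQ : IsClosedSubstack 𝒳 Q Scheme.fppfPrecoverage)
    (hred : SmoothLocally (fun X => IsReduced X) (fullSub 𝒳 Q))
    (hr : Set.range (AlgSt.Points.map (subIncl 𝒳 Q)) = T)
    (hemb : Topology.IsClosedEmbedding (AlgSt.Points.map (subIncl 𝒳 Q)))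
    {Q' : (fullSub 𝒳 Q).obj → Prop}
    (hQ' : AlgSt.IsOpenSubstack (fullSub 𝒳 Q) Q' Scheme.fppfPrecoverage)
    (hG : Gerb.IsAlgGerbe Scheme.fppfPrecoverage (fullSub (fullSub 𝒳 Q) Q'))
    (hne : T.Nonempty → (Set.range (AlgSt.Points.map (subIncl (fullSub 𝒳 Q) Q'))).Nonempty) :
    ∃ Q'' : 𝒳.obj → Prop, IsStratum T Q'' ∧
      Set.range (AlgSt.Points.map (subIncl 𝒳 Q'')) =
        AlgSt.Points.map (subIncl 𝒳 Q) '' Set.range (AlgSt.Points.map (subIncl (fullSub 𝒳 Q) Q')) ∧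
      (AlgSt.IsQuasiCompact (fullSub (fullSub 𝒳 Q) Q') → AlgSt.IsQuasiCompact (fullSub 𝒳 Q'')) := by
  have hA := hQ.2.1
  have hA' := hQ'.2.1
  have hV := H14.Chart.OpenSub.isOpen_range hA hQ'
  let ι := subIncl 𝒳 Q
  let ι' := subIncl (fullSub 𝒳 Q) Q'
  have h1 : AlgSt.IsImm ι := Rep.repByAlgSpWith_mono hQ.2.2 fun _ _ _ _ _ h =>
    Lib.AlgSpace.repWith_mono h fun _ _ g (hg : IsClosedImmersion g) => inferInstanceAs (IsImmersion g)
  have h2 : AlgSt.IsImm ι' := Rep.repByAlgSpWith_mono hQ'.2.2 fun _ _ _ _ _ h =>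
    Lib.AlgSpace.repWith_mono h fun _ _ g (hg : IsOpenImmersion g) => inferInstanceAs (IsImmersion g)
  obtain ⟨Q'', ⟨hlc, ⟨E, hE, ⟨ε⟩⟩, -, -⟩, -⟩ :=
    ImageSub.exists_substack hA' h𝒳 _ (S12870.result hA' hA h𝒳 ι' ι h2 h1)
  obtain ⟨F, hF, -, -⟩ := BasedBasic.IsEquivOver.exists_inverse hE
  have hA'' := hlc.2.1
  have hrange : Set.range (AlgSt.Points.map (subIncl 𝒳 Q'')) =
      AlgSt.Points.map ι '' Set.range (AlgSt.Points.map ι') := by
    have e : ∀ q, AlgSt.Points.map (subIncl 𝒳 Q'') (AlgSt.Points.map E q) =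
        AlgSt.Points.map ι (AlgSt.Points.map ι' q) := fun q => by
      rw [← H14.Chart.Basic.map_comp, H14.Chart.Basic.map_iso ε, H14.Chart.Basic.map_comp]
    rw [← Set.range_comp, ← (H14.Chart.Basic.surjective_map_of_isEquivOver hE).range_comp]
    exact congrArg Set.range (funext e)
  refine ⟨Q'', ⟨hlc, ?_, ?_, ?_, ?_, fun h => ?_⟩, hrange, fun hqc => ?_⟩
  · intro U x hx
    exact hred U _ (IsAlgFp.comp_locP H14.Chart.LocQ.smoothST (Yoneda.isFibGrpd_overCat U) hA'.isStack.1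
      (H14.Chart.LocQ.rep_postcomp_equiv hF hx) (H14.Chart.OpenSub.smooth_of_isOpenImm hQ'.2.2))
  · obtain ⟨X, π, hπ⟩ := hG
    exact ⟨X, _, Formal.isGerbeOver_comp _ hA''.isStack.1 hA'.isStack.1
      (Formal.isGerbeOver_of_isEquivOver _ hA''.isStack.1 hF) hπ⟩
  · rw [hrange, ← hr]
    exact Set.image_subset_range _ _
  · refine ⟨(AlgSt.Points.map ι '' (Set.range (AlgSt.Points.map ι'))ᶜ)ᶜ,
      (hemb.isClosedMap _ hV.isClosed_compl).isOpen_compl, ?_⟩
    rw [hrange]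
    ext ⟨p, hp⟩
    obtain ⟨q, rfl⟩ := hr.symm.subset hp
    simp only [Set.mem_preimage, Set.mem_compl_iff]
    rw [hemb.injective.mem_set_image, hemb.injective.mem_set_image, Set.mem_compl_iff, not_not]
  · rw [hrange]
    exact (hne h).image _
  · have := (H14.Chart.QC.isQuasiCompact_iff hA').1 hqc
    exact (H14.Chart.QC.isQuasiCompact_iff hA'').2
      (H14.Chart.Basic.compactSpace_of_surjective hA'' (H14.Chart.Basic.surjective_map_of_isEquivOver hE))

/-- A dense gerbe stratum. -/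
theorem exists_stratum (h𝒳 : IsAlgStack Scheme.fppfPrecoverage 𝒳)
    (hI : AlgSt.IsQuasiCompactMor Scheme.fppfPrecoverage (inertiaToBase (toSelf 𝒳)))
    {T : Set (AlgSt.Points 𝒳)} (hT : IsClosed T) :
    ∃ Q : 𝒳.obj → Prop, IsStratum T Q ∧
      Dense ((Subtype.val : T → AlgSt.Points 𝒳) ⁻¹' Set.range (AlgSt.Points.map (subIncl 𝒳 Q))) := by
  obtain ⟨Q, hQ, hred, hr, hemb⟩ := exists_redSub h𝒳 hT
  obtain ⟨Q', hQ', hd, hG⟩ := GenFlat.main hQ.2.1 hred (qc_inertia_sub h𝒳 hI hQ.1 hQ.2.1)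
  obtain ⟨Q'', hs, hrange, -⟩ := exists_stratum_of_open h𝒳 hQ hred hr hemb hQ' hG fun h => by
    obtain ⟨p, hp⟩ := h
    obtain ⟨q, -⟩ := hr.symm.subset hp
    have : Nonempty (AlgSt.Points (fullSub 𝒳 Q)) := ⟨q⟩
    exact hd.nonempty
  refine ⟨Q'', hs, Subtype.dense_iff.2 fun p hp => ?_⟩
  obtain ⟨q, rfl⟩ := hr.symm.subset hp
  rw [Set.image_preimage_eq_inter_range, Subtype.range_coe, Set.inter_eq_left.2 hs.subset, hrange]
  exact image_closure_subset_closure_image (H14.Chart.Basic.continuous_map h𝒳 _)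
    ⟨q, hd q, rfl⟩

/-- A quasi-compact gerbe stratum. -/
theorem exists_qc_stratum (h𝒳 : IsAlgStack Scheme.fppfPrecoverage 𝒳)
    (hI : AlgSt.IsQuasiCompactMor Scheme.fppfPrecoverage (inertiaToBase (toSelf 𝒳)))
    {T : Set (AlgSt.Points 𝒳)} (hT : IsClosed T) (hTne : T.Nonempty) :
    ∃ Q : 𝒳.obj → Prop, IsStratum T Q ∧ AlgSt.IsQuasiCompact (fullSub 𝒳 Q) := by
  obtain ⟨Q, hQ, hred, hr, hemb⟩ := exists_redSub h𝒳 hT
  have hA := hQ.2.1
  obtain ⟨Q₁, hQ₁, hd, hG⟩ := GenFlat.main hA hred (qc_inertia_sub h𝒳 hI hQ.1 hA)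
  obtain ⟨t, ht⟩ := hTne
  obtain ⟨q₀, -⟩ := hr.symm.subset ht
  have : Nonempty (AlgSt.Points (fullSub 𝒳 Q)) := ⟨q₀⟩
  obtain ⟨_, ⟨p, rfl⟩⟩ := hd.nonempty
  have hA₁ := hQ₁.2.1
  obtain ⟨U, c, hU, hc, ⟨u, hu⟩, -, -⟩ :=
    H14.Chart.Top.exists_affine_chart hA₁ p isOpen_univ trivial
  let ι₁ := subIncl (fullSub 𝒳 Q) Q₁
  let c' := BasedFunctor.comp c ι₁
  let W := Set.range (AlgSt.Points.ofChart c')
  have hc' : RepByAlgSpWith (LocP @Smooth) c' :=
    IsAlgFp.comp_locP H14.Chart.LocQ.smoothST (Yoneda.isFibGrpd_overCat U) hA₁.isStack.1 hc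
      (H14.Chart.OpenSub.smooth_of_isOpenImm hQ₁.2.2)
  have hW : IsOpen W := (H14.Chart.Points.isOpenMap_ofChart hA.isStack.1 hc').isOpen_range
  let Q₂ := H14.Chart.OpenSub.sub hA.isStack.1 W
  have hQ₂ : AlgSt.IsOpenSubstack (fullSub 𝒳 Q) Q₂ Scheme.fppfPrecoverage :=
    H14.Chart.OpenSub.isOpenSubstack_sub hA hW
  have hr₂ : Set.range (AlgSt.Points.map (subIncl (fullSub 𝒳 Q) Q₂)) = W :=
    H14.Chart.OpenSub.range_map_sub hA.isStack.1 W
  have hle : ∀ y, Q₂ y → Q₁ y := (H14.Chart.OpenSub.le_iff hA hQ₂ hQ₁).2 (by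
    rw [hr₂]
    rintro _ ⟨v, rfl⟩
    exact ⟨AlgSt.Points.ofChart c v, H14.Chart.Points.map_ofChart ι₁ c v⟩)
  have hG₂ : Gerb.IsAlgGerbe Scheme.fppfPrecoverage (fullSub (fullSub 𝒳 Q) Q₂) := by
    let j : fullSub (fullSub 𝒳 Q) Q₂ ⥤ᵇ fullSub (fullSub 𝒳 Q) Q₁ :=
      { toFunctor := ObjectProperty.ιOfLE (P := Q₂) (P' := Q₁) hle
        w := rfl }
    have hj : AlgSt.IsImm j := H14.Chart.OpenSub.rep_of_comp_subIncl j
      (Rep.repByAlgSpWith_mono hQ₂.2.2 fun _ _ _ _ _ h =>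
        Lib.AlgSpace.repWith_mono h fun _ _ g (hg : IsOpenImmersion g) => inferInstanceAs (IsImmersion g))
    obtain ⟨R, ⟨hR, ⟨E, hE, -⟩, -, -⟩, -⟩ := ImageSub.exists_substack hQ₂.2.1 hA₁ j hj
    obtain ⟨X, π, hπ⟩ := isAlgGerbe_sub hA₁ hG hR.1 hR.2.1
    exact ⟨X, _, Formal.isGerbeOver_comp _ hQ₂.2.1.isStack.1 hR.2.1.isStack.1
      (Formal.isGerbeOver_of_isEquivOver _ hQ₂.2.1.isStack.1 hE) hπ⟩
  have hWne : W.Nonempty := ⟨_, u, rfl⟩
  obtain ⟨Q'', hs, -, hqc⟩ := exists_stratum_of_open h𝒳 hQ hred hr hemb hQ₂ hG₂ fun _ => hr₂.symm ▸ hWne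
  refine ⟨Q'', hs, hqc ?_⟩
  let g : overCat U ⥤ᵇ fullSub (fullSub 𝒳 Q) Q₂ :=
    { toFunctor := ObjectProperty.lift _ c'.toFunctor fun o => by
        change H14.Chart.OpenSub.rangeObj hA.isStack.1 (c'.obj o) ⊆ W
        rw [H14.Chart.OpenSub.rangeObj_obj]
        exact Set.image_subset_range _ _
      w := c'.w }
  have := hU
  have : CompactSpace (AlgSt.Points (overCat U)) :=
    (H14.Chart.QC.isQuasiCompact_iff (H14.Chart.Basic.isAlgStack_overCat U)).1
      (H14.Chart.QC.isQuasiCompact_overCat U)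
  refine (H14.Chart.QC.isQuasiCompact_iff hQ₂.2.1).2
    (H14.Chart.Basic.compactSpace_of_surjective hQ₂.2.1 (f := g) fun q => ?_)
  obtain ⟨v, hv⟩ : AlgSt.Points.map (subIncl (fullSub 𝒳 Q) Q₂) q ∈ W := hr₂.subset ⟨q, rfl⟩
  have : (subIncl (fullSub 𝒳 Q) Q₂).toFunctor.Full := inferInstanceAs (ObjectProperty.ι Q₂).Full
  refine ⟨AlgSt.Points.ofChart (BasedFunctor.id _) v,
    Points.injective_map hQ₂.2.1.isStack.1 hA.isStack.1 (subIncl (fullSub 𝒳 Q) Q₂) ?_⟩
  rw [← hv]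
  rfl

/-- An index type without an order. -/
structure Index (α : Type (u + 1)) : Type (u + 1) where
  /-- the element -/
  val : α

/-- Transfinite iteration of a choice of strata exhausts the points. -/
theorem exists_stratification {P : Type (u + 1)} [TopologicalSpace P] {α : Type (u + 1)}
    (r : α → Set P) (G : Set P → α → Prop)
    (hG : ∀ T : Set P, IsClosed T → T.Nonempty → ∃ a, G T a)
    (hsub : ∀ T a, G T a → r a ⊆ T)
    (hopen : ∀ T a, G T a → IsOpen ((Subtype.val : T → P) ⁻¹' r a))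
    (hne : ∀ T a, G T a → T.Nonempty → (r a).Nonempty) :
    ∃ (I : Type (u + 1)) (_ : LinearOrder I) (_ : WellFoundedLT I) (Q : I → α) (T : I → Set P),
      (∀ i, T i = {p | ∀ i', i' < i → p ∉ r (Q i')}) ∧ (∀ i, G (T i) (Q i)) ∧
        (∀ p, ∃ i, p ∈ r (Q i)) ∧ (∀ i, IsClosed (T i)) := by
  classical
  let J := Index (Set P)
  let : LinearOrder J := linearOrderOfSTO (WellOrderingRel (α := J))
  have : WellFoundedLT J := ⟨(WellOrderingRel.isWellOrder (α := J)).wf⟩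
  -- the set of points left at each step
  let next : Set P → Set P := fun T => if h : IsClosed T ∧ T.Nonempty then r (hG T h.1 h.2).choose else ∅
  let T : J → Set P := (wellFounded_lt (α := J)).fix
    fun j rec => {p | ∀ (j' : J) (h : j' < j), p ∉ next (rec j' h)}
  have hTeq : ∀ j, T j = {p | ∀ j', j' < j → p ∉ next (T j')} := fun j => by
    exact (wellFounded_lt (α := J)).fix_eq _ j
  have hclosed : ∀ j, IsClosed (T j) := by
    intro j
    induction j using (wellFounded_lt (α := J)).induction with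
    | h j ih =>
      have : ∀ j' : J, j' < j → ∃ O : Set P, IsOpen O ∧ next (T j') = O ∩ T j' := fun j' hj' => by
        by_cases h : IsClosed (T j') ∧ (T j').Nonempty
        · have hs := (hG _ h.1 h.2).choose_spec
          obtain ⟨O, hO, hO'⟩ := hopen _ _ hs
          refine ⟨O, hO, ?_⟩
          simp only [next, dif_pos h]
          rw [Subtype.preimage_val_eq_preimage_val_iff] at hO'
          rw [Set.inter_comm O, hO', Set.inter_eq_right.2 (hsub _ _ hs)]
        · exact ⟨∅, isOpen_empty, by simp [next, dif_neg h]⟩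
      choose O hO hO' using this
      have : T j = ⋂ (j' : J) (h : j' < j), (T j' ∩ (O j' h)ᶜ) := by
        ext p
        simp only [Set.mem_iInter, Set.mem_inter_iff, Set.mem_compl_iff]
        rw [hTeq j]
        refine ⟨fun hp j' hj' => ?_, fun hp j' hj' hn => ?_⟩
        · have hp' : p ∈ T j' := by
            rw [hTeq j']
            exact fun j'' hj'' => hp j'' (hj''.trans hj')
          exact ⟨hp', fun hpO => hp j' hj' (by rw [hO' j' hj']; exact ⟨hpO, hp'⟩)⟩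
        · rw [hO' j' hj'] at hn
          exact (hp j' hj').2 hn.1
      rw [this]
      exact isClosed_iInter fun j' => isClosed_iInter fun hj' => (ih j' hj').inter (hO j' hj').isClosed_compl
  let I := {j : J // (T j).Nonempty}
  let Q : I → α := fun i => (hG _ (hclosed i.1) i.2).choose
  have hQ : ∀ i : I, G (T i.1) (Q i) := fun i => (hG _ (hclosed i.1) i.2).choose_spec
  have hnext : ∀ i : I, next (T i.1) = r (Q i) := fun i => dif_pos ⟨hclosed i.1, i.2⟩
  have hmono : ∀ {j j' : J}, j' < j → T j ⊆ T j' := fun {j j'} h p hp => by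
    rw [hTeq] at hp ⊢
    exact fun j'' hj'' => hp j'' (hj''.trans h)
  refine ⟨I, inferInstance, inferInstance, Q, fun i => T i.1, fun i => ?_, hQ, fun p => ?_,
    fun i => hclosed i.1⟩
  · ext p
    simp only
    rw [hTeq i.1]
    refine ⟨fun hp i' hi' hn => hp i'.1 hi' ((hnext i').symm ▸ hn), fun hp j' hj' hn => ?_⟩
    obtain ⟨q, hq⟩ := i.2
    refine hp ⟨j', q, hmono hj' hq⟩ hj' ?_
    rw [← hnext]
    exact hn
  · by_contra hp
    push Not at hp
    have hall : ∀ j : J, (T j).Nonempty := fun j => ⟨p, by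
      induction j using (wellFounded_lt (α := J)).induction with
      | h j ih =>
        rw [hTeq]
        intro j' hj' hn
        exact hp ⟨j', p, ih j' hj'⟩ ((hnext ⟨j', p, ih j' hj'⟩).symm ▸ hn)⟩
    choose f hf using fun j : J => hne _ _ (hQ ⟨j, hall j⟩) (hall j)
    have hinj : Function.Injective f := by
      intro j k e
      by_contra hjk
      wlog hlt : j < k generalizing j k
      · exact this e.symm (Ne.symm hjk) (lt_of_le_of_ne (not_lt.1 hlt) (Ne.symm hjk))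
      have h1 : f k ∈ T k := hsub _ _ (hQ ⟨k, hall k⟩) (hf k)
      rw [hTeq] at h1
      refine h1 j hlt ?_
      rw [← e]
      exact (hnext ⟨j, hall j⟩).symm ▸ hf j
    exact Function.cantor_injective (f ∘ Index.mk) (hinj.comp fun s t h => congrArg Index.val h)

end Groth.Agent.Lib.Gerbe.Strata
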