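import Groth.Agent.Lib.Gerbe.Smooth
import Groth.Agent.H14.Chart.Points

/-!
Local lifts along gerbes; gerbes are surjective and smooth.
-/

set_option autoImplicit false
set_option backward.isDefEq.respectTransparency false
set_option backward.isDefEq.respectTransparency.types false

universe u

open CategoryTheory CategoryTheory.Limits AlgebraicGeometry Opposite

namespace Groth.Agent.Lib.Gerbe.Surj

open Groth.Agent.Lib.AlgStack
open Groth.Agent.Lib.AlgSpace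
open FibCat (IsEquivOver IsFibGrpd fp fpFst fpSnd fpLift fpIso overCat toSelf)
open AlgSt (ofSp ofSpMap overMap RepByAlgSpWith IsAlgStack)
open AlgSp (Sp yon IsAlgSpace LocP RepWith)
open BasedBasic
open H14.Sep.Lft (vOf)

variable {S : Scheme.{u}} {𝒳 𝒴 : AlgSt.Cat S} {T V : Over S}

/-- Functors from a slice lift along a gerbe locally. -/
theorem exists_lifts (h𝒳 : IsFibGrpd 𝒳.p) (h𝒴 : IsFibGrpd 𝒴.p) (f : 𝒳 ⥤ᵇ 𝒴)
    (hf : Gerb.LocSurjObj (QuotSh.J Scheme.fppfPrecoverage S) f) (z : overCat T ⥤ᵇ 𝒴) :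
    ∃ (I : Type u) (Zs : I → Over S) (g : ∀ i, Zs i ⟶ T) (x : ∀ i, overCat (Zs i) ⥤ᵇ 𝒳),
      (∀ i, Flat (g i).left ∧ LocallyOfFinitePresentation (g i).left) ∧
      (∀ t : T.left, ∃ i s, (g i).left s = t) ∧
      ∀ i, Nonempty (BasedFunctor.comp (x i) f ≅ BasedFunctor.comp (vOf (g i)) z) := by
  let t₀ : (overCat T).obj := Over.mk (𝟙 T)
  have hp : 𝒴.p.obj (z.obj t₀) = T := z.w_obj t₀
  obtain ⟨R, hR, hl⟩ := hf (z.obj t₀)
  obtain ⟨I, Zs, g, p, hpc, hpg, hσ⟩ := AlgSpace.exists_fppfCover_of_mem hR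
  choose o m hm using fun i => hl (g i) (hσ i)
  have ho : ∀ i, 𝒳.p.obj (o i) = Zs i := fun i =>
    (f.w_obj (o i)).symm.trans (IsHomLift.domain_eq 𝒴.p (g i) (m i))
  refine ⟨I, Zs, fun i => g i ≫ eqToHom hp, fun i => Yoneda.fromObj h𝒳 (ho i), fun i => ?_, fun t => ?_, fun i => ?_⟩
  · have hpf : Flat p.left := hpc.1.2
    have hpl : LocallyOfFinitePresentation p.left := hpc.2
    have : IsOpenImmersion (AlgSpace.sigmaOverι Zs i).left := inferInstanceAs (IsOpenImmersion (Sigma.ι _ _))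
    dsimp only
    rw [← hpg i, Over.comp_left, Over.comp_left]
    constructor <;> infer_instance
  · obtain ⟨z', hz⟩ := hpc.1.1.surj ((eqToHom hp.symm).left t)
    obtain ⟨i, y, rfl⟩ := (sigmaOpenCover (fun i => (Zs i).left)).exists_eq z'
    refine ⟨i, y, ?_⟩
    change (g i ≫ eqToHom hp).left y = t
    rw [← hpg i, Over.comp_left, Over.comp_left, Scheme.Hom.comp_apply, Scheme.Hom.comp_apply]
    refine (congrArg (eqToHom hp).left hz).trans ?_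
    rw [← Scheme.Hom.comp_apply, ← Over.comp_left, eqToHom_trans, eqToHom_refl]
    rfl
  · obtain ⟨ε, hε⟩ := Yoneda.exists_fromObj_iso h𝒳 (ho i)
    let g' := g i ≫ eqToHom hp
    have hm' : 𝒴.p.IsHomLift g' (m i) := by
      refine IsHomLift.of_fac' _ _ _ ((f.w_obj (o i)).trans (ho i)) hp ?_
      have := hm i
      rw [IsHomLift.fac' 𝒴.p (g i) (m i)]
      simp [g']
    let c : (overCat T).obj := Over.mk g'
    have hc : 𝒴.p.IsHomLift g' (z.map (Yoneda.toId (c : Over T))) :=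
      Yoneda.map_toId_isHomLift z (Over.mk g')
    obtain ⟨θ, hθ, -⟩ := Fibred.Descent.exists_factor h𝒴 (z.map (Yoneda.toId (c : Over T))) hc (m i) hm'
    have hfe : 𝒴.p.IsHomLift (𝟙 (Zs i)) (f.map ε.hom) :=
      BasedFunctor.preserves_isHomLift f (𝟙 (Zs i)) ε.hom
    let θ' : (BasedFunctor.comp (Yoneda.fromObj h𝒳 (ho i)) f).obj (Over.mk (𝟙 (Zs i))) ⟶
        (BasedFunctor.comp (vOf g') z).obj (Over.mk (𝟙 (Zs i))) :=
      (f.map ε.hom ≫ θ) ≫ eqToHom (congrArg z.obj (congrArg Over.mk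
        (show 𝟙 (Zs i) ≫ g' = g' from Category.id_comp _))).symm
    have : 𝒴.p.IsHomLift (𝟙 (Zs i)) (f.map ε.hom ≫ θ) := inferInstance
    have : 𝒴.p.IsHomLift (𝟙 (Zs i)) θ' := by simp only [θ']; infer_instance
    obtain ⟨β, -⟩ := Yoneda.exists_iso_of_id h𝒴 _ _ θ'
    exact ⟨β⟩

/-- A gerbe is surjective on points. -/
theorem surjective (h𝒳 : IsFibGrpd 𝒳.p) (h𝒴 : IsFibGrpd 𝒴.p) (f : 𝒳 ⥤ᵇ 𝒴)
    (hf : Gerb.LocSurjObj (QuotSh.J Scheme.fppfPrecoverage S) f) : AlgSt.IsSurjective f := fun q => by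
  obtain ⟨T, z, t, rfl⟩ := H14.Chart.Points.exists_ofChart_eq h𝒴 q
  obtain ⟨I, Zs, g, x, -, hcov, hiso⟩ := exists_lifts h𝒳 h𝒴 f hf z
  obtain ⟨i, s, rfl⟩ := hcov t
  obtain ⟨β⟩ := hiso i
  refine ⟨AlgSt.Points.ofChart (x i) s, ?_⟩
  rw [H14.Chart.Points.map_ofChart, H14.Chart.Points.ofChart_iso β]
  exact H14.Chart.Points.ofChart_overMap (g i) z s

/-- The base change of a gerbe, projected to the second factor, is a gerbe. -/
theorem isGerbeOver_fpSnd (h𝒳 : IsFibGrpd 𝒳.p) (h𝒴 : IsFibGrpd 𝒴.p) (f : 𝒳 ⥤ᵇ 𝒴)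
    (hf : Gerb.IsGerbeOver (QuotSh.J Scheme.fppfPrecoverage S) f) (y : overCat V ⥤ᵇ 𝒴) :
    Gerb.IsGerbeOver (QuotSh.J Scheme.fppfPrecoverage S) (fpSnd f y) :=
  Formal.isGerbeOver_comp (QuotSh.J Scheme.fppfPrecoverage S) (F := FibProd.swap f y) (G := fpFst y f)
    (FibProd.isFibGrpd_fp h𝒳 (Yoneda.isFibGrpd_overCat V) h𝒴)
    (FibProd.isFibGrpd_fp (Yoneda.isFibGrpd_overCat V) h𝒳 h𝒴)
    (Formal.isGerbeOver_of_isEquivOver _ (FibProd.isFibGrpd_fp h𝒳 (Yoneda.isFibGrpd_overCat V) h𝒴)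
      (FibProd.isEquivOver_swap f y))
    (Formal.isGerbeOver_fpFst _ y h𝒳 h𝒴 (Yoneda.isFibGrpd_overCat V) hf)

/-- A gerbe is smooth. -/
theorem locQ_smooth (h𝒳 : IsAlgStack Scheme.fppfPrecoverage 𝒳) (h𝒴 : IsAlgStack Scheme.fppfPrecoverage 𝒴)
    (f : 𝒳 ⥤ᵇ 𝒴) (hf : Gerb.IsGerbeOver (QuotSh.J Scheme.fppfPrecoverage S) f) :
    AlgSt.LocQ (LocP @Smooth) f := by
  obtain ⟨V, y, hy, hy'⟩ := h𝒴.atlas
  obtain ⟨U, a, k, ha, ha', ⟨ι⟩⟩ := H14.Chart.LocQ.exists_square h𝒳 h𝒴 f y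
  have hk : AlgebraicGeometry.Smooth k.left := Smooth.smooth_of_gerbe
    (H14.Chart.Basic.isAlgStack_fp h𝒴 h𝒳 (H14.Chart.Basic.isAlgStack_overCat V) f y) (fpSnd f y)
    (isGerbeOver_fpSnd h𝒳.isStack.1 h𝒴.isStack.1 f hf y) a ha k ι
  exact H14.Chart.LocQ.locQ_of_square h𝒳 h𝒴 hy hy' ha ha' ι
    (AlgSpMor.LocP.locP_of_repWith SourceDescent.Scheme.smooth ((AlgSp.repWith_yon_map_iff _ _).2 hk))

end Groth.Agent.Lib.Gerbe.Surj
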